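import Cfsg.Agent.Lib.Fusion.Bicyclic.Rels
import Cfsg.Agent.Lib.Classical.LinearOrder

/-!
The groups realising exotic-looking systems on bicyclic `2`-groups: extensions of the two-dimensional
linear groups over fields of order `5 ^ 2 ^ t` by twisted field automorphisms.
-/

set_option autoImplicit false

namespace CfsgLib.Fusion.Bicyclic.Ambient

open Subgroup
open Matrix (SpecialLinearGroup)

variable {F : Type} [Field F]

/-- Diagonal matrices of determinant one. -/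
def dia : Fˣ →* SpecialLinearGroup (Fin 2) F where
  toFun u := ⟨!![(u : F), 0; 0, ((u⁻¹ : Fˣ) : F)], by
    rw [Matrix.det_fin_two_of, mul_zero, sub_zero, Units.mul_inv]⟩
  map_one' := by
    ext i k
    fin_cases i <;> fin_cases k <;> simp
  map_mul' u w := Subtype.ext (by
    show _ = (!![(u : F), 0; 0, ((u⁻¹ : Fˣ) : F)] : Matrix (Fin 2) (Fin 2) F) *
      !![(w : F), 0; 0, ((w⁻¹ : Fˣ) : F)]
    ext i k
    fin_cases i <;> fin_cases k <;> simp [Matrix.mul_apply, Fin.sum_univ_two, mul_comm])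

theorem dia_val (u : Fˣ) :
    (dia u : Matrix (Fin 2) (Fin 2) F) = !![(u : F), 0; 0, ((u⁻¹ : Fˣ) : F)] := rfl

theorem dia_injective : Function.Injective (dia : Fˣ → SpecialLinearGroup (Fin 2) F) := fun u w h =>
  Units.ext (by
    have h' := congrArg (fun M : SpecialLinearGroup (Fin 2) F => (M : Matrix (Fin 2) (Fin 2) F) 0 0) h
    simpa [dia_val] using h')

/-- The element of order four inverting the diagonal matrices. -/
def swap : SpecialLinearGroup (Fin 2) F :=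
  ⟨!![0, 1; -1, 0], by rw [Matrix.det_fin_two_of]; ring⟩

theorem swap_val : ((swap : SpecialLinearGroup (Fin 2) F) : Matrix (Fin 2) (Fin 2) F) = !![0, 1; -1, 0] :=
  rfl

theorem swap_mul_swap : (swap * swap : SpecialLinearGroup (Fin 2) F) = dia (-1) := by
  ext i k
  fin_cases i <;> fin_cases k <;>
    simp [swap_val, dia_val, Matrix.mul_apply, Fin.sum_univ_two]

theorem swap_mul_dia (u : Fˣ) : swap * dia u = dia u⁻¹ * (swap : SpecialLinearGroup (Fin 2) F) := by
  ext i k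
  fin_cases i <;> fin_cases k <;>
    simp [swap_val, dia_val, Matrix.mul_apply, Fin.sum_univ_two]

theorem swap_mul_dia_ne (u : Fˣ) (w : Fˣ) : (swap * dia u : SpecialLinearGroup (Fin 2) F) ≠ dia w :=
  fun h => w.ne_zero (by
    have h' := congrArg (fun M : SpecialLinearGroup (Fin 2) F => (M : Matrix (Fin 2) (Fin 2) F) 0 0) h
    simpa [swap_val, dia_val, Matrix.mul_apply, Fin.sum_univ_two] using h'.symm)

/-- The central elements among the diagonal ones. -/
theorem dia_comm {u : Fˣ} (hu : u * u = 1) (M : SpecialLinearGroup (Fin 2) F) :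
    dia u * M = M * dia u := by
  have hinv : u⁻¹ = u := inv_eq_of_mul_eq_one_left hu
  ext i k
  fin_cases i <;> fin_cases k <;>
    simp [dia_val, Matrix.mul_apply, Fin.sum_univ_two, hinv, mul_comm]

/-- An element of order four is conjugate to a diagonal one. -/
theorem swap_conj (h2 : (2 : F) ≠ 0) {w : Fˣ} (hw : w * w = -1) :
    ∃ P : SpecialLinearGroup (Fin 2) F, P * swap * P⁻¹ = dia w := by
  have hw' : (w : F) * w = -1 := by rw [← Units.val_mul, hw]; simp
  set s : F := (-2 * (w : F))⁻¹ with hs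
  have hs1 : s * (-2 * (w : F)) = 1 :=
    inv_mul_cancel₀ (mul_ne_zero (neg_ne_zero.2 h2) w.ne_zero)
  obtain ⟨Q, hQ⟩ : ∃ Q : SpecialLinearGroup (Fin 2) F,
      (Q : Matrix (Fin 2) (Fin 2) F) = !![s, 1; (w : F) * s, -(w : F)] :=
    ⟨⟨!![s, 1; (w : F) * s, -(w : F)], by rw [Matrix.det_fin_two_of]; linear_combination hs1⟩, rfl⟩
  refine ⟨Q⁻¹, ?_⟩
  rw [inv_inv, mul_assoc, inv_mul_eq_iff_eq_mul]
  have hinv : ((w⁻¹ : Fˣ) : F) = -(w : F) := by
    rw [Units.val_inv_eq_inv_val]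
    exact inv_eq_of_mul_eq_one_right (by linear_combination -hw')
  ext i k
  fin_cases i <;> fin_cases k <;>
    simp [hQ, swap_val, dia_val, Matrix.mul_apply, Fin.sum_univ_two, hinv, ← mul_assoc, hw'] <;>
    first
      | ring1
      | linear_combination -s * hw'

/-- Conjugation by `diag(1, d)`. -/
def twist (d : Fˣ) : SpecialLinearGroup (Fin 2) F →* SpecialLinearGroup (Fin 2) F where
  toFun M := ⟨!![(M : Matrix (Fin 2) (Fin 2) F) 0 0, ((d⁻¹ : Fˣ) : F) * (M : Matrix (Fin 2) (Fin 2) F) 0 1;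
      (d : F) * (M : Matrix (Fin 2) (Fin 2) F) 1 0, (M : Matrix (Fin 2) (Fin 2) F) 1 1], by
    rw [Matrix.det_fin_two_of, show ((d⁻¹ : Fˣ) : F) * (M : Matrix (Fin 2) (Fin 2) F) 0 1 *
      ((d : F) * (M : Matrix (Fin 2) (Fin 2) F) 1 0) = (((d⁻¹ : Fˣ) : F) * d) *
        ((M : Matrix (Fin 2) (Fin 2) F) 0 1 * (M : Matrix (Fin 2) (Fin 2) F) 1 0) by ring,
      Units.inv_mul, one_mul, ← Matrix.det_fin_two, M.2]⟩
  map_one' := by
    ext i k
    fin_cases i <;> fin_cases k <;> simp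
  map_mul' M M' := Subtype.ext (by
    show _ = (!![(M : Matrix (Fin 2) (Fin 2) F) 0 0,
      ((d⁻¹ : Fˣ) : F) * (M : Matrix (Fin 2) (Fin 2) F) 0 1;
      (d : F) * (M : Matrix (Fin 2) (Fin 2) F) 1 0, (M : Matrix (Fin 2) (Fin 2) F) 1 1] :
        Matrix (Fin 2) (Fin 2) F) * !![(M' : Matrix (Fin 2) (Fin 2) F) 0 0,
      ((d⁻¹ : Fˣ) : F) * (M' : Matrix (Fin 2) (Fin 2) F) 0 1;
      (d : F) * (M' : Matrix (Fin 2) (Fin 2) F) 1 0, (M' : Matrix (Fin 2) (Fin 2) F) 1 1]
    have h : ((d⁻¹ : Fˣ) : F) * d = 1 := Units.inv_mul d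
    ext i k
    fin_cases i <;> fin_cases k <;>
      simp [Matrix.mul_apply, Fin.sum_univ_two] <;> field_simp)

theorem twist_val (d : Fˣ) (M : SpecialLinearGroup (Fin 2) F) :
    (twist d M : Matrix (Fin 2) (Fin 2) F) = !![(M : Matrix (Fin 2) (Fin 2) F) 0 0,
      ((d⁻¹ : Fˣ) : F) * (M : Matrix (Fin 2) (Fin 2) F) 0 1;
      (d : F) * (M : Matrix (Fin 2) (Fin 2) F) 1 0, (M : Matrix (Fin 2) (Fin 2) F) 1 1] := rfl

variable [Fintype F] [ExpChar F 5]

/-- The twisted field automorphism. -/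
noncomputable def sig (ξ : Fˣ) (j : ℕ) : MulAut (SpecialLinearGroup (Fin 2) F) :=
  MulEquiv.ofBijective
    ((twist ξ).comp (SpecialLinearGroup.map (iterateFrobenius F 5 j)))
    (Finite.injective_iff_bijective.1 (by
      intro M M' h
      ext i k
      have e := congrArg (fun T : SpecialLinearGroup (Fin 2) F => (T : Matrix (Fin 2) (Fin 2) F) i k) h
      have hφ : Function.Injective (iterateFrobenius F 5 j) := RingHom.injective _
      fin_cases i <;> fin_cases k <;> simp [twist_val, SpecialLinearGroup.map_apply_coe] at e <;> exact hφ e))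

theorem sig_apply (ξ : Fˣ) (j : ℕ) (M : SpecialLinearGroup (Fin 2) F) :
    (sig ξ j M : Matrix (Fin 2) (Fin 2) F) =
      !![(M : Matrix (Fin 2) (Fin 2) F) 0 0 ^ 5 ^ j,
        ((ξ⁻¹ : Fˣ) : F) * (M : Matrix (Fin 2) (Fin 2) F) 0 1 ^ 5 ^ j;
        (ξ : F) * (M : Matrix (Fin 2) (Fin 2) F) 1 0 ^ 5 ^ j,
        (M : Matrix (Fin 2) (Fin 2) F) 1 1 ^ 5 ^ j] := by
  rw [sig, MulEquiv.ofBijective_apply, MonoidHom.comp_apply, twist_val]
  ext a b
  fin_cases a <;> fin_cases b <;> simp [iterateFrobenius_def, SpecialLinearGroup.map_apply_coe]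

theorem sig_pow_apply (ξ : Fˣ) (j i : ℕ) (M : SpecialLinearGroup (Fin 2) F) :
    ((sig ξ j ^ i) M : Matrix (Fin 2) (Fin 2) F) =
      !![(M : Matrix (Fin 2) (Fin 2) F) 0 0 ^ (5 ^ j) ^ i,
        ((ξ⁻¹ : Fˣ) : F) ^ (∑ l ∈ Finset.range i, (5 ^ j) ^ l) *
          (M : Matrix (Fin 2) (Fin 2) F) 0 1 ^ (5 ^ j) ^ i;
        (ξ : F) ^ (∑ l ∈ Finset.range i, (5 ^ j) ^ l) *
          (M : Matrix (Fin 2) (Fin 2) F) 1 0 ^ (5 ^ j) ^ i,
        (M : Matrix (Fin 2) (Fin 2) F) 1 1 ^ (5 ^ j) ^ i] := by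
  induction i with
  | zero =>
    ext a b
    fin_cases a <;> fin_cases b <;> simp
  | succ i ih =>
    rw [pow_succ' (sig ξ j), MulAut.mul_apply, sig_apply, ih, geom_sum_succ, pow_succ (5 ^ j) i]
    ext a b
    fin_cases a <;> fin_cases b <;> simp [mul_pow, ← pow_mul, pow_succ', mul_assoc, mul_comm (5 ^ j)]

theorem sig_dia (ξ : Fˣ) (j : ℕ) (u : Fˣ) : sig ξ j (dia u) = dia (u ^ 5 ^ j) := by
  refine Subtype.ext ?_
  rw [sig_apply]
  ext a b
  fin_cases a <;> fin_cases b <;> simp [dia_val, zero_pow, -map_pow]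

theorem sig_swap (ξ : Fˣ) (j : ℕ) : sig ξ j swap = swap * dia ξ := by
  refine Subtype.ext ?_
  rw [sig_apply]
  ext a b
  fin_cases a <;> fin_cases b <;>
    simp [swap_val, dia_val, Matrix.mul_apply, Fin.sum_univ_two, zero_pow,
      Odd.neg_one_pow (show Odd (5 ^ j) from (by decide : Odd 5).pow)]

theorem card_SL_two : Nat.card (SpecialLinearGroup (Fin 2) F) = Fintype.card F * (Fintype.card F ^ 2 - 1) := by
  have h := CfsgLib.Classical.card_SL (F := F) 2 (by norm_num)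
  have hq : 1 < Fintype.card F := Fintype.one_lt_card
  refine Nat.eq_of_mul_eq_mul_left (show 0 < Fintype.card F - 1 by omega) (h.trans ?_)
  rw [Fin.prod_univ_two]
  simp only [Fin.val_zero, Fin.val_one, pow_zero, pow_one]
  rw [show Fintype.card F ^ 2 - Fintype.card F = Fintype.card F * (Fintype.card F - 1) by
    rw [Nat.mul_sub_one, pow_two]]
  ring

theorem sig_pow_dia (ξ : Fˣ) (j k : ℕ) (u : Fˣ) :
    (sig ξ j ^ k) (dia u) = dia (u ^ (5 ^ j) ^ k) := by
  induction k with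
  | zero => simp
  | succ k ih => rw [pow_succ', MulAut.mul_apply, ih, sig_dia, ← pow_mul, ← pow_succ]

set_option maxHeartbeats 1000000 in
/-- The ambient group of a set of parameters. -/
theorem exists_ambient {n r j v ε : ℕ} (hn : 1 ≤ n) (hε : ε ≤ 1) (hεn : ε = 1 → 2 ≤ n)
    (hsum : (2 : ℤ) ^ (n + 1 - ε) ∣ (∑ i ∈ Finset.range (2 ^ r), ((5 : ℤ) ^ j) ^ i) + 2 * v)
    (hfix : (2 : ℤ) ^ n ∣ v * ((5 : ℤ) ^ j - 1)) :
    ∃ (G : Type) (_ : Group G) (_ : Finite G) (A B C : G),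
      Rels A B C n r (5 ^ j) v ε ∧
      (∀ i e k : ℕ, i < 2 ^ r → e < 2 → k < 2 ^ n → A ^ i * B ^ e * C ^ k = 1 →
        i = 0 ∧ e = 0 ∧ k = 0) ∧
      (∃ o, Odd o ∧ Nat.card G = 2 ^ (r + 1 + n) * o) ∧ ∃ (g : G) (m : ℕ), g * B * g⁻¹ = C ^ m := by
  classical
  obtain ⟨t, ht⟩ : ∃ t, n + 1 - ε = t + 2 := ⟨n + 1 - ε - 2, by omega⟩
  set M := t + 2 with hM
  rw [ht] at hsum
  have hnM : n ≤ M := by omega
  haveI : Fact (Nat.Prime 5) := ⟨by norm_num⟩
  let F := GaloisField 5 (2 ^ t)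
  letI : Fintype F := Fintype.ofFinite F
  haveI : ExpChar F 5 := ExpChar.prime (by norm_num)
  have hq : Fintype.card F = 5 ^ 2 ^ t := by
    rw [← Nat.card_eq_fintype_card, GaloisField.card 5 (2 ^ t) (pow_ne_zero _ two_ne_zero)]
  obtain ⟨o, ho, hq1⟩ : ∃ o, Odd o ∧ Fintype.card F = 1 + 2 ^ M * o := by
    obtain ⟨w, hw⟩ := five_pow_two_pow t
    have hw0 : 0 ≤ w := by
      by_contra h
      have h1 : (0 : ℤ) < 5 ^ 2 ^ t := by positivity
      have h4 : (4 : ℤ) ≤ 2 ^ M := by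
        rw [hM, show (4 : ℤ) = 2 ^ 2 by norm_num]
        exact pow_le_pow_right₀ (by norm_num) (by omega)
      nlinarith
    obtain ⟨w, rfl⟩ := Int.eq_ofNat_of_zero_le hw0
    refine ⟨2 * w + 1, ⟨w, rfl⟩, ?_⟩
    rw [hq]
    exact_mod_cast hw
  obtain ⟨γ, hγ⟩ := IsCyclic.exists_generator (α := Fˣ)
  have hγo : orderOf γ = 2 ^ M * o := by
    rw [orderOf_eq_card_of_forall_mem_zpowers hγ, Nat.card_units, Nat.card_eq_fintype_card, hq1]
    omega
  obtain ⟨ξ, hξdef⟩ : ∃ ξ : Fˣ, ξ = γ ^ o := ⟨_, rfl⟩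
  have hξo : orderOf ξ = 2 ^ M := by
    rw [hξdef, orderOf_pow_of_dvd ho.pos.ne' (hγo ▸ dvd_mul_left _ _), hγo,
      Nat.mul_div_cancel _ ho.pos]
  have hξ : ∀ a b : ℤ, ξ ^ a = ξ ^ b ↔ (2 : ℤ) ^ M ∣ a - b := fun a b => by
    rw [← mul_inv_eq_one, ← zpow_sub, ← orderOf_dvd_iff_zpow_eq_one, hξo]
    push_cast
    rfl
  have hξm : ξ ^ 2 ^ (M - 1) = -1 := by
    have hne : ξ ^ 2 ^ (M - 1) ≠ 1 := fun h => by
      have h' := Nat.le_of_dvd (by positivity) (hξo ▸ orderOf_dvd_of_pow_eq_one h)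
      exact absurd ((Nat.pow_le_pow_iff_right (by norm_num)).1 h') (by omega)
    have hsq : ξ ^ 2 ^ (M - 1) * ξ ^ 2 ^ (M - 1) = 1 := by
      rw [← pow_add, ← two_mul, ← pow_succ', Nat.sub_add_cancel (by omega), ← hξo, pow_orderOf_eq_one]
    rcases mul_self_eq_one_iff.1 (congrArg Units.val hsq) with h | h
    · exact absurd (Units.ext h) hne
    · exact Units.ext (by rw [h]; simp)
  have hcen : ∀ a : ℤ, (2 : ℤ) ^ n ∣ a → ∀ m : SpecialLinearGroup (Fin 2) F,
      dia (ξ ^ a) * m = m * dia (ξ ^ a) := by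
    rintro a ⟨l, rfl⟩ m
    refine dia_comm ?_ m
    rw [← zpow_add, ← zpow_zero ξ, hξ, sub_zero]
    refine dvd_trans (pow_dvd_pow 2 (show M ≤ n + 1 by omega)) ⟨l, by rw [pow_succ]; ring⟩
  set σ := sig ξ j with hσ
  set N := 2 ^ r with hN
  -- the `N`-th power of the twisted automorphism is inner
  have hσN : σ ^ N = MulAut.conj (dia (ξ ^ (v : ℤ))) := by
    have hj : 2 ^ t ∣ j * N := by
      refine two_pow_dvd_of_five ?_
      have hg := geom_sum_mul ((5 : ℤ) ^ j) N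
      rw [← pow_mul] at hg
      rw [← hg]
      have h2 : (2 : ℤ) ^ (t + 2) ∣ 2 * (v * ((5 : ℤ) ^ j - 1)) :=
        dvd_trans (pow_dvd_pow 2 (show t + 2 ≤ n + 1 by omega))
          (by rw [pow_succ']; exact mul_dvd_mul_left 2 hfix)
      have := dvd_sub (hsum.mul_right ((5 : ℤ) ^ j - 1)) h2
      refine (dvd_of_eq ?_).trans (this.trans (dvd_of_eq ?_))
      · rfl
      · ring
    have hfrob : ∀ x : F, x ^ (5 ^ j) ^ N = x := fun x => by
      obtain ⟨l, hl⟩ := hj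
      rw [← pow_mul 5, hl, pow_mul, ← hq]
      exact FiniteField.pow_card_pow l x
    set S := ∑ l ∈ Finset.range N, (5 ^ j) ^ l with hS
    have hsum' : ξ ^ ((S : ℤ) + 2 * v) = 1 := by
      rw [← zpow_zero ξ, hξ, sub_zero]
      rw [hS]
      push_cast
      exact hsum
    refine MulEquiv.ext fun m => ?_
    rw [MulAut.conj_apply, eq_mul_inv_iff_mul_eq]
    refine Subtype.ext ?_
    show ((σ ^ N) m : Matrix (Fin 2) (Fin 2) F) *
        (dia (ξ ^ (v : ℤ)) : Matrix (Fin 2) (Fin 2) F) =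
      (dia (ξ ^ (v : ℤ)) : Matrix (Fin 2) (Fin 2) F) * (m : Matrix (Fin 2) (Fin 2) F)
    rw [hσ, sig_pow_apply, zpow_natCast, dia_val]
    have h1 : (ξ : F) ^ S * (ξ : F) ^ v * (ξ : F) ^ v = 1 := by
      rw [← Units.val_pow_eq_pow_val, ← Units.val_pow_eq_pow_val, ← Units.val_mul, ← Units.val_mul,
        ← pow_add, ← pow_add, ← zpow_natCast, show ((S + v + v : ℕ) : ℤ) = (S : ℤ) + 2 * v by
          push_cast; ring, hsum', Units.val_one]
    have hu : ∀ k : ℕ, (((ξ ^ k : Fˣ)⁻¹ : Fˣ) : F) * (ξ : F) ^ k = 1 := fun k => by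
      rw [← Units.val_pow_eq_pow_val, Units.inv_mul]
    have hu' : ∀ k : ℕ, (((ξ ^ k : Fˣ)⁻¹ : Fˣ) : F) = ((ξ⁻¹ : Fˣ) : F) ^ k := fun k => by
      rw [← inv_pow, Units.val_pow_eq_pow_val]
    have hi1 : ((ξ⁻¹ : Fˣ) : F) * (ξ : F) = 1 := Units.inv_mul ξ
    have h3 : ((ξ⁻¹ : Fˣ) : F) ^ S * ((ξ⁻¹ : Fˣ) : F) ^ v = (ξ : F) ^ v := by
      calc ((ξ⁻¹ : Fˣ) : F) ^ S * ((ξ⁻¹ : Fˣ) : F) ^ v
          = ((ξ⁻¹ : Fˣ) : F) ^ S * ((ξ⁻¹ : Fˣ) : F) ^ v *
              ((ξ : F) ^ S * (ξ : F) ^ v * (ξ : F) ^ v) := by rw [h1, mul_one]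
        _ = (((ξ⁻¹ : Fˣ) : F) * ξ) ^ S * (((ξ⁻¹ : Fˣ) : F) * ξ) ^ v * (ξ : F) ^ v := by ring
        _ = _ := by rw [hi1, one_pow, one_pow, one_mul, one_mul]
    have h4 : (ξ : F) ^ S * (ξ : F) ^ v = ((ξ⁻¹ : Fˣ) : F) ^ v := by
      calc (ξ : F) ^ S * (ξ : F) ^ v = (ξ : F) ^ S * (ξ : F) ^ v *
              (((ξ⁻¹ : Fˣ) : F) * ξ) ^ v := by rw [hi1, one_pow, mul_one]
        _ = ((ξ : F) ^ S * (ξ : F) ^ v * (ξ : F) ^ v) * ((ξ⁻¹ : Fˣ) : F) ^ v := by ring
        _ = _ := by rw [h1, one_mul]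
    rw [hu' v, Units.val_pow_eq_pow_val]
    simp only [hfrob, ← hS]
    generalize (m : Matrix (Fin 2) (Fin 2) F) = T at *
    ext a b
    fin_cases a <;> fin_cases b <;>
      simp [Matrix.mul_apply, Fin.sum_univ_two, -Units.val_inv_eq_inv_val]
    · ring
    · linear_combination (T 0 1) * h3
    · linear_combination (T 1 0) * h4
    · ring
  set K := N * 2 ^ M with hK
  haveI : NeZero K := ⟨by positivity⟩
  have hσK : σ ^ K = 1 := by
    rw [hK, pow_mul, hσN, ← map_pow, ← map_pow, ← zpow_natCast, ← zpow_mul,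
      show ξ ^ ((v : ℤ) * ((2 ^ M : ℕ) : ℤ)) = 1 by
        rw [← zpow_zero ξ, hξ, sub_zero]; push_cast; exact dvd_mul_left _ _, map_one, map_one]
  let φ : Multiplicative (ZMod K) →* MulAut (SpecialLinearGroup (Fin 2) F) :=
    { toFun := fun x => σ ^ x.toAdd.val
      map_one' := by simp
      map_mul' := fun x y => by
        rw [toAdd_mul, ZMod.val_add, ← pow_add, ← pow_eq_pow_mod _ hσK] }
  have hφ : ∀ i : ℕ, φ (Multiplicative.ofAdd (i : ZMod K)) = σ ^ i := fun i => by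
    show σ ^ ((i : ZMod K)).val = σ ^ i
    rw [ZMod.val_natCast, ← pow_eq_pow_mod _ hσK]
  set τN : Multiplicative (ZMod K) := Multiplicative.ofAdd ((N : ℕ) : ZMod K) with hτN
  have hφN : ∀ i : ℤ, φ (τN ^ i) = MulAut.conj (dia (ξ ^ ((v : ℤ) * i))) := fun i => by
    rw [map_zpow, hτN, hφ, hσN, ← map_zpow, ← map_zpow, ← zpow_mul]
  have hτ : ∀ i : ℤ, τN ^ i = 1 ↔ (2 : ℤ) ^ M ∣ i := fun i => by
    rw [hτN, ← ofAdd_zsmul, ← ofAdd_zero, Multiplicative.ofAdd.injective.eq_iff, zsmul_eq_mul,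
      show (i : ZMod K) * ((N : ℕ) : ZMod K) = ((i * N : ℤ) : ZMod K) by push_cast; rfl,
      ZMod.intCast_zmod_eq_zero_iff_dvd, hK]
    push_cast
    rw [mul_comm i, mul_dvd_mul_iff_left (by positivity)]
  have hdcomm : ∀ u w : Fˣ, (MulAut.conj (dia u)) (dia w) = dia w := fun u w => by
    rw [MulAut.conj_apply, ← map_mul, mul_comm, map_mul, mul_inv_cancel_right]
  let W : Subgroup (SpecialLinearGroup (Fin 2) F ⋊[φ] Multiplicative (ZMod K)) :=
    { carrier := {x | ∃ e i : ℤ, x.left = dia (ξ ^ e) ∧ x.right = τN ^ i ∧ (2 : ℤ) ^ n ∣ e + v * i}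
      one_mem' := ⟨0, 0, by simp, by simp, by simp⟩
      mul_mem' := by
        rintro a b ⟨e, i, hl, hr, hd⟩ ⟨e', i', hl', hr', hd'⟩
        refine ⟨e + e', i + i', ?_, ?_, ?_⟩
        · rw [SemidirectProduct.mul_left, hl, hl', hr, hφN, hdcomm, ← map_mul, ← zpow_add]
        · rw [SemidirectProduct.mul_right, hr, hr', ← zpow_add]
        · rw [show e + e' + v * (i + i') = (e + v * i) + (e' + v * i') by ring]
          exact dvd_add hd hd'
      inv_mem' := by
        rintro a ⟨e, i, hl, hr, hd⟩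
        refine ⟨-e, -i, ?_, ?_, ?_⟩
        · rw [SemidirectProduct.inv_left, hl, ← map_inv, hr, ← zpow_neg τN, hφN, hdcomm, ← zpow_neg]
        · rw [SemidirectProduct.inv_right, hr, zpow_neg]
        · rw [show -e + v * -i = -(e + v * i) by ring]
          exact dvd_neg.2 hd }
  have hWmem : ∀ e i : ℤ, (2 : ℤ) ^ n ∣ e + v * i →
      (⟨dia (ξ ^ e), τN ^ i⟩ : SpecialLinearGroup (Fin 2) F ⋊[φ] Multiplicative (ZMod K)) ∈ W :=
    fun e i h => ⟨e, i, rfl, rfl, h⟩
  have hWn : W.Normal := by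
    refine ⟨fun w hw g => ?_⟩
    obtain ⟨e, i, hl, hr, hd⟩ := hw
    have hw : w = ⟨dia (ξ ^ e), τN ^ i⟩ := SemidirectProduct.ext hl hr
    subst hw
    have hinr : ∀ x : Multiplicative (ZMod K),
        SemidirectProduct.inr x * (⟨dia (ξ ^ e), τN ^ i⟩ : SpecialLinearGroup (Fin 2) F ⋊[φ] _) *
          (SemidirectProduct.inr x)⁻¹ = ⟨φ x (dia (ξ ^ e)), τN ^ i⟩ := fun x => by
      refine SemidirectProduct.ext ?_ ?_
      · simp [-SemidirectProduct.mk_eq_inl_mul_inr, -map_zpow]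
      · simp [-SemidirectProduct.mk_eq_inl_mul_inr, mul_comm x]
    rw [← SemidirectProduct.inl_left_mul_inr_right g, mul_inv_rev, ← mul_assoc,
      mul_assoc (SemidirectProduct.inl g.left), mul_assoc (SemidirectProduct.inl g.left), hinr]
    have hx : ∃ e' : ℤ, φ g.right (dia (ξ ^ e)) = dia (ξ ^ e') ∧ (2 : ℤ) ^ n ∣ e' + v * i := by
      refine ⟨e * ((5 : ℤ) ^ j) ^ g.right.toAdd.val, ?_, ?_⟩
      · show (σ ^ g.right.toAdd.val) (dia (ξ ^ e)) = _
        rw [hσ, sig_pow_dia, ← zpow_natCast, ← zpow_mul]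
        push_cast
        rfl
      · set k := g.right.toAdd.val
        have h1 : (2 : ℤ) ^ n ∣ (v * (((5 : ℤ) ^ j) ^ k - 1)) * i :=
          ((hfix.trans (mul_dvd_mul_left _ (sub_one_dvd_pow_sub_one _ k))).mul_right i)
        have := dvd_sub (hd.mul_right (((5 : ℤ) ^ j) ^ k)) h1
        rwa [show (e + (v : ℤ) * i) * ((5 : ℤ) ^ j) ^ k - v * (((5 : ℤ) ^ j) ^ k - 1) * i =
          e * ((5 : ℤ) ^ j) ^ k + v * i by ring] at this
    obtain ⟨e', he', hd'⟩ := hx
    rw [he']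
    refine ⟨e', i, ?_, by simp [-SemidirectProduct.mk_eq_inl_mul_inr], hd'⟩
    rw [SemidirectProduct.mul_left, SemidirectProduct.mul_left]
    simp only [SemidirectProduct.left_inl, SemidirectProduct.right_inl, SemidirectProduct.mul_right,
      map_one, one_mul, MulAut.one_apply, SemidirectProduct.inv_left, inv_one]
    rw [hφN, MulAut.conj_apply]
    have hc := hcen _ hd' g.left⁻¹
    rw [zpow_add, map_mul] at hc
    generalize dia (ξ ^ e') = D at hc ⊢
    generalize dia (ξ ^ ((v : ℤ) * i)) = C at hc ⊢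
    generalize g.left = u at hc ⊢
    calc _ = u * (D * C * u⁻¹) * C⁻¹ := by group
      _ = D := by rw [hc]; group
  let π := QuotientGroup.mk' W
  have hπ : ∀ {x y : SpecialLinearGroup (Fin 2) F ⋊[φ] Multiplicative (ZMod K)},
      π x = π y ↔ x⁻¹ * y ∈ W := fun {x y} => QuotientGroup.eq
  let τ : Multiplicative (ZMod K) := Multiplicative.ofAdd 1
  have hτpow : ∀ i : ℕ, τ ^ i = Multiplicative.ofAdd (i : ZMod K) := fun i => by
    rw [← ofAdd_nsmul, nsmul_eq_mul, mul_one]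
  have hτ1 : φ τ = σ := by
    have := hφ 1
    rwa [Nat.cast_one, pow_one] at this
  refine ⟨_ ⧸ W, inferInstance, ?_, π (SemidirectProduct.inr τ),
    π (SemidirectProduct.inl swap), π (SemidirectProduct.inl (dia ξ)), ?_, ?_, ?_, ?_⟩
  · haveI : Finite (SpecialLinearGroup (Fin 2) F ⋊[φ] Multiplicative (ZMod K)) :=
      Finite.of_equiv _ SemidirectProduct.equivProd.symm
    infer_instance
  · constructor
    · rw [← map_inv, ← map_mul, ← map_mul, ← map_mul, ← map_inv,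
        show SemidirectProduct.inr τ * SemidirectProduct.inl (swap : SpecialLinearGroup (Fin 2) F) *
          SemidirectProduct.inr τ⁻¹ = SemidirectProduct.inl (φ τ swap) from
            (SemidirectProduct.inl_aut _ _).symm, hτ1, hσ, sig_swap, map_mul]
    · rw [← map_inv, ← map_mul, ← map_mul, ← map_pow, ← map_inv,
        show SemidirectProduct.inr τ * SemidirectProduct.inl (dia ξ) *
          SemidirectProduct.inr τ⁻¹ = SemidirectProduct.inl (φ τ (dia ξ)) from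
            (SemidirectProduct.inl_aut _ _).symm, hτ1, hσ, sig_dia, map_pow dia, map_pow SemidirectProduct.inl]
    · rw [← map_inv, ← map_mul, ← map_mul, ← map_inv, ← map_inv, ← map_inv, ← map_mul, ← map_mul,
        swap_mul_dia, mul_inv_cancel_right, map_inv]
    · rw [← map_pow, ← map_pow π, ← map_pow, pow_two, swap_mul_swap, ← hξm, ← map_pow, ← map_pow,
        hπ, ← map_inv, ← map_inv, ← map_mul, ← map_mul]
      rw [← zpow_natCast, ← zpow_natCast, ← zpow_neg, ← zpow_add]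
      refine ⟨_, 0, rfl, by rw [SemidirectProduct.right_inl, zpow_zero], ?_⟩
      rcases Nat.le_one_iff_eq_zero_or_eq_one.1 hε with rfl | rfl
      · rw [show M - 1 = n by omega]
        push_cast
        simp
      · rw [show M - 1 = n - 1 by omega]
        push_cast
        simp
    · rw [← map_pow π, ← map_pow π, hπ, ← map_pow SemidirectProduct.inr, ← map_pow SemidirectProduct.inl,
        ← map_inv SemidirectProduct.inr]
      refine ⟨v, -1, ?_, ?_, ⟨0, by ring⟩⟩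
      · rw [SemidirectProduct.mul_left, SemidirectProduct.left_inr, SemidirectProduct.right_inr,
          SemidirectProduct.left_inl, one_mul, hτpow,
          show (Multiplicative.ofAdd ((2 ^ r : ℕ) : ZMod K))⁻¹ = τN ^ (-1 : ℤ) by
            rw [zpow_neg_one, hτN, hN],
          hφN, ← map_pow, hdcomm, zpow_natCast]
      · rw [SemidirectProduct.mul_right, SemidirectProduct.right_inr, SemidirectProduct.right_inl,
          mul_one, hτpow, zpow_neg_one, hτN, hN]
    · rw [← map_pow, ← map_one π, hπ, ← map_pow, ← map_inv, mul_one, ← map_pow, ← map_inv,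
        ← zpow_natCast, ← zpow_neg]
      exact ⟨_, 0, rfl, by rw [SemidirectProduct.right_inl, zpow_zero], by push_cast; simp⟩
  · intro i e k hi he hk h
    rw [← map_pow, ← map_pow π, ← map_pow π, ← map_mul π, ← map_mul π] at h
    obtain ⟨e', l, hl, hr, hd⟩ := (QuotientGroup.eq_one_iff _).1 h
    simp only [← map_pow, mul_assoc, ← map_mul] at hl hr
    rw [SemidirectProduct.mul_right, SemidirectProduct.right_inr, SemidirectProduct.right_inl,
      mul_one, hτpow, hτN, ← ofAdd_zsmul, zsmul_eq_mul, Multiplicative.ofAdd.injective.eq_iff,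
      show (l : ZMod K) * ((N : ℕ) : ZMod K) = ((l * N : ℤ) : ZMod K) by push_cast; rfl,
      show ((i : ℕ) : ZMod K) = ((i : ℤ) : ZMod K) by push_cast; rfl,
      ZMod.intCast_eq_intCast_iff_dvd_sub] at hr
    have hi0 : i = 0 := by
      have h1 : (N : ℤ) ∣ l * N - i := dvd_trans ⟨(2 ^ M : ℕ), by rw [hK]; push_cast; rfl⟩ hr
      have h2 : (N : ℤ) ∣ (i : ℤ) := by simpa using dvd_sub (dvd_mul_left (N : ℤ) l) h1
      exact Nat.eq_zero_of_dvd_of_lt (by exact_mod_cast h2) hi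
    subst hi0
    have hl0 : (2 : ℤ) ^ M ∣ l := by
      rw [hK, Nat.cast_zero, sub_zero, mul_comm l] at hr
      push_cast at hr
      exact (mul_dvd_mul_iff_left (by positivity)).1 hr
    rw [SemidirectProduct.mul_left, SemidirectProduct.left_inr, SemidirectProduct.right_inr, pow_zero,
      map_one, SemidirectProduct.left_inl, one_mul, MulAut.one_apply] at hl
    rcases (by omega : e = 0 ∨ e = 1) with rfl | rfl
    · refine ⟨rfl, rfl, ?_⟩
      rw [pow_zero, one_mul] at hl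
      have hk' : (2 : ℤ) ^ n ∣ (k : ℤ) := by
        have h1 : (2 : ℤ) ^ M ∣ (k : ℤ) - e' := (hξ _ _).1 (by rw [zpow_natCast]; exact dia_injective hl)
        have h2 := dvd_add ((pow_dvd_pow 2 hnM).trans h1)
          (dvd_sub hd (((pow_dvd_pow 2 hnM).trans hl0).mul_left (v : ℤ)))
        simpa using h2
      exact Nat.eq_zero_of_dvd_of_lt (by exact_mod_cast hk') hk
    · rw [pow_one] at hl
      exact absurd hl (swap_mul_dia_ne _ _)
  · -- the order
    have hL : 0 < 2 ^ (M - n) := by positivity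
    let f : Fin (2 ^ (M - n)) × Fin (2 ^ M) → W := fun p =>
      ⟨⟨dia (ξ ^ ((2 : ℤ) ^ n * (p.1 : ℕ) - v * (p.2 : ℕ))), τN ^ ((p.2 : ℕ) : ℤ)⟩,
        hWmem _ _ ⟨(p.1 : ℕ), by ring⟩⟩
    have hpow : (2 : ℤ) ^ M = 2 ^ n * 2 ^ (M - n) := by rw [← pow_add, Nat.add_sub_cancel' hnM]
    have hf : Function.Bijective f := by
      constructor
      · rintro ⟨a, b⟩ ⟨a', b'⟩ hab
        have h0 := congrArg Subtype.val hab
        have h1 := congrArg SemidirectProduct.left h0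
        have h2 := congrArg SemidirectProduct.right h0
        simp only [f] at h1 h2
        rw [← mul_inv_eq_one, ← zpow_sub, hτ] at h2
        have hb : (b : ℕ) = b' := by
          have hh : ((2 ^ M : ℕ) : ℤ) ∣ ((b : ℕ) : ℤ) - ((b' : ℕ) : ℤ) := by push_cast; exact h2
          exact Nat.ModEq.eq_of_lt_of_lt (Nat.modEq_iff_dvd.2 hh).symm b.2 b'.2
        have h3 := (hξ _ _).1 (dia_injective h1)
        rw [hb, show (2 : ℤ) ^ n * (a : ℕ) - v * (b' : ℕ) - (2 ^ n * (a' : ℕ) - v * (b' : ℕ)) =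
          2 ^ n * (((a : ℕ) : ℤ) - (a' : ℕ)) by ring, hpow,
          mul_dvd_mul_iff_left (by positivity)] at h3
        have ha : (a : ℕ) = a' := by
          have hh : ((2 ^ (M - n) : ℕ) : ℤ) ∣ ((a : ℕ) : ℤ) - ((a' : ℕ) : ℤ) := by
            push_cast; exact h3
          exact Nat.ModEq.eq_of_lt_of_lt (Nat.modEq_iff_dvd.2 hh).symm a.2 a'.2
        exact Prod.ext (Fin.ext ha) (Fin.ext hb)
      · rintro ⟨w, e, i, hl, hr, hd⟩
        have hmodi := Int.emod_nonneg i (b := (2 : ℤ) ^ M) (by positivity)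
        have hlti := Int.emod_lt_of_pos i (b := (2 : ℤ) ^ M) (by positivity)
        set i0 := i % (2 : ℤ) ^ M with hi0
        have hdi : (2 : ℤ) ^ M ∣ i - i0 := ⟨i / 2 ^ M, by rw [hi0, Int.emod_def]; ring⟩
        obtain ⟨l, hl'⟩ : (2 : ℤ) ^ n ∣ e + v * i0 := by
          have := dvd_sub hd (((pow_dvd_pow 2 hnM).trans hdi).mul_left (v : ℤ))
          rwa [show e + (v : ℤ) * i - v * (i - i0) = e + v * i0 by ring] at this
        have hmodl := Int.emod_nonneg l (b := (2 : ℤ) ^ (M - n)) (by positivity)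
        have hltl := Int.emod_lt_of_pos l (b := (2 : ℤ) ^ (M - n)) (by positivity)
        refine ⟨(⟨(l % 2 ^ (M - n)).toNat, ?_⟩, ⟨i0.toNat, ?_⟩), ?_⟩
        · rw [Int.toNat_lt hmodl]; push_cast; exact hltl
        · rw [Int.toNat_lt hmodi]; push_cast; exact hlti
        refine Subtype.ext (SemidirectProduct.ext ?_ ?_)
        · simp only [f]
          rw [hl, Int.toNat_of_nonneg hmodl, Int.toNat_of_nonneg hmodi]
          refine congrArg dia ((hξ _ _).2 ?_)
          rw [show (2 : ℤ) ^ n * (l % 2 ^ (M - n)) - v * i0 - e =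
              2 ^ n * (l % 2 ^ (M - n) - l) by linear_combination -hl', hpow]
          exact mul_dvd_mul_left _ ⟨-(l / 2 ^ (M - n)), by rw [Int.emod_def]; ring⟩
        · simp only [f]
          rw [hr, Int.toNat_of_nonneg hmodi, ← mul_inv_eq_one, ← zpow_sub, hτ,
            show i0 - i = -(i - i0) by ring]
          exact dvd_neg.2 hdi
    have hW : Nat.card W = 2 ^ (M - n) * 2 ^ M := by
      rw [← Nat.card_congr (Equiv.ofBijective f hf), Nat.card_prod, Nat.card_fin, Nat.card_fin]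
    have h := W.card_eq_card_quotient_mul_card_subgroup
    rw [hW, SemidirectProduct.card, card_SL_two, hq1,
      show Nat.card (Multiplicative (ZMod K)) = K by
        rw [Nat.card_congr Multiplicative.toAdd, Nat.card_zmod]] at h
    refine ⟨(1 + 2 ^ M * o) * o * (1 + 2 ^ (M - 1) * o), ?_, ?_⟩
    · refine (Odd.mul ?_ ho).mul ?_
      · exact odd_one.add_even (((Nat.even_pow.2 ⟨even_two, by omega⟩)).mul_right _)
      · exact odd_one.add_even (((Nat.even_pow.2 ⟨even_two, by omega⟩)).mul_right _)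
    refine Nat.eq_of_mul_eq_mul_right (show 0 < 2 ^ (M - n) * 2 ^ M by positivity) (h.symm.trans ?_)
    rw [show K = N * 2 ^ M from rfl]
    obtain ⟨m, hm⟩ : ∃ m, M = n + m := ⟨M - n, by omega⟩
    have h2M : 2 ^ M = 2 * 2 ^ (M - 1) := by rw [← pow_succ', Nat.sub_add_cancel (by omega)]
    rw [show (1 + 2 ^ M * o) ^ 2 - 1 = 2 ^ M * o * (2 + 2 ^ M * o) by
      rw [show (1 + 2 ^ M * o) ^ 2 = 2 ^ M * o * (2 + 2 ^ M * o) + 1 by ring, Nat.add_sub_cancel],
      show 2 + 2 ^ M * o = 2 * (1 + 2 ^ (M - 1) * o) by rw [h2M]; ring,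
      hN, show M - n = m by omega]
    rw [show (2 : ℕ) ^ (r + 1 + n) = 2 ^ r * 2 * 2 ^ n by ring,
      show (2 : ℕ) ^ M = 2 ^ n * 2 ^ m by rw [hm, pow_add]]
    ring
  · have hw : ξ ^ 2 ^ t * ξ ^ 2 ^ t = -1 := by
      rw [← pow_add, ← two_mul, ← pow_succ', show t + 1 = M - 1 by omega, hξm]
    obtain ⟨P, hP⟩ := swap_conj (F := F) (Ring.two_ne_zero (by
      rw [ringChar.eq F 5]; norm_num)) hw
    exact ⟨π (SemidirectProduct.inl P), 2 ^ t, by
      rw [← map_inv, ← map_mul, ← map_mul, ← map_pow, ← map_inv, ← map_mul, ← map_mul, ← map_pow, hP,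
        map_pow]⟩

end CfsgLib.Fusion.Bicyclic.Ambient
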