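import Cfsg.Prelude.Def_OddOrderLocal
import Cfsg.Agent.Lib.PGroups.Basic
import Mathlib.GroupTheory.Nilpotent
import Mathlib.GroupTheory.SpecificGroups.Cyclic

/-!
Bicyclic `2`-groups which are not metacyclic, first part: the subgroup `kSub X`, generated by the
squares of elements of the derived group and their commutators with `X`, controls metacyclicity,
and modulo it the group has a distinguished class of elements outside the Frattini subgroup.
-/

set_option autoImplicit false

namespace CfsgLib.Fusion.Bicyclic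

open Subgroup

universe u

variable {X : Type u} [Group X]

theorem comm_mem (g h : X) : g * h * g⁻¹ * h⁻¹ ∈ commutator X := by
  rw [_root_.commutator_def, ← commutatorElement_def]
  exact Subgroup.commutator_mem_commutator (mem_top g) (mem_top h)

/-- Two commuting generators modulo a normal subgroup. -/
theorem commutator_le_of_pair {N : Subgroup X} [N.Normal] {v w : X}
    (hgen : closure ({v, w} : Set X) = ⊤) (h : v * w * v⁻¹ * w⁻¹ ∈ N) : commutator X ≤ N := by
  refine Subgroup.Normal.quotient_commutative_iff_commutator_le.mp ⟨⟨fun p q => ?_⟩⟩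
  let f := QuotientGroup.mk' N
  have hfgen : closure ({f v, f w} : Set (X ⧸ N)) = ⊤ := by
    rw [← Set.image_pair f v w, ← MonoidHom.map_closure, hgen,
      Subgroup.map_top_of_surjective _ (QuotientGroup.mk'_surjective N)]
  have hvw : f v * f w = f w * f v := by
    have e : f (v * w * v⁻¹ * w⁻¹) = 1 := (QuotientGroup.eq_one_iff _).2 h
    simp only [map_mul, map_inv] at e
    rwa [mul_inv_eq_one, mul_inv_eq_iff_eq_mul] at e
  have hcen : ∀ z ∈ ({f v, f w} : Set (X ⧸ N)), z ∈ center (X ⧸ N) := by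
    intro z hz
    rw [mem_center_iff]
    intro g
    have : g ∈ centralizer ({z} : Set (X ⧸ N)) := by
      refine (closure_le _).2 (fun y hy => ?_) (hfgen ▸ mem_top g)
      rw [SetLike.mem_coe, mem_centralizer_singleton_iff]
      simp only [Set.mem_insert_iff, Set.mem_singleton_iff] at hy hz
      rcases hy with rfl | rfl <;> rcases hz with rfl | rfl <;>
        first | rfl | exact hvw | exact hvw.symm
    exact (mem_centralizer_singleton_iff.1 this)
  have hp : p ∈ center (X ⧸ N) := (closure_le _).2 hcen (hfgen ▸ mem_top p)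
  exact (mem_center_iff.1 hp q).symm

section Metacyclic

variable [Finite X]

/-- A pair of generators, the second normalising the group of the first. -/
theorem isMetacyclic_of_gen {v w : X} (hconj : w * v * w⁻¹ ∈ zpowers v)
    (hgen : closure ({v, w} : Set X) = ⊤) : Cfsg.IsMetacyclic X := by
  have key : ∀ g : X, g * v * g⁻¹ ∈ zpowers v := by
    intro g
    have hg : g ∈ Submonoid.closure ({v, w} : Set X) := by
      rw [← Subgroup.closure_toSubmonoid_of_finite, mem_toSubmonoid, hgen]
      exact mem_top g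
    induction hg using Submonoid.closure_induction with
    | mem y hy =>
      simp only [Set.mem_insert_iff, Set.mem_singleton_iff] at hy
      rcases hy with rfl | rfl
      · rw [mul_inv_cancel_right]; exact mem_zpowers _
      · exact hconj
    | one => simp
    | mul y z _ _ hy hz =>
      obtain ⟨k, hk⟩ := mem_zpowers_iff.1 hz
      have : y * z * v * (y * z)⁻¹ = (y * v * y⁻¹) ^ k := by rw [conj_zpow, hk]; group
      rw [this]
      exact zpow_mem hy k
  haveI hn : (zpowers v).Normal := ⟨fun c hc g => by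
    obtain ⟨k, rfl⟩ := mem_zpowers_iff.1 hc
    rw [← conj_zpow]
    exact zpow_mem (key g) k⟩
  refine ⟨zpowers v, hn, inferInstance, ?_⟩
  refine isCyclic_iff_exists_zpowers_eq_top.2 ⟨QuotientGroup.mk' _ w, ?_⟩
  rw [eq_top_iff, ← Subgroup.map_top_of_surjective _ (QuotientGroup.mk'_surjective (zpowers v)),
    ← hgen, MonoidHom.map_closure, closure_le]
  rintro _ ⟨y, hy, rfl⟩
  simp only [Set.mem_insert_iff, Set.mem_singleton_iff] at hy
  rcases hy with rfl | rfl
  · have : QuotientGroup.mk' (zpowers y) y = 1 := (QuotientGroup.eq_one_iff y).2 (mem_zpowers y)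
    rw [this]
    exact one_mem _
  · exact mem_zpowers _

theorem exists_gen_of_isMetacyclic (h : Cfsg.IsMetacyclic X) :
    ∃ v w : X, w * v * w⁻¹ ∈ zpowers v ∧ closure ({v, w} : Set X) = ⊤ := by
  obtain ⟨N, hN, hNc, hQc⟩ := h
  haveI := hN
  obtain ⟨v, hv⟩ := (Subgroup.isCyclic_iff_exists_zpowers_eq_top N).1 hNc
  obtain ⟨q, hq⟩ := isCyclic_iff_exists_zpowers_eq_top.1 hQc
  obtain ⟨w, rfl⟩ := QuotientGroup.mk'_surjective N q
  have hvN : v ∈ N := by rw [← hv]; exact mem_zpowers v
  refine ⟨v, w, by rw [hv]; exact hN.conj_mem v hvN w, eq_top_iff.2 fun g _ => ?_⟩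
  have hgq : QuotientGroup.mk' N g ∈ zpowers (QuotientGroup.mk' N w) := by rw [hq]; exact mem_top _
  obtain ⟨k, hk⟩ := mem_zpowers_iff.1 hgq
  rw [← map_zpow, QuotientGroup.mk'_apply, QuotientGroup.mk'_apply, QuotientGroup.eq] at hk
  have hle : zpowers v ≤ closure ({v, w} : Set X) :=
    zpowers_le.2 (subset_closure (Set.mem_insert _ _))
  have h1 : (w ^ k)⁻¹ * g ∈ closure ({v, w} : Set X) := by
    rw [← hv] at hk
    exact hle hk
  have hw : w ∈ closure ({v, w} : Set X) := subset_closure (by simp)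
  have h2 : w ^ k ∈ closure ({v, w} : Set X) := zpow_mem hw k
  simpa using mul_mem h2 h1

theorem isMetacyclic_of_surjective {Y : Type*} [Group Y] [Finite Y] (f : X →* Y)
    (hf : Function.Surjective f) (h : Cfsg.IsMetacyclic X) : Cfsg.IsMetacyclic Y := by
  obtain ⟨v, w, hconj, hgen⟩ := exists_gen_of_isMetacyclic h
  refine isMetacyclic_of_gen (v := f v) (w := f w) ?_ ?_
  · rw [← MonoidHom.map_zpowers, ← map_inv, ← map_mul, ← map_mul]
    exact mem_map_of_mem f hconj
  · rw [← Set.image_pair f v w, ← MonoidHom.map_closure, hgen,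
      Subgroup.map_top_of_surjective _ hf]

end Metacyclic

/-- The squares of the derived group and their commutators with the group. -/
def kSub (X : Type u) [Group X] : Subgroup X :=
  closure ({u | ∃ s ∈ commutator X, u = s ^ 2} ∪
    {u | ∃ s ∈ commutator X, ∃ g : X, u = g * s * g⁻¹ * s⁻¹})

theorem sq_mem_kSub {s : X} (hs : s ∈ commutator X) : s ^ 2 ∈ kSub X :=
  subset_closure (Or.inl ⟨s, hs, rfl⟩)

theorem comm_mem_kSub {s : X} (hs : s ∈ commutator X) (g : X) : g * s * g⁻¹ * s⁻¹ ∈ kSub X :=
  subset_closure (Or.inr ⟨s, hs, g, rfl⟩)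

theorem kSub_le : kSub X ≤ commutator X := by
  refine (closure_le _).2 ?_
  rintro u (⟨s, hs, rfl⟩ | ⟨s, hs, g, rfl⟩)
  · exact pow_mem hs 2
  · exact comm_mem g s

instance kSub_normal : (kSub X).Normal := ⟨fun u hu g => by
  have h := mul_mem (comm_mem_kSub (kSub_le hu) g) hu
  rwa [inv_mul_cancel_right] at h⟩

theorem kSub_le_of {N : Subgroup X} (h1 : ∀ s ∈ commutator X, s ^ 2 ∈ N)
    (h2 : ∀ s ∈ commutator X, ∀ g : X, g * s * g⁻¹ * s⁻¹ ∈ N) : kSub X ≤ N := by
  refine (closure_le _).2 ?_
  rintro u (⟨s, hs, rfl⟩ | ⟨s, hs, g, rfl⟩)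
  exacts [h1 s hs, h2 s hs g]

theorem map_commutator_top {Y : Type*} [Group Y] (f : X →* Y) (hf : Function.Surjective f) :
    (commutator X).map f = commutator Y := by
  rw [_root_.commutator_def, Subgroup.map_commutator, Subgroup.map_top_of_surjective _ hf,
    ← _root_.commutator_def]

theorem kSub_map {Y : Type*} [Group Y] (f : X →* Y) (hf : Function.Surjective f) :
    (kSub X).map f = kSub Y := by
  apply le_antisymm
  · rw [map_le_iff_le_comap]
    refine kSub_le_of (fun s hs => ?_) fun s hs g => ?_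
    · rw [mem_comap, map_pow]
      exact sq_mem_kSub (map_commutator_top f hf ▸ mem_map_of_mem f hs)
    · rw [mem_comap, map_mul, map_mul, map_mul, map_inv, map_inv]
      exact comm_mem_kSub (map_commutator_top f hf ▸ mem_map_of_mem f hs) _
  · refine kSub_le_of (fun s hs => ?_) fun s hs g => ?_
    · obtain ⟨s, hs', rfl⟩ := (map_commutator_top f hf).symm ▸ hs
      exact ⟨s ^ 2, sq_mem_kSub hs', map_pow _ _ _⟩
    · obtain ⟨s, hs', rfl⟩ := (map_commutator_top f hf).symm ▸ hs
      obtain ⟨g, rfl⟩ := hf g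
      exact ⟨_, comm_mem_kSub hs' g, by simp only [map_mul, map_inv]⟩

variable [Finite X]

theorem commutator_eq_bot_of_kSub_eq (hX : IsPGroup 2 X) (h : kSub X = commutator X) :
    commutator X = ⊥ := by
  haveI : Fact (Nat.Prime 2) := ⟨Nat.prime_two⟩
  by_contra hne
  obtain ⟨N, ⟨hNn, hNlt⟩, hmax⟩ :=
    (Set.toFinite {N : Subgroup X | N.Normal ∧ N < commutator X}).exists_maximal
      ⟨⊥, inferInstance, bot_lt_iff_ne_bot.2 hne⟩
  haveI : N.Normal := hNn
  let f := QuotientGroup.mk' N
  have hf : Function.Surjective f := QuotientGroup.mk'_surjective N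
  have hC : commutator (X ⧸ N) ≠ ⊥ := fun e => by
    rw [← map_commutator_top f hf, Subgroup.map_eq_bot_iff, QuotientGroup.ker_mk'] at e
    exact hNlt.not_ge e
  obtain ⟨⟨z, hzC, hzZ⟩, hz1'⟩ :=
    ne_bot_iff_exists_ne_one.1 (CfsgLib.PGroups.inf_center_ne_bot (hX.to_quotient N) hC)
  have hz1 : z ≠ 1 := fun e => hz1' (Subtype.ext e)
  obtain ⟨n, hn⟩ := hX.to_quotient N z
  -- a central involution
  classical
  have hex : ∃ k : ℕ, z ^ 2 ^ k = 1 := ⟨n, hn⟩
  have hk0 : Nat.find hex ≠ 0 := fun e => hz1 (by simpa [e] using Nat.find_spec hex)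
  obtain ⟨k, hk⟩ := Nat.exists_eq_succ_of_ne_zero hk0
  set t := z ^ 2 ^ k
  have ht2 : t ^ 2 = 1 := by
    rw [← pow_mul, ← pow_succ, show k + 1 = Nat.find hex from hk.symm]
    exact Nat.find_spec hex
  have ht1 : t ≠ 1 := Nat.find_min hex (by omega)
  have htZ : t ∈ center (X ⧸ N) := pow_mem hzZ _
  have htC : t ∈ commutator (X ⧸ N) := pow_mem hzC _
  haveI : (zpowers t).Normal := ⟨fun c hc g => by
    have := mem_center_iff.1 ((zpowers_le.2 htZ) hc) g
    rwa [this, mul_inv_cancel_right]⟩
  set M := (zpowers t).comap f with hM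
  have hMle : M ≤ commutator X := by
    intro x hx
    obtain ⟨y, hy, hyx⟩ := (map_commutator_top f hf).symm ▸ (zpowers_le.2 htC) (mem_comap.1 hx)
    have h1 : y⁻¹ * x ∈ N := QuotientGroup.eq.1 hyx
    simpa using mul_mem hy (hNlt.le h1)
  have hNM : N ≤ M := fun x hx => by
    rw [mem_comap, show f x = 1 from (QuotientGroup.eq_one_iff x).2 hx]; exact one_mem _
  have hMeq : M = commutator X := by
    by_contra hMne
    have hMN : M ≤ N := hmax ⟨inferInstance, lt_of_le_of_ne hMle hMne⟩ hNM
    obtain ⟨x, hx⟩ := hf t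
    exact ht1 (hx ▸ (QuotientGroup.eq_one_iff x).2 (hMN (show x ∈ M by
      rw [mem_comap, hx]; exact mem_zpowers t)))
  refine hNlt.not_ge (h ▸ kSub_le_of (fun s hs => ?_) fun s hs g => ?_)
  · rw [← QuotientGroup.eq_one_iff, QuotientGroup.mk_pow]
    obtain ⟨i, hi⟩ := mem_zpowers_iff.1 (mem_comap.1 (hMeq.symm ▸ hs))
    show (f s) ^ 2 = 1
    rw [← hi, ← zpow_natCast, ← zpow_mul, mul_comm, zpow_mul, zpow_natCast, ht2, one_zpow]
  · rw [← QuotientGroup.eq_one_iff]
    show f (g * s * g⁻¹ * s⁻¹) = 1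
    have := mem_center_iff.1 ((zpowers_le.2 htZ) (mem_comap.1 (hMeq.symm ▸ hs))) (f g)
    rw [map_mul, map_mul, map_mul, map_inv, map_inv, this, mul_inv_cancel_right, mul_inv_cancel]

/-- Metacyclicity can be read off modulo `kSub X`. -/
theorem isMetacyclic_of_quotient_kSub (hX : IsPGroup 2 X)
    (h : Cfsg.IsMetacyclic (X ⧸ kSub X)) : Cfsg.IsMetacyclic X := by
  suffices H : ∀ (m : ℕ) (Y : Type u) [Group Y] [Finite Y], Nat.card Y ≤ m → IsPGroup 2 Y →
      Cfsg.IsMetacyclic (Y ⧸ kSub Y) → Cfsg.IsMetacyclic Y from H _ X le_rfl hX h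
  clear h hX
  intro m
  induction m with
  | zero => intro Y _ _ hY; exact absurd hY (Nat.card_pos (α := Y)).not_ge
  | succ m ih =>
    intro Y _ _ hcard hY h
    haveI : Fact (Nat.Prime 2) := ⟨Nat.prime_two⟩
    by_cases hK : kSub Y = ⊥
    · exact isMetacyclic_of_surjective
        ((QuotientGroup.quotientMulEquivOfEq hK).trans QuotientGroup.quotientBot).toMonoidHom
        (MulEquiv.surjective _) h
    obtain ⟨⟨z, hzK, hzZ⟩, hz1'⟩ :=
      ne_bot_iff_exists_ne_one.1 (CfsgLib.PGroups.inf_center_ne_bot hY hK)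
    have hz1 : z ≠ 1 := fun e => hz1' (Subtype.ext e)
    obtain ⟨n, hn⟩ : ∃ k, orderOf z = 2 ^ (k + 1) := by
      obtain ⟨k, hk⟩ := IsPGroup.iff_orderOf.1 hY z
      rcases k with _ | k
      · exact absurd (orderOf_eq_one_iff.1 (by simpa using hk)) hz1
      · exact ⟨k, hk⟩
    set t := z ^ 2 ^ n
    have hto : orderOf t = 2 := by
      rw [orderOf_pow_of_dvd (pow_ne_zero _ two_ne_zero) (hn ▸ pow_dvd_pow 2 (Nat.le_succ _)),
        hn, pow_succ, Nat.mul_div_cancel_left _ (pow_pos two_pos _)]
    have ht2 : t ^ 2 = 1 := hto ▸ pow_orderOf_eq_one t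
    have htZ : t ∈ center Y := pow_mem hzZ _
    have htK : t ∈ kSub Y := pow_mem hzK _
    haveI : (zpowers t).Normal := ⟨fun c hc g => by
      have := mem_center_iff.1 ((zpowers_le.2 htZ) hc) g
      rwa [this, mul_inv_cancel_right]⟩
    let f := QuotientGroup.mk' (zpowers t)
    have hf : Function.Surjective f := QuotientGroup.mk'_surjective _
    have hsm : Nat.card (Y ⧸ zpowers t) ≤ m := by
      have := (zpowers t).card_eq_card_quotient_mul_card_subgroup
      rw [Nat.card_zpowers, hto] at this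
      omega
    have hq : Cfsg.IsMetacyclic (Y ⧸ zpowers t) := by
      refine ih _ hsm (hY.to_quotient _) ?_
      refine isMetacyclic_of_surjective (QuotientGroup.map (kSub Y) (kSub (Y ⧸ zpowers t)) f ?_) ?_ h
      · rw [← map_le_iff_le_comap, kSub_map f hf]
      · intro q
        obtain ⟨q, rfl⟩ := QuotientGroup.mk_surjective q
        obtain ⟨x, rfl⟩ := hf q
        exact ⟨QuotientGroup.mk x, rfl⟩
    obtain ⟨v', w', hconj', hgen'⟩ := exists_gen_of_isMetacyclic hq
    obtain ⟨v, rfl⟩ := hf v'
    obtain ⟨w, rfl⟩ := hf w'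
    rw [← map_inv, ← map_mul, ← map_mul] at hconj'
    obtain ⟨l, hl⟩ := mem_zpowers_iff.1 hconj'
    rw [← map_zpow] at hl
    obtain ⟨e, he⟩ := mem_zpowers_iff.1 (QuotientGroup.eq.1 hl)
    -- `w v w⁻¹ = v ^ l * t ^ e`
    have hwv : w * v * w⁻¹ = v ^ l * t ^ e := by rw [he, mul_inv_cancel_left]
    have htc : ∀ g : Y, g * t = t * g := fun g => mem_center_iff.1 htZ g
    have hct : ∀ (g : Y) (i : ℤ), Commute (t ^ i) g := fun g i =>
      (show Commute t g from (htc g).symm).zpow_left i
    have hgen : closure ({v, w, t} : Set Y) = ⊤ := by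
      refine eq_top_iff.2 fun g _ => ?_
      have hsub : f g ∈ (closure ({v, w, t} : Set Y)).map f := by
        refine ((closure_le _).2 ?_ : closure ({f v, f w} : Set _) ≤ _) (hgen' ▸ mem_top _)
        rintro y (rfl | rfl)
        · exact mem_map_of_mem f (subset_closure (by simp))
        · exact mem_map_of_mem f (subset_closure (by simp))
      obtain ⟨g', hg', hgg⟩ := hsub
      have h1 : g'⁻¹ * g ∈ closure ({v, w, t} : Set Y) :=
        (zpowers_le.2 (subset_closure (by simp)) : zpowers t ≤ _) (QuotientGroup.eq.1 hgg)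
      simpa using mul_mem hg' h1
    set u := v ^ (l - 1) * t ^ e with hu
    have huw : w * v * w⁻¹ * v⁻¹ = u := by
      rw [hwv, hu, zpow_sub_one]
      rw [mul_assoc (v ^ l), (hct v⁻¹ e).eq, ← mul_assoc]
    have hUn : (zpowers u).Normal := by
      have hgu : ∀ g ∈ ({v, w, t} : Set Y), g * u * g⁻¹ ∈ zpowers u := by
        intro g hg
        simp only [Set.mem_insert_iff, Set.mem_singleton_iff] at hg
        rcases hg with hg | hg | hg <;> rw [hg]
        · rw [((Commute.refl v).zpow_right (l - 1) |>.mul_right (hct v e).symm).eq,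
            mul_inv_cancel_right]
          exact mem_zpowers _
        · refine mem_zpowers_iff.2 ⟨l, ?_⟩
          have h1 : w * u * w⁻¹ = (w * v * w⁻¹) ^ (l - 1) * t ^ e := by
            rw [hu, conj_zpow, show w * (v ^ (l - 1) * t ^ e) * w⁻¹ =
              w * v ^ (l - 1) * (t ^ e * w⁻¹) by group, (hct w⁻¹ e).eq, ← mul_assoc]
          rw [h1, hwv, hu, (hct _ e).symm.mul_zpow, (hct _ e).symm.mul_zpow, ← zpow_mul, ← zpow_mul,
            mul_assoc, ← zpow_add_one, sub_add_cancel, mul_comm (l - 1) l, zpow_mul t, zpow_mul v]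
        · rw [(show Commute t u from (htc u).symm).eq, mul_inv_cancel_right]
          exact mem_zpowers _
      refine ⟨fun c hc g => ?_⟩
      obtain ⟨i, rfl⟩ := mem_zpowers_iff.1 hc
      rw [← conj_zpow]
      refine zpow_mem ?_ i
      have hg : g ∈ Submonoid.closure ({v, w, t} : Set Y) := by
        rw [← Subgroup.closure_toSubmonoid_of_finite, mem_toSubmonoid, hgen]
        exact mem_top g
      clear hc
      induction hg using Submonoid.closure_induction with
      | mem y hy => exact hgu y hy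
      | one => simp
      | mul y z _ _ hy hz =>
        obtain ⟨k, hk⟩ := mem_zpowers_iff.1 hz
        have : y * z * u * (y * z)⁻¹ = (y * u * y⁻¹) ^ k := by rw [conj_zpow, hk]; group
        rw [this]
        exact zpow_mem hy k
    have hder : commutator Y ≤ zpowers u := by
      haveI := hUn
      refine Subgroup.Normal.quotient_commutative_iff_commutator_le.mp ⟨⟨fun p q => ?_⟩⟩
      have hg : closure (QuotientGroup.mk' (zpowers u) '' ({v, w, t} : Set Y)) = ⊤ := by
        rw [← MonoidHom.map_closure, hgen,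
          Subgroup.map_top_of_surjective _ (QuotientGroup.mk'_surjective _)]
      have hcom : ∀ a ∈ QuotientGroup.mk' (zpowers u) '' ({v, w, t} : Set Y),
          ∀ b ∈ QuotientGroup.mk' (zpowers u) '' ({v, w, t} : Set Y), a * b = b * a := by
        have hwv' : (QuotientGroup.mk' (zpowers u) w) * QuotientGroup.mk' (zpowers u) v =
            QuotientGroup.mk' (zpowers u) v * QuotientGroup.mk' (zpowers u) w := by
          have h1 : QuotientGroup.mk' (zpowers u) (w * v * w⁻¹ * v⁻¹) = 1 :=
            (QuotientGroup.eq_one_iff _).2 (huw ▸ mem_zpowers u)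
          simp only [map_mul, map_inv] at h1
          rwa [mul_inv_eq_one, mul_inv_eq_iff_eq_mul] at h1
        have htq : ∀ y : Y, QuotientGroup.mk' (zpowers u) t * QuotientGroup.mk' (zpowers u) y =
            QuotientGroup.mk' (zpowers u) y * QuotientGroup.mk' (zpowers u) t := fun y => by
          rw [← map_mul, ← map_mul, htc y]
        rintro _ ⟨a, ha, rfl⟩ _ ⟨b, hb, rfl⟩
        simp only [Set.mem_insert_iff, Set.mem_singleton_iff] at ha hb
        rcases ha with rfl | rfl | rfl <;> rcases hb with rfl | rfl | rfl <;>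
          first | rfl | exact hwv' | exact hwv'.symm | exact htq _ | exact (htq _).symm
      haveI := Subgroup.isMulCommutative_closure hcom
      have hp : p ∈ closure (QuotientGroup.mk' (zpowers u) '' ({v, w, t} : Set Y)) := hg ▸ mem_top p
      have hq : q ∈ closure (QuotientGroup.mk' (zpowers u) '' ({v, w, t} : Set Y)) := hg ▸ mem_top q
      exact congrArg Subtype.val (IsMulCommutative.is_comm.comm (⟨p, hp⟩ : Subgroup.closure _) ⟨q, hq⟩)
    obtain ⟨j, hj⟩ := mem_zpowers_iff.1 (hder (kSub_le htK))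
    rcases Int.even_or_odd j with ⟨i, rfl⟩ | ⟨i, rfl⟩
    · -- `t` is a power of `v`
      have htv : t ∈ zpowers v := by
        rw [← hj, hu, (hct _ e).symm.mul_zpow, ← zpow_mul, ← zpow_mul,
          show e * (i + i) = 2 * (e * i) by ring, zpow_mul t, zpow_two, ← pow_two, ht2, one_zpow,
          mul_one]
        exact zpow_mem (mem_zpowers v) _
      refine isMetacyclic_of_gen (v := v) (w := w) ?_ ?_
      · rw [hwv]
        exact mul_mem (zpow_mem (mem_zpowers v) _) (zpow_mem htv _)
      · refine eq_top_iff.2 (hgen ▸ (closure_le _).2 ?_)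
        rintro y (rfl | rfl | rfl)
        · exact subset_closure (by simp)
        · exact subset_closure (by simp)
        · exact (zpowers_le.2 (subset_closure (by simp)) : zpowers v ≤ _) htv
    · -- then the derived group is `⟨t⟩`
      exfalso
      have hu2 : u ^ 2 ∈ kSub Y := sq_mem_kSub (huw ▸ comm_mem w v)
      have hueq : u = t * ((u ^ 2) ^ i)⁻¹ := by
        rw [← hj, zpow_add, zpow_one, ← zpow_natCast u 2, ← zpow_mul]
        push_cast
        group
      have huK : u ∈ kSub Y := hueq ▸ mul_mem htK (inv_mem (zpow_mem hu2 i))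
      have := commutator_eq_bot_of_kSub_eq hY
        (le_antisymm kSub_le (hder.trans (zpowers_le.2 huK)))
      exact hK (le_bot_iff.1 (kSub_le.trans this.le))

end CfsgLib.Fusion.Bicyclic
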