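import Cfsg.Agent.Lib.Fusion.Bicyclic.Derived

/-!
Bicyclic nonmetacyclic `2`-groups with noncyclic derived group: every element of order at most two
of the derived group is a commutator with an element outside the Frattini subgroup squaring into
these elements.
-/

set_option autoImplicit false

namespace CfsgLib.Fusion.Bicyclic

open Subgroup

universe u

variable {X : Type u} [Group X] [Finite X] {x y : X}

theorem Hyp.cover (H : Hyp x y) (hnc : ¬ IsCyclic (commutator X)) {a b : X}
    (hgen : closure ({a, b} : Set X) = ⊤) (hb1 : b ^ 2 ∈ omegaDer X) (hb2 : b ^ 2 ∈ kSub X)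
    (hz : b ^ 2 = 1 ∨ b ^ 2 ∈ sqDer X) :
    (∀ e ∈ omegaDer X, b * e = e * b) ∧
      ∀ e ∈ omegaDer X, ∃ g : X, g * b * g⁻¹ = b * e ∧ g * b ^ 2 = b ^ 2 * g := by
  classical
  have hcomm := fun {s t : X} => derived_comm H.hb (s := s) (t := t)
  have hCn : (commutator X).Normal := inferInstance
  have hoDle := H.omegaDer_le
  have h4 := (H.card_sqDer_mul hnc).1
  have hΩne : omegaDer X ≠ ⊥ := fun h => by rw [h, Subgroup.card_bot] at h4; omega
  obtain ⟨z0, -, hz0, hz01, hz0c⟩ := H.exists_central_involution hoDle hΩne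
  have hzC : b ^ 2 ∈ commutator X := hoDle hb1
  set c := b⁻¹ * a * b * a⁻¹ with hcdef
  have hc : c ∈ commutator X := by
    have := comm_mem b⁻¹ a
    rwa [inv_inv] at this
  have habc : a * b * a⁻¹ = b * c := by rw [hcdef]; group
  -- the pair `b⁻¹`, `a` also generates
  have hgen' : closure ({b⁻¹, a} : Set X) = ⊤ := by
    refine eq_top_iff.2 (hgen ▸ (closure_le _).2 ?_)
    rintro v (rfl | rfl)
    · exact subset_closure (by simp)
    · rw [SetLike.mem_coe, ← inv_inv v]
      exact inv_mem (subset_closure (by simp))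
  have hcK : c ∉ kSub X := fun h => by
    refine commutator_ne_bot H.hb H.hm (commutator_eq_bot_of_kSub_eq H.hX
      (le_antisymm kSub_le (commutator_le_of_pair hgen' ?_)))
    rwa [inv_inv]
  -- conjugations commute on the derived group
  have hswap : ∀ (g h : X) {s : X}, s ∈ commutator X →
      g * (h * s * h⁻¹) * g⁻¹ = h * (g * s * g⁻¹) * h⁻¹ := by
    intro g h s hs
    have hu := comm_mem g h
    have hs' := hCn.conj_mem s hs (h * g)
    calc g * (h * s * h⁻¹) * g⁻¹
        = (g * h * g⁻¹ * h⁻¹) * ((h * g) * s * (h * g)⁻¹) * (g * h * g⁻¹ * h⁻¹)⁻¹ := by group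
      _ = (h * g) * s * (h * g)⁻¹ := by rw [hcomm hu hs', mul_inv_cancel_right]
      _ = h * (g * s * g⁻¹) * h⁻¹ := by group
  -- normality from the two generators
  have hnorm : ∀ U : Subgroup X, U ≤ commutator X → (∀ u ∈ U, a * u * a⁻¹ ∈ U) →
      (∀ u ∈ U, b⁻¹ * u * b ∈ U) → U.Normal := by
    intro U hU ha hb
    refine ⟨fun u hu g => ?_⟩
    have hg : g ∈ Submonoid.closure ({b⁻¹, a} : Set X) := by
      rw [← Subgroup.closure_toSubmonoid_of_finite, mem_toSubmonoid, hgen']
      exact mem_top g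
    induction hg using Submonoid.closure_induction generalizing u with
    | mem w hw =>
      rcases hw with hw | hw <;> rw [hw]
      · rw [inv_inv]; exact hb u hu
      · exact ha u hu
    | one => simpa using hu
    | mul v w _ _ hv hw =>
      have := hv _ (hw _ hu)
      rwa [show v * (w * u * w⁻¹) * v⁻¹ = v * w * u * (v * w)⁻¹ by group] at this
  -- the element `δ`
  have hz2 : b ^ 2 * b ^ 2 = 1 := by rw [← pow_two]; exact (H.mem_omegaDer.1 hb1).2
  set δ := b⁻¹ * c * b * c with hδdef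
  have hδz : b ^ 2 * δ = a * b ^ 2 * a⁻¹ := by
    rw [← conj_pow, habc, hδdef, pow_two, pow_two]; group
  have hδ0 : δ = 1 ∨ δ = z0 := by
    rcases H.conj_omegaDer hnc hz0 hz01 hz0c a hb1 with h | h <;> rw [h] at hδz
    · exact Or.inl (mul_eq_left.1 hδz)
    · exact Or.inr (mul_left_cancel hδz)
  have hδ1 : a * b ^ 2 * a⁻¹ = b ^ 2 → δ = 1 := fun h => mul_eq_left.1 (hδz.trans h)
  have hδc : ∀ g : X, g * δ * g⁻¹ = δ := fun g => by
    rcases hδ0 with h | h <;> rw [h]
    · group
    · rw [mem_center_iff.1 hz0c g, mul_inv_cancel_right]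
  have hδ2 : δ * δ = 1 := by
    rcases hδ0 with h | h <;> rw [h]
    · rw [one_mul]
    · rw [← pow_two]; exact (H.mem_omegaDer.1 hz0).2
  have hδC : δ ∈ commutator X := mul_mem (by simpa using hCn.conj_mem c hc b⁻¹) hc
  -- `ψ s = s ^ b * s`
  set ψ : X → X := fun s => b⁻¹ * s * b * s with hψdef
  have hψmul : ∀ s t : X, s ∈ commutator X → t ∈ commutator X → ψ (s * t) = ψ s * ψ t := by
    intro s t hs ht
    have h1 : s * (b⁻¹ * t * b) = (b⁻¹ * t * b) * s :=
      hcomm hs (by simpa using hCn.conj_mem t ht b⁻¹)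
    calc ψ (s * t) = (b⁻¹ * s * b) * ((b⁻¹ * t * b) * s) * t := by simp only [hψdef]; group
      _ = (b⁻¹ * s * b) * (s * (b⁻¹ * t * b)) * t := by rw [h1]
      _ = ψ s * ψ t := by simp only [hψdef]; group
  have hψinv : ∀ s : X, s ∈ commutator X → ψ s⁻¹ = (ψ s)⁻¹ := fun s hs => by
    refine eq_inv_of_mul_eq_one_left ?_
    rw [← hψmul _ _ (inv_mem hs) hs, inv_mul_cancel]
    simp [hψdef]
  have hψconj : ∀ (g s : X), s ∈ commutator X → ψ (g * s * g⁻¹) = g * ψ s * g⁻¹ := by
    intro g s hs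
    have := hswap b⁻¹ g hs
    rw [inv_inv] at this
    simp only [hψdef]
    rw [this]
    group
  let U : Subgroup X :=
    { carrier := {s | s ∈ commutator X ∧ (ψ s = 1 ∨ ψ s = δ)}
      one_mem' := ⟨one_mem _, Or.inl (by simp [hψdef])⟩
      mul_mem' := fun {s t} hs ht => ⟨mul_mem hs.1 ht.1, by
        rw [hψmul s t hs.1 ht.1]
        rcases hs.2 with h | h <;> rcases ht.2 with h' | h' <;> rw [h, h']
        · exact Or.inl (one_mul 1)
        · exact Or.inr (one_mul δ)
        · exact Or.inr (mul_one δ)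
        · exact Or.inl hδ2⟩
      inv_mem' := fun {s} hs => ⟨inv_mem hs.1, by
        rw [hψinv s hs.1]
        rcases hs.2 with h | h <;> rw [h]
        · exact Or.inl inv_one
        · exact Or.inr (inv_eq_of_mul_eq_one_left hδ2)⟩ }
  haveI : U.Normal := ⟨fun u hu g => ⟨hCn.conj_mem u hu.1 g, by
    rw [hψconj g u hu.1]
    rcases hu.2 with h | h <;> rw [h]
    · exact Or.inl (by group)
    · exact Or.inr (hδc g)⟩⟩
  have hUtop : U = commutator X :=
    H.eq_commutator_of_not_le (fun s hs => hs.1) (show c ∈ U from ⟨hc, Or.inr rfl⟩) hcK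
  have hψ : ∀ s ∈ commutator X, ψ s = 1 ∨ ψ s = δ := fun s hs => by
    have h : s ∈ U := hUtop.symm ▸ hs
    exact h.2
  let U1 : Subgroup X :=
    { carrier := {s | s ∈ commutator X ∧ ψ s = 1}
      one_mem' := ⟨one_mem _, by simp [hψdef]⟩
      mul_mem' := fun {s t} hs ht =>
        ⟨mul_mem hs.1 ht.1, by rw [hψmul s t hs.1 ht.1, hs.2, ht.2, one_mul]⟩
      inv_mem' := fun {s} hs => ⟨inv_mem hs.1, by rw [hψinv s hs.1, hs.2, inv_one]⟩ }
  have hψK : ∀ s ∈ kSub X, ψ s = 1 := by
    have hle : kSub X ≤ U1 := by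
      refine kSub_le_of (fun s hs => ⟨pow_mem hs 2, ?_⟩) fun s hs g => ⟨comm_mem g s, ?_⟩
      · rw [pow_two, hψmul s s hs hs]
        rcases hψ s hs with h | h <;> rw [h]
        · exact one_mul 1
        · exact hδ2
      · rw [hψmul _ _ (hCn.conj_mem s hs g) (inv_mem hs), hψinv s hs, hψconj g s hs]
        rcases hψ s hs with h | h <;> rw [h]
        · group
        · rw [hδc g, mul_inv_cancel]
    exact fun s hs => (hle hs).2
  -- conjugation by `b` on elements of order two
  have hzcen : omegaDer X = commutator X → ∀ g : X, g * b ^ 2 * g⁻¹ = b ^ 2 := by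
    intro hE g
    rcases H.conj_omegaDer hnc hz0 hz01 hz0c g hb1 with h | h
    · exact h
    exfalso
    have hz0K : z0 ∈ kSub X := by
      have := mul_mem (inv_mem hb2) (kSub_normal.conj_mem _ hb2 g)
      rwa [h, inv_mul_cancel_left] at this
    have hKne : kSub X ≠ commutator X := fun e =>
      commutator_ne_bot H.hb H.hm (commutator_eq_bot_of_kSub_eq H.hX e)
    rcases eq_or_ne (b ^ 2) 1 with e | e
    · rw [e] at h
      exact hz01 (by simpa using h.symm)
    rcases eq_or_ne (b ^ 2) z0 with e' | e'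
    · rw [e', mem_center_iff.1 hz0c g, mul_inv_cancel_right] at h
      exact hz01 (left_eq_mul.1 h)
    refine hKne (le_antisymm kSub_le fun s hs => ?_)
    rcases H.omegaDer_cases hnc hz0 hb1 hz01 e e' s (hE.symm ▸ hs) with r | r | r | r <;> rw [r]
    · exact one_mem _
    · exact hz0K
    · exact hb2
    · exact mul_mem hb2 hz0K
  have hbfix : ∀ e ∈ omegaDer X, b⁻¹ * e * b = e := by
    intro e he
    have he2 : e * e = 1 := by rw [← pow_two]; exact (H.mem_omegaDer.1 he).2
    have h1 : ψ e = 1 := by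
      by_cases heK : e ∈ kSub X
      · exact hψK e heK
      · have hE := H.eq_commutator_of_not_le hoDle he heK
        have := hδ1 (hzcen hE a)
        rcases hψ e (hoDle he) with h | h
        · exact h
        · rw [h, this]
    have : b⁻¹ * e * b * e = 1 := h1
    rw [eq_inv_of_mul_eq_one_left this, inv_eq_of_mul_eq_one_left he2]
  refine ⟨fun e he => ?_, ?_⟩
  · calc b * e = b * (b⁻¹ * e * b) := by rw [hbfix e he]
      _ = e * b := by group
  have hsb : ∀ s : X, s * b * s⁻¹ = b * (b⁻¹ * s * b * s⁻¹) := fun s => by group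
  by_cases hE : omegaDer X = commutator X
  · -- the derived group is elementary abelian
    have hzc := hzcen hE
    have hδ' : δ = 1 := hδ1 (hzc a)
    have hb' : ∀ s ∈ commutator X, b⁻¹ * s * b = s := fun s hs => hbfix s (hE.symm ▸ hs)
    have hac : a * c * a⁻¹ ≠ c := by
      intro hac
      haveI : (zpowers c).Normal := hnorm _ (zpowers_le.2 hc)
        (fun u hu => by
          obtain ⟨i, rfl⟩ := mem_zpowers_iff.1 hu
          rw [← conj_zpow, hac]; exact zpow_mem (mem_zpowers c) i)
        (fun u hu => by rw [hb' u ((zpowers_le.2 hc) hu)]; exact hu)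
      exact hnc (H.eq_commutator_of_not_le (zpowers_le.2 hc) (mem_zpowers c) hcK ▸
        (inferInstance : IsCyclic (zpowers c)))
    have hc1 : c ≠ 1 := fun h => hcK (h ▸ one_mem _)
    set c' := a * c * a⁻¹ with hc'def
    have hc'C : c' ∈ commutator X := hCn.conj_mem c hc a
    have hc'1 : c' ≠ 1 := fun h => hc1 (conj_eq_one_iff.1 h)
    have hcases := H.omegaDer_cases hnc (hE.symm ▸ hc'C : c' ∈ omegaDer X)
      (hE.symm ▸ hc : c ∈ omegaDer X) hc'1 hc1 hac.symm
    intro e he
    have hgz : ∀ g : X, g * b ^ 2 = b ^ 2 * g := fun g => mul_inv_eq_iff_eq_mul.1 (hzc g)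
    have a2 : a ^ 2 * b * (a ^ 2)⁻¹ = b * (c * c') := by
      calc a ^ 2 * b * (a ^ 2)⁻¹ = a * (a * b * a⁻¹) * a⁻¹ := by rw [pow_two]; group
        _ = (a * b * a⁻¹) * c' := by
            conv_lhs => rw [habc]
            rw [hc'def]; group
        _ = b * (c * c') := by rw [habc, mul_assoc]
    have hc'' : a * c' * a⁻¹ = c := by
      have := H.sq_comm_omegaDer hnc a (hE.symm ▸ hc : c ∈ omegaDer X)
      rw [hc'def, show a * (a * c * a⁻¹) * a⁻¹ = a ^ 2 * c * (a ^ 2)⁻¹ by rw [pow_two]; group,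
        this, mul_inv_cancel_right]
    have a3 : a ^ 3 * b * (a ^ 3)⁻¹ = b * c' := by
      have hcc : c * c = 1 := by
        rw [← pow_two]; exact (H.mem_omegaDer.1 (hE.symm ▸ hc : c ∈ omegaDer X)).2
      calc a ^ 3 * b * (a ^ 3)⁻¹ = a * (a ^ 2 * b * (a ^ 2)⁻¹) * a⁻¹ := by
            rw [pow_succ' a 2]; group
        _ = (a * b * a⁻¹) * (a * c * a⁻¹) * (a * c' * a⁻¹) := by rw [a2]; group
        _ = b * (c * c' * c) := by rw [habc, ← hc'def, hc'']; group
        _ = b * c' := by rw [hcomm hc hc'C, mul_assoc c', hcc, mul_one]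
    rcases hcases e he with rfl | rfl | rfl | rfl
    · exact ⟨1, by group, hgz 1⟩
    · exact ⟨a ^ 3, a3, hgz _⟩
    · exact ⟨a, habc, hgz a⟩
    · exact ⟨a ^ 2, a2, hgz _⟩
  -- now every witness is found in the Frattini subgroup
  suffices key : ∀ e ∈ omegaDer X, ∃ g ∈ frattini X, g * b * g⁻¹ = b * e by
    intro e he
    obtain ⟨g, hg, hgb⟩ := key e he
    exact ⟨g, hgb, H.frattini_comm_omegaDer hnc hg hb1⟩
  have hEK : omegaDer X ≤ kSub X := fun e he => by
    by_contra h
    exact hE (H.eq_commutator_of_not_le hoDle he h)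
  by_cases hall : omegaDer X ≤ sqDer X
  · -- every such element is a square
    intro e he
    have hroot : ∀ e : omegaDer X, ∃ s ∈ commutator X, (e : X) = s ^ 2 := fun e =>
      H.mem_sqDer.1 (hall e.2)
    choose r hrC hr using hroot
    have hf : ∀ e : omegaDer X, b⁻¹ * r e * b * (r e)⁻¹ ∈ omegaDer X := fun e => by
      refine H.mem_omegaDer.2 ⟨mul_mem (by simpa using hCn.conj_mem _ (hrC e) b⁻¹)
        (inv_mem (hrC e)), ?_⟩
      have hm1 : b⁻¹ * r e * b ∈ commutator X := by simpa using hCn.conj_mem _ (hrC e) b⁻¹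
      rw [(show Commute (b⁻¹ * r e * b) (r e)⁻¹ from hcomm hm1 (inv_mem (hrC e))).mul_pow,
        inv_pow, ← hr, show (b⁻¹ * r e * b) ^ 2 = b⁻¹ * (r e) ^ 2 * b by rw [pow_two, pow_two]; group,
        ← hr, hbfix _ e.2, mul_inv_cancel]
    -- the kernel
    have hkerf : ∀ s ∈ commutator X, b⁻¹ * s * b = s → s ^ 2 ∈ omegaDer X → s ∈ omegaDer X := by
      intro s hs hfix hs2
      by_contra hsE
      have hψs : ψ s = s ^ 2 := by simp only [hψdef]; rw [hfix, pow_two]
      have hne : s ^ 2 ≠ 1 := fun h => hsE (H.mem_omegaDer.2 ⟨hs, h⟩)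
      have hsK : s ∉ kSub X := fun h => hne (hψs ▸ hψK s h)
      have hsδ : s ^ 2 = δ := hψs ▸ (hψ s hs).resolve_left (hψs.symm ▸ hne)
      let V : Subgroup X :=
        { carrier := {w | w ∈ commutator X ∧ (w ∈ omegaDer X ∨ w * s⁻¹ ∈ omegaDer X)}
          one_mem' := ⟨one_mem _, Or.inl (one_mem _)⟩
          mul_mem' := fun {u v} hu hv => ⟨mul_mem hu.1 hv.1, by
            rcases hu.2 with h | h <;> rcases hv.2 with h' | h'
            · exact Or.inl (mul_mem h h')
            · exact Or.inr (by rw [mul_assoc]; exact mul_mem h h')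
            · refine Or.inr ?_
              have := mul_mem h h'
              rwa [mul_assoc, ← hcomm hv.1 (inv_mem hs), ← mul_assoc] at this
            · refine Or.inl ?_
              have := mul_mem (mul_mem h h') hs2
              rwa [mul_assoc u, ← mul_assoc s⁻¹, hcomm (inv_mem hs) hv.1,
                show u * (v * s⁻¹ * s⁻¹) * s ^ 2 = u * v by rw [pow_two]; group] at this⟩
          inv_mem' := fun {u} hu => ⟨inv_mem hu.1, by
            rcases hu.2 with h | h
            · exact Or.inl (inv_mem h)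
            · refine Or.inr ?_
              have := mul_mem (inv_mem h) (inv_mem hs2)
              rwa [mul_inv_rev, inv_inv, hcomm hs (inv_mem hu.1),
                show u⁻¹ * s * (s ^ 2)⁻¹ = u⁻¹ * s⁻¹ by rw [pow_two]; group] at this⟩ }
      haveI : V.Normal := ⟨fun u hu g => ⟨hCn.conj_mem u hu.1 g, by
        rcases hu.2 with h | h
        · exact Or.inl (omegaDer_normal.conj_mem u h g)
        · refine Or.inr ?_
          have h1 : g * s * g⁻¹ * s⁻¹ ∈ omegaDer X := by
            refine H.mem_omegaDer.2 ⟨comm_mem g s, ?_⟩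
            rw [(show Commute (g * s * g⁻¹) s⁻¹ from
              hcomm (hCn.conj_mem s hs g) (inv_mem hs)).mul_pow, conj_pow, inv_pow, hsδ, hδc g,
              mul_inv_cancel]
          have := mul_mem (omegaDer_normal.conj_mem _ h g) h1
          rwa [show g * (u * s⁻¹) * g⁻¹ * (g * s * g⁻¹ * s⁻¹) = g * u * g⁻¹ * s⁻¹ by group]
            at this⟩⟩
      have hV := H.eq_commutator_of_not_le (U := V) (fun w hw => hw.1)
        (show s ∈ V from ⟨hs, Or.inr (by rw [mul_inv_cancel]; exact one_mem _)⟩) hsK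
      have hsqV : ∀ w ∈ commutator X, w ^ 2 = 1 ∨ w ^ 2 = δ := fun w hw => by
        rcases (hV.symm ▸ hw : w ∈ V).2 with h | h
        · exact Or.inl (H.mem_omegaDer.1 h).2
        · refine Or.inr ?_
          have h2 := (H.mem_omegaDer.1 h).2
          rw [(show Commute w s⁻¹ from hcomm hw (inv_mem hs)).mul_pow, inv_pow,
            mul_inv_eq_one] at h2
          rw [h2, hsδ]
      -- but all four elements are squares
      obtain ⟨e', he', he'1, he'δ⟩ : ∃ e' ∈ omegaDer X, e' ≠ 1 ∧ e' ≠ δ := by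
        by_contra hno
        push Not at hno
        have hle : Nat.card (omegaDer X) ≤ Nat.card (({1, δ} : Set X) : Set X) :=
          Nat.card_mono (Set.toFinite _) (fun w hw => by
            rcases eq_or_ne w 1 with r | r
            · exact Or.inl r
            · exact Or.inr (hno w hw r))
        rw [Nat.card_coe_set_eq] at hle
        have := Set.ncard_insert_le (1 : X) {δ}
        rw [Set.ncard_singleton] at this
        omega
      obtain ⟨w, hw, hw2⟩ := H.mem_sqDer.1 (hall he')
      rcases hsqV w hw with r | r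
      · exact he'1 (hw2.trans r)
      · exact he'δ (hw2.trans r)
    let F : omegaDer X → omegaDer X := fun e => ⟨_, hf e⟩
    have hFinj : Function.Injective F := by
      intro e e' h
      have h' : b⁻¹ * r e * b * (r e)⁻¹ = b⁻¹ * r e' * b * (r e')⁻¹ := congrArg Subtype.val h
      set s := r e * (r e')⁻¹ with hs
      have hsC : s ∈ commutator X := mul_mem (hrC e) (inv_mem (hrC e'))
      have hfix : b⁻¹ * s * b = s := by
        have hm1 : b⁻¹ * r e' * b ∈ commutator X := by simpa using hCn.conj_mem _ (hrC e') b⁻¹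
        calc b⁻¹ * s * b
            = (b⁻¹ * r e * b * (r e)⁻¹) * (r e * (b⁻¹ * r e' * b)⁻¹) := by rw [hs]; group
          _ = (b⁻¹ * r e * b * (r e)⁻¹) * ((b⁻¹ * r e' * b)⁻¹ * r e) := by
              rw [hcomm (hrC e) (inv_mem hm1)]
          _ = (r e')⁻¹ * r e := by rw [h', hcomm hm1 (inv_mem (hrC e'))]; group
          _ = s := by rw [hs, hcomm (hrC e) (inv_mem (hrC e'))]
      have hs2 : s ^ 2 ∈ omegaDer X := by
        rw [hs, (show Commute (r e) (r e')⁻¹ from hcomm (hrC e) (inv_mem (hrC e'))).mul_pow,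
          inv_pow, ← hr, ← hr]
        exact mul_mem e.2 (inv_mem e'.2)
      have h1 := (H.mem_omegaDer.1 (hkerf s hsC hfix hs2)).2
      rw [hs, (show Commute (r e) (r e')⁻¹ from hcomm (hrC e) (inv_mem (hrC e'))).mul_pow,
        inv_pow, ← hr, ← hr, mul_inv_eq_one] at h1
      exact Subtype.ext h1
    obtain ⟨e1, he1⟩ := Finite.surjective_of_injective hFinj ⟨e, he⟩
    refine ⟨r e1, H.derived_le_frattini (hrC e1), ?_⟩
    have he1' : b⁻¹ * r e1 * b * (r e1)⁻¹ = e := congrArg Subtype.val he1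
    rw [hsb, he1']
  · -- some element is not a square
    obtain ⟨e2, he2, he2S⟩ := SetLike.not_le_iff_exists.1 hall
    have hsqne : sqDer X ≠ ⊥ := fun h => hE (le_antisymm hoDle fun s hs =>
      H.mem_omegaDer.2 ⟨hs, mem_bot.1 (h ▸ H.mem_sqDer.2 ⟨s, hs, rfl⟩)⟩)
    obtain ⟨z1, hz1S, hz1E, hz11, hz1c⟩ :=
      H.exists_central_involution (sqDer_le_kSub.trans kSub_le) hsqne
    have hne21 : e2 ≠ z1 := fun h => he2S (h ▸ hz1S)
    have he21 : e2 ≠ 1 := fun h => he2S (h ▸ one_mem _)
    have hcases := H.omegaDer_cases hnc hz1E he2 hz11 he21 hne21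
    have hint : ∀ u ∈ omegaDer X, u ∈ sqDer X → u = 1 ∨ u = z1 := by
      intro u hu huS
      rcases hcases u hu with r | r | r | r
      · exact Or.inl r
      · exact Or.inr r
      · exact absurd (r ▸ huS) he2S
      · refine absurd ?_ he2S
        have := mul_mem (r ▸ huS : e2 * z1 ∈ sqDer X) (inv_mem hz1S)
        rwa [mul_inv_cancel_right] at this
    have hzc : a * b ^ 2 * a⁻¹ = b ^ 2 := by
      rcases hz with h | h
      · rw [h]; group
      · rcases hint _ hb1 h with r | r <;> rw [r]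
        · group
        · rw [mem_center_iff.1 hz1c a, mul_inv_cancel_right]
    have hδ' := hδ1 hzc
    have hinv : ∀ s ∈ commutator X, b⁻¹ * s * b = s⁻¹ := fun s hs =>
      eq_inv_of_mul_eq_one_left (show b⁻¹ * s * b * s = 1 from (hψ s hs).elim id fun h => h.trans hδ')
    -- `kSub X` is the product of the squares and the elements of order two
    have hK : omegaDer X ⊔ sqDer X = kSub X := by
      refine Subgroup.eq_of_le_of_card_ge (sup_le hEK sqDer_le_kSub) ?_
      haveI : Fact (Nat.Prime 2) := ⟨Nat.prime_two⟩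
      obtain ⟨m, hm⟩ := IsPGroup.iff_card.1 (H.hX.to_subgroup (sqDer X))
      obtain ⟨k, hk⟩ := IsPGroup.iff_card.1 (H.hX.to_subgroup (kSub X))
      obtain ⟨n, hn⟩ := IsPGroup.iff_card.1 (H.hX.to_subgroup (omegaDer X ⊔ sqDer X))
      have h1 : m < n := by
        have hlt : sqDer X < omegaDer X ⊔ sqDer X := lt_of_le_of_ne le_sup_right fun h =>
          he2S (h ▸ mem_sup_left he2)
        have := Set.ncard_lt_ncard (SetLike.coe_ssubset_coe.2 hlt)
        rw [← Nat.card_coe_set_eq, ← Nat.card_coe_set_eq] at this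
        simp only [SetLike.coe_sort_coe, hm, hn] at this
        exact (Nat.pow_lt_pow_iff_right (by norm_num)).1 this
      have h2 : k < m + 2 := by
        have hlt : kSub X < commutator X := lt_of_le_of_ne kSub_le fun e =>
          commutator_ne_bot H.hb H.hm (commutator_eq_bot_of_kSub_eq H.hX e)
        have := Set.ncard_lt_ncard (SetLike.coe_ssubset_coe.2 hlt)
        rw [← Nat.card_coe_set_eq, ← Nat.card_coe_set_eq] at this
        simp only [SetLike.coe_sort_coe, hk, ← (H.card_sqDer_mul hnc).2, hm] at this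
        rw [show (4 : ℕ) = 2 ^ 2 from rfl, ← pow_add] at this
        exact (Nat.pow_lt_pow_iff_right (by norm_num)).1 this
      rw [hn, hk]
      exact Nat.pow_le_pow_right two_pos (by omega)
    have hdK : a * c * a⁻¹ * c⁻¹ ∈ omegaDer X ⊔ sqDer X := hK ▸ comm_mem_kSub hc a
    obtain ⟨e0, he0, q', hq', hd⟩ := mem_sup_of_normal_left.1 hdK
    obtain ⟨q, hq, rfl⟩ := H.mem_sqDer.1 hq'
    have he0S : e0 ∉ sqDer X := by
      intro he0S
      have hd' : a * c * a⁻¹ * c⁻¹ ∈ sqDer X := hd ▸ mul_mem he0S hq'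
      set U' := zpowers c ⊔ sqDer X with hU'
      haveI : U'.Normal := by
        refine hnorm _ (sup_le (zpowers_le.2 hc) (sqDer_le_kSub.trans kSub_le)) ?_ ?_
        · intro u hu
          have hle : U' ≤ U'.comap (MulAut.conj a).toMonoidHom := by
            refine sup_le (zpowers_le.2 ?_) fun w hw => ?_
            · show a * c * a⁻¹ ∈ U'
              have := mul_mem (mem_sup_right hd' : _ ∈ U') (mem_sup_left (mem_zpowers c))
              rwa [inv_mul_cancel_right] at this
            · show a * w * a⁻¹ ∈ U'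
              exact mem_sup_right (sqDer_normal.conj_mem w hw a)
          exact hle hu
        · intro u hu
          have huC : u ∈ commutator X :=
            sup_le (zpowers_le.2 hc) (sqDer_le_kSub.trans kSub_le) hu
          rw [hinv u huC]
          exact inv_mem hu
      have htop := H.eq_commutator_of_not_le
        (sup_le (zpowers_le.2 hc) (sqDer_le_kSub.trans kSub_le) : U' ≤ _)
        (mem_sup_left (mem_zpowers c)) hcK
      have hdesc : ∀ k : ℕ, ∀ s ∈ commutator X, ∃ i : ℤ, ∃ w ∈ commutator X,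
          s = c ^ i * w ^ 2 ^ k := by
        intro k
        induction k with
        | zero => exact fun s hs => ⟨0, s, hs, by simp⟩
        | succ k ih =>
          intro s hs
          obtain ⟨i, w, hw, rfl⟩ := ih s hs
          obtain ⟨v, hv, p, hp, hvp⟩ :=
            mem_sup_of_normal_right.1 (htop.symm ▸ hw : w ∈ zpowers c ⊔ sqDer X)
          obtain ⟨j, rfl⟩ := mem_zpowers_iff.1 hv
          obtain ⟨p, hp', rfl⟩ := H.mem_sqDer.1 hp
          refine ⟨i + j * (2 ^ k : ℕ), p, hp', ?_⟩
          rw [← hvp, (show Commute (c ^ j) (p ^ 2) from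
            hcomm (zpow_mem hc j) (pow_mem hp' 2)).mul_pow, ← mul_assoc, zpow_add, zpow_mul,
            zpow_natCast, ← pow_mul, pow_succ']
      obtain ⟨N, hN⟩ := IsPGroup.iff_card.1 H.hX
      refine hnc ((Subgroup.isCyclic_iff_exists_zpowers_eq_top _).2
        ⟨c, le_antisymm (zpowers_le.2 hc) fun s hs => ?_⟩)
      obtain ⟨i, w, -, rfl⟩ := hdesc N s hs
      rw [← hN, pow_card_eq_one', mul_one]
      exact zpow_mem (mem_zpowers c) i
    -- the witnesses
    obtain ⟨s1, hs1, hs1z⟩ := H.mem_sqDer.1 hz1S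
    have hsb2 : ∀ s ∈ commutator X, s * b * s⁻¹ = b * (s ^ 2)⁻¹ := fun s hs => by
      rw [hsb, hinv s hs, pow_two, mul_inv_rev]
    have hz1i : z1⁻¹ = z1 := inv_eq_of_mul_eq_one_left (by
      rw [← pow_two]; exact (H.mem_omegaDer.1 hz1E).2)
    have hs1b : s1 * b * s1⁻¹ = b * z1 := by rw [hsb2 s1 hs1, ← hs1z, hz1i]
    have hcq : c * q ∈ commutator X := mul_mem hc hq
    set g0 := c * q * a ^ 2 with hg0
    haveI : Fact (Nat.Prime 2) := ⟨Nat.prime_two⟩
    have hg0Φ : g0 ∈ frattini X :=
      mul_mem (H.derived_le_frattini hcq) (CfsgLib.PGroups.pow_mem_frattini H.hX a)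
    have hg0b : g0 * b * g0⁻¹ = b * e0 := by
      have h1 : a ^ 2 * b * (a ^ 2)⁻¹ = b * (e0 * (c * q) ^ 2) := by
        calc a ^ 2 * b * (a ^ 2)⁻¹ = a * (a * b * a⁻¹) * a⁻¹ := by rw [pow_two]; group
          _ = (a * b * a⁻¹) * (a * c * a⁻¹ * c⁻¹ * c) := by
            conv_lhs => rw [habc]
            group
          _ = b * (c * (e0 * q ^ 2 * c)) := by rw [habc, hd, mul_assoc]
          _ = b * (e0 * (c ^ 2 * q ^ 2)) := by
            rw [hcomm (mul_mem (hoDle he0) (pow_mem hq 2)) hc, ← mul_assoc c c, ← pow_two,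
              ← mul_assoc (c ^ 2) e0, hcomm (pow_mem hc 2) (hoDle he0), mul_assoc e0]
          _ = _ := by rw [(show Commute c q from hcomm hc hq).mul_pow]
      calc g0 * b * g0⁻¹ = (c * q) * (a ^ 2 * b * (a ^ 2)⁻¹) * (c * q)⁻¹ := by rw [hg0]; group
        _ = ((c * q) * b * (c * q)⁻¹) * ((c * q) * (e0 * (c * q) ^ 2) * (c * q)⁻¹) := by
            rw [h1]; group
        _ = b * ((c * q) ^ 2)⁻¹ * (e0 * (c * q) ^ 2) := by
            rw [hsb2 _ hcq, hcomm hcq (mul_mem (hoDle he0) (pow_mem hcq 2)), mul_inv_cancel_right]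
        _ = b * e0 := by
            rw [hcomm (hoDle he0) (pow_mem hcq 2), mul_assoc, inv_mul_cancel_left]
    have he01 : e0 ≠ 1 := fun h => he0S (h ▸ one_mem _)
    have he0z : e0 ≠ z1 := fun h => he0S (h ▸ hz1S)
    intro e he
    rcases H.omegaDer_cases hnc hz1E he0 hz11 he01 he0z e he with r | r | r | r <;> rw [r]
    · exact ⟨1, one_mem _, by group⟩
    · exact ⟨s1, H.derived_le_frattini hs1, hs1b⟩
    · exact ⟨g0, hg0Φ, hg0b⟩
    · refine ⟨g0 * s1, mul_mem hg0Φ (H.derived_le_frattini hs1), ?_⟩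
      calc g0 * s1 * b * (g0 * s1)⁻¹ = g0 * (s1 * b * s1⁻¹) * g0⁻¹ := by group
        _ = (g0 * b * g0⁻¹) * (g0 * z1 * g0⁻¹) := by rw [hs1b]; group
        _ = _ := by rw [hg0b, mem_center_iff.1 hz1c g0, mul_inv_cancel_right, mul_assoc]

end CfsgLib.Fusion.Bicyclic
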