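import Cfsg.Agent.Lib.Fusion.Bicyclic.Pair
import Cfsg.Agent.Lib.Fusion.MetacyclicTwo

/-!
Bicyclic nonmetacyclic `2`-groups with noncyclic derived group: the elements of order at most two
of the derived group.
-/

set_option autoImplicit false

namespace CfsgLib.Fusion.Bicyclic

open Subgroup

universe u

variable {X : Type u} [Group X]

/-- The derived group of a product of two cyclic groups is abelian. -/
theorem derived_comm {x y : X} (hb : IsBicyclicPair x y) {s t : X} (hs : s ∈ commutator X)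
    (ht : t ∈ commutator X) : s * t = t * s := by
  set C : Set X := {u | ∃ i j : ℤ, u = x ^ i * y ^ j * (x ^ i)⁻¹ * (y ^ j)⁻¹}
  have hcC : ∀ i j : ℤ, x ^ i * y ^ j * (x ^ i)⁻¹ * (y ^ j)⁻¹ ∈ closure C := fun i j =>
    subset_closure ⟨i, j, rfl⟩
  -- swapping the two actions
  have hswap : ∀ i j k l : ℤ,
      (x ^ k * y ^ l * (x ^ k)⁻¹ * (y ^ l)⁻¹) * (x ^ i * y ^ j * (x ^ i)⁻¹ * (y ^ j)⁻¹) =
        (x ^ i * y ^ j * (x ^ i)⁻¹ * (y ^ j)⁻¹) * (x ^ k * y ^ l * (x ^ k)⁻¹ * (y ^ l)⁻¹) := by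
    intro i j k l
    set A := x ^ i * y ^ j * (x ^ i)⁻¹ * (y ^ j)⁻¹
    calc x ^ k * y ^ l * (x ^ k)⁻¹ * (y ^ l)⁻¹ * A
        = x ^ k * y ^ l * (x ^ k)⁻¹ * (y ^ l)⁻¹ * A *
            (y ^ l * x ^ k * (y ^ l)⁻¹ * (x ^ k)⁻¹) *
            (x ^ k * y ^ l * (x ^ k)⁻¹ * (y ^ l)⁻¹) := by group
      _ = A * (x ^ k * y ^ l * (x ^ k)⁻¹ * (y ^ l)⁻¹) := by
        congr 1
        have key : ∀ w w' : X, y ^ l * (x ^ k * w * (x ^ k)⁻¹) * (y ^ l)⁻¹ = w' →
            x ^ k * (y ^ l * w * (y ^ l)⁻¹) * (x ^ k)⁻¹ = w' →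
            x ^ k * y ^ l * (x ^ k)⁻¹ * (y ^ l)⁻¹ * w' *
              (y ^ l * x ^ k * (y ^ l)⁻¹ * (x ^ k)⁻¹) = w' := by
          intro w w' h1 h2
          calc _ = x ^ k * y ^ l * (x ^ k)⁻¹ * (y ^ l)⁻¹ *
                (y ^ l * (x ^ k * w * (x ^ k)⁻¹) * (y ^ l)⁻¹) *
                (y ^ l * x ^ k * (y ^ l)⁻¹ * (x ^ k)⁻¹) := by rw [h1]
            _ = x ^ k * (y ^ l * w * (y ^ l)⁻¹) * (x ^ k)⁻¹ := by group
            _ = w' := h2
        obtain ⟨i'', l'', hli'⟩ := hb ((y ^ l)⁻¹ * x ^ i)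
        obtain ⟨k'', j'', hkj'⟩ : ∃ k'' j'' : ℤ, (x ^ k)⁻¹ * y ^ j = y ^ j'' * x ^ k'' := by
          obtain ⟨p, q, hpq⟩ := hb ((x ^ k)⁻¹ * y ^ j)⁻¹
          refine ⟨-p, -q, ?_⟩
          rw [← inv_inv ((x ^ k)⁻¹ * y ^ j), hpq, mul_inv_rev, zpow_neg, zpow_neg]
        have f1 : (x ^ k)⁻¹ * ((y ^ l)⁻¹ * A * y ^ l) * x ^ k =
            x ^ i'' * y ^ j'' * (x ^ i'')⁻¹ * (y ^ j'')⁻¹ := by
          calc _ = (x ^ k)⁻¹ * (((y ^ l)⁻¹ * x ^ i) * y ^ j * ((y ^ l)⁻¹ * x ^ i)⁻¹ * (y ^ j)⁻¹) *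
                x ^ k := by simp only [A]; group
            _ = x ^ i'' * ((x ^ k)⁻¹ * y ^ j) * (x ^ i'')⁻¹ * ((x ^ k)⁻¹ * y ^ j)⁻¹ := by
              rw [hli']; group
            _ = _ := by rw [hkj']; group
        have f2 : (y ^ l)⁻¹ * ((x ^ k)⁻¹ * A * x ^ k) * y ^ l =
            x ^ i'' * y ^ j'' * (x ^ i'')⁻¹ * (y ^ j'')⁻¹ := by
          calc _ = (y ^ l)⁻¹ * (x ^ i * ((x ^ k)⁻¹ * y ^ j) * (x ^ i)⁻¹ *
                ((x ^ k)⁻¹ * y ^ j)⁻¹) * y ^ l := by simp only [A]; group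
            _ = ((y ^ l)⁻¹ * x ^ i) * y ^ j'' * ((y ^ l)⁻¹ * x ^ i)⁻¹ * (y ^ j'')⁻¹ := by
              rw [hkj']; group
            _ = _ := by rw [hli']; group
        refine key (x ^ (-k) * y ^ (-l) * A * y ^ l * x ^ k) A ?_ ?_
        · group
        · calc _ = x ^ k * (y ^ l * ((x ^ k)⁻¹ * ((y ^ l)⁻¹ * A * y ^ l) * x ^ k) * (y ^ l)⁻¹) *
                (x ^ k)⁻¹ := by group
            _ = x ^ k * (y ^ l * ((y ^ l)⁻¹ * ((x ^ k)⁻¹ * A * x ^ k) * y ^ l) * (y ^ l)⁻¹) *
                (x ^ k)⁻¹ := by rw [f1, f2]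
            _ = A := by group
  haveI hcom := Subgroup.isMulCommutative_closure (k := C) (by
    rintro _ ⟨k, l, rfl⟩ _ ⟨i, j, rfl⟩
    exact hswap i j k l)
  haveI : (closure C).Normal := by
    refine ⟨fun u hu g => ?_⟩
    have hx : ∀ (n : ℤ) (v : X), v ∈ closure C → x ^ n * v * (x ^ n)⁻¹ ∈ closure C := by
      intro n v hv
      induction hv using Subgroup.closure_induction with
      | mem w hw =>
        obtain ⟨i, j, rfl⟩ := hw
        have : x ^ n * (x ^ i * y ^ j * (x ^ i)⁻¹ * (y ^ j)⁻¹) * (x ^ n)⁻¹ =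
            (x ^ (n + i) * y ^ j * (x ^ (n + i))⁻¹ * (y ^ j)⁻¹) *
              (x ^ n * y ^ j * (x ^ n)⁻¹ * (y ^ j)⁻¹)⁻¹ := by group
        rw [this]
        exact mul_mem (hcC _ _) (inv_mem (hcC _ _))
      | one => simp
      | mul v w _ _ hv hw =>
        have := mul_mem hv hw
        rwa [conj_mul] at this
      | inv v _ hv =>
        have := inv_mem hv
        rwa [conj_inv] at this
    have hy : ∀ (n : ℤ) (v : X), v ∈ closure C → y ^ n * v * (y ^ n)⁻¹ ∈ closure C := by
      intro n v hv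
      induction hv using Subgroup.closure_induction with
      | mem w hw =>
        obtain ⟨i, j, rfl⟩ := hw
        have : y ^ n * (x ^ i * y ^ j * (x ^ i)⁻¹ * (y ^ j)⁻¹) * (y ^ n)⁻¹ =
            (x ^ i * y ^ n * (x ^ i)⁻¹ * (y ^ n)⁻¹)⁻¹ *
              (x ^ i * y ^ (n + j) * (x ^ i)⁻¹ * (y ^ (n + j))⁻¹) := by group
        rw [this]
        exact mul_mem (inv_mem (hcC _ _)) (hcC _ _)
      | one => simp
      | mul v w _ _ hv hw =>
        have := mul_mem hv hw
        rwa [conj_mul] at this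
      | inv v _ hv =>
        have := inv_mem hv
        rwa [conj_inv] at this
    obtain ⟨i, j, rfl⟩ := hb g
    have := hx i _ (hy j u hu)
    rwa [show x ^ i * y ^ j * u * (x ^ i * y ^ j)⁻¹ =
      x ^ i * (y ^ j * u * (y ^ j)⁻¹) * (x ^ i)⁻¹ by group]
  have hle : commutator X ≤ closure C :=
    commutator_le_of_pair (closure_of_bicyclicPair hb) (by simpa using hcC 1 1)
  exact congrArg Subtype.val (hcom.is_comm.comm (⟨s, hle hs⟩ : Subgroup.closure C) ⟨t, hle ht⟩)

/-- A bicyclic `2`-group which is not metacyclic. -/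
structure Hyp (x y : X) : Prop where
  hX : IsPGroup 2 X
  hb : IsBicyclicPair x y
  hm : ¬ Cfsg.IsMetacyclic X

/-- The elements of order at most two of the derived group. -/
def omegaDer (X : Type u) [Group X] : Subgroup X := closure {s | s ∈ commutator X ∧ s ^ 2 = 1}

/-- The squares of the elements of the derived group. -/
def sqDer (X : Type u) [Group X] : Subgroup X := closure {u | ∃ s ∈ commutator X, u = s ^ 2}

instance omegaDer_normal : (omegaDer X).Normal := ⟨fun u hu g => by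
  induction hu using Subgroup.closure_induction with
  | mem w hw =>
    refine subset_closure ⟨(inferInstance : (commutator X).Normal).conj_mem w hw.1 g, ?_⟩
    rw [conj_pow, hw.2, mul_one, mul_inv_cancel]
  | one => simp
  | mul v w _ _ hv hw =>
    have := mul_mem hv hw
    rwa [conj_mul] at this
  | inv v _ hv =>
    have := inv_mem hv
    rwa [conj_inv] at this⟩

instance sqDer_normal : (sqDer X).Normal := ⟨fun u hu g => by
  induction hu using Subgroup.closure_induction with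
  | mem w hw =>
    obtain ⟨s, hs, rfl⟩ := hw
    exact subset_closure ⟨_, (inferInstance : (commutator X).Normal).conj_mem s hs g,
      conj_pow.symm⟩
  | one => simp
  | mul v w _ _ hv hw =>
    have := mul_mem hv hw
    rwa [conj_mul] at this
  | inv v _ hv =>
    have := inv_mem hv
    rwa [conj_inv] at this⟩

theorem sqDer_le_kSub : sqDer X ≤ kSub X := by
  refine (closure_le _).2 ?_
  rintro _ ⟨s, hs, rfl⟩
  exact sq_mem_kSub hs

/-- A subgroup of order four. -/
theorem four_cases {H : Subgroup X} (h4 : Nat.card H = 4) {z e : X} (hz : z ∈ H) (he : e ∈ H)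
    (hz1 : z ≠ 1) (he1 : e ≠ 1) (hne : e ≠ z) (hez : e * z ≠ 1) :
    ∀ u ∈ H, u = 1 ∨ u = z ∨ u = e ∨ u = e * z := by
  intro u hu
  by_contra h
  push Not at h
  obtain ⟨h1, h2, h3, h5⟩ := h
  haveI : Finite H := Nat.finite_of_card_ne_zero (by omega)
  let f : Fin 5 → H := ![1, ⟨z, hz⟩, ⟨e, he⟩, ⟨e * z, H.mul_mem he hz⟩, ⟨u, hu⟩]
  have hf : Function.Injective f := by
    intro i j hij
    have e34 : e ≠ e * z := fun e' => hz1 (left_eq_mul.1 e')
    have e24 : z ≠ e * z := fun e' => he1 (right_eq_mul.1 e')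
    have hval : ((f i : H) : X) = (f j : H) := congrArg Subtype.val hij
    fin_cases i <;> fin_cases j <;> simp [f] at hval ⊢ <;>
      first | exact absurd hval ‹_› | exact absurd hval.symm ‹_›
  have := Nat.card_le_card_of_injective f hf
  rw [Nat.card_fin, h4] at this
  omega

variable [Finite X] {x y : X}

namespace Hyp

variable (H : Hyp x y)

include H

theorem mem_omegaDer {s : X} : s ∈ omegaDer X ↔ s ∈ commutator X ∧ s ^ 2 = 1 := by
  refine ⟨fun hs => ?_, fun hs => subset_closure hs⟩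
  induction hs using Subgroup.closure_induction with
  | mem w hw => exact hw
  | one => exact ⟨one_mem _, one_pow _⟩
  | mul v w _ _ hv hw =>
    exact ⟨mul_mem hv.1 hw.1,
      by rw [(show Commute v w from derived_comm H.hb hv.1 hw.1).mul_pow, hv.2, hw.2, one_mul]⟩
  | inv v _ hv => exact ⟨inv_mem hv.1, by rw [inv_pow, hv.2, inv_one]⟩

theorem omegaDer_le : omegaDer X ≤ commutator X := fun _ hs => (H.mem_omegaDer.1 hs).1

theorem mem_sqDer {u : X} : u ∈ sqDer X ↔ ∃ s ∈ commutator X, u = s ^ 2 := by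
  refine ⟨fun hs => ?_, fun hs => subset_closure hs⟩
  induction hs using Subgroup.closure_induction with
  | mem w hw => exact hw
  | one => exact ⟨1, one_mem _, (one_pow _).symm⟩
  | mul v w _ _ hv hw =>
    obtain ⟨s, hs, rfl⟩ := hv
    obtain ⟨t, ht, rfl⟩ := hw
    exact ⟨s * t, mul_mem hs ht,
      ((show Commute s t from derived_comm H.hb hs ht).mul_pow 2).symm⟩
  | inv v _ hv =>
    obtain ⟨s, hs, rfl⟩ := hv
    exact ⟨s⁻¹, inv_mem hs, (inv_pow s 2).symm⟩

/-- Elementary abelian subgroups of the Frattini subgroup have order at most four. -/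
theorem card_elementary_le {A : Subgroup X} (hA : A ≤ frattini X)
    (h2 : ∀ a ∈ A, a ^ 2 = 1) : Nat.card A ≤ 4 := by
  have hm : Cfsg.IsMetacyclic A := isMetacyclic_of_injective (isMetacyclic_frattini H.hX H.hb H.hm)
    (Subgroup.inclusion hA) (Subgroup.inclusion_injective hA)
  exact CfsgLib.Techniques.metacyclic_card_le hm (MonoidHom.id A) (fun a => ⟨a, rfl⟩) two_ne_zero
    fun a => Subtype.ext (h2 a a.2)

theorem derived_le_frattini : commutator X ≤ frattini X :=
  haveI : Fact (Nat.Prime 2) := ⟨Nat.prime_two⟩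
  CfsgLib.PGroups.commutator_le_frattini' H.hX

theorem card_sqDer_mul (hnc : ¬ IsCyclic (commutator X)) :
    Nat.card (omegaDer X) = 4 ∧ Nat.card (sqDer X) * 4 = Nat.card (commutator X) := by
  haveI : Fact (Nat.Prime 2) := ⟨Nat.prime_two⟩
  have hC2 : IsPGroup 2 (commutator X) := H.hX.to_subgroup _
  have hcom : ∀ u v : commutator X, Commute u v := fun u v =>
    Subtype.ext (derived_comm H.hb u.2 v.2)
  let sq : commutator X →* commutator X :=
    { toFun := fun u => u ^ 2
      map_one' := one_pow _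
      map_mul' := fun u v => (hcom u v).mul_pow 2 }
  have hker : Nat.card sq.ker = Nat.card (omegaDer X) := Nat.card_congr
    { toFun := fun u => ⟨(u.1 : X), H.mem_omegaDer.2 ⟨u.1.2, congrArg Subtype.val u.2⟩⟩
      invFun := fun u => ⟨⟨u.1, (H.mem_omegaDer.1 u.2).1⟩, Subtype.ext (H.mem_omegaDer.1 u.2).2⟩
      left_inv := fun u => rfl
      right_inv := fun u => rfl }
  have hran : Nat.card sq.range = Nat.card (sqDer X) := Nat.card_congr
    { toFun := fun u => ⟨(u.1 : X), by
        obtain ⟨t, ht⟩ := u.2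
        exact H.mem_sqDer.2 ⟨t, t.2, (congrArg Subtype.val ht).symm⟩⟩
      invFun := fun u => ⟨⟨u.1, kSub_le (sqDer_le_kSub u.2)⟩, by
        obtain ⟨s, hs, hsu⟩ := H.mem_sqDer.1 u.2
        exact ⟨⟨s, hs⟩, Subtype.ext hsu.symm⟩⟩
      left_inv := fun u => rfl
      right_inv := fun u => rfl }
  have hmul : Nat.card sq.range * Nat.card sq.ker = Nat.card (commutator X) := by
    rw [← Subgroup.index_ker, mul_comm]; exact sq.ker.card_mul_index
  have hfr : frattini (commutator X) ≤ sq.range := by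
    haveI : sq.range.Normal := ⟨fun u hu g => by
      rwa [(hcom g u).eq, mul_inv_cancel_right]⟩
    refine CfsgLib.PGroups.frattini_le_of_elementary (p := 2) ?_ fun u => ⟨u, rfl⟩
    show ⁅(⊤ : Subgroup (commutator X)), (⊤ : Subgroup (commutator X))⁆ ≤ sq.range
    rw [Subgroup.commutator_le]
    intro u _ v _
    rw [commutatorElement_eq_one_iff_mul_comm.2 (hcom u v).eq]
    exact one_mem _
  have h4 : Nat.card (omegaDer X) = 4 := by
    have hle : Nat.card (omegaDer X) ≤ 4 :=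
      H.card_elementary_le (H.omegaDer_le.trans H.derived_le_frattini)
        fun s hs => (H.mem_omegaDer.1 hs).2
    have hgt : 2 < Nat.card (omegaDer X) := by
      by_contra hcon
      refine hnc (CfsgLib.PGroups.isCyclic_of_index_frattini_le hC2 ?_)
      have hfr' : frattini (commutator X) = sq.range := le_antisymm hfr (by
        rintro _ ⟨t, rfl⟩; exact CfsgLib.PGroups.pow_mem_frattini hC2 t)
      have h1 := sq.range.card_mul_index
      rw [← hmul] at h1
      rw [hfr', Nat.eq_of_mul_eq_mul_left Nat.card_pos h1, hker]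
      omega
    obtain ⟨k, hk⟩ := IsPGroup.iff_card.1 (H.hX.to_subgroup (omegaDer X))
    rw [hk] at hle hgt ⊢
    rcases k with _ | _ | _ | k
    · simp at hgt
    · simp at hgt
    · rfl
    · have : 2 ^ 3 ≤ 2 ^ (k + 3) := Nat.pow_le_pow_right two_pos (by omega)
      omega
  exact ⟨h4, by rw [← hran, ← h4, ← hker]; exact hmul⟩

/-- A central involution of the derived group. -/
theorem exists_central_involution {N : Subgroup X} [N.Normal] (hN : N ≤ commutator X)
    (hne : N ≠ ⊥) : ∃ z ∈ N, z ∈ omegaDer X ∧ z ≠ 1 ∧ z ∈ center X := by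
  classical
  haveI : Fact (Nat.Prime 2) := ⟨Nat.prime_two⟩
  obtain ⟨⟨z, hzN, hzZ⟩, hz1'⟩ :=
    ne_bot_iff_exists_ne_one.1 (CfsgLib.PGroups.inf_center_ne_bot H.hX hne)
  have hz1 : z ≠ 1 := fun e => hz1' (Subtype.ext e)
  obtain ⟨n, hn⟩ := H.hX z
  have hex : ∃ k : ℕ, z ^ 2 ^ k = 1 := ⟨n, hn⟩
  have hk0 : Nat.find hex ≠ 0 := fun e => hz1 (by simpa [e] using Nat.find_spec hex)
  obtain ⟨k, hk⟩ := Nat.exists_eq_succ_of_ne_zero hk0
  refine ⟨z ^ 2 ^ k, pow_mem hzN _, H.mem_omegaDer.2 ⟨hN (pow_mem hzN _), ?_⟩,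
    Nat.find_min hex (by omega), pow_mem hzZ _⟩
  rw [← pow_mul, ← pow_succ, show k + 1 = Nat.find hex from hk.symm]
  exact Nat.find_spec hex

theorem omegaDer_cases (hnc : ¬ IsCyclic (commutator X)) {z e : X} (hz : z ∈ omegaDer X)
    (he : e ∈ omegaDer X) (hz1 : z ≠ 1) (he1 : e ≠ 1) (hne : e ≠ z) :
    ∀ u ∈ omegaDer X, u = 1 ∨ u = z ∨ u = e ∨ u = e * z := by
  refine four_cases (H.card_sqDer_mul hnc).1 hz he hz1 he1 hne fun h => hne ?_
  have hz2 := (H.mem_omegaDer.1 hz).2
  rw [pow_two] at hz2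
  rw [eq_inv_of_mul_eq_one_left h, ← eq_inv_of_mul_eq_one_left hz2]

/-- Conjugation acts on the elements of order at most two as a transvection. -/
theorem conj_omegaDer (hnc : ¬ IsCyclic (commutator X)) {z : X} (hz : z ∈ omegaDer X)
    (hz1 : z ≠ 1) (hzc : z ∈ center X) (g : X) {e : X} (he : e ∈ omegaDer X) :
    g * e * g⁻¹ = e ∨ g * e * g⁻¹ = e * z := by
  have hfix : g * z * g⁻¹ = z := by rw [mem_center_iff.1 hzc g, mul_inv_cancel_right]
  rcases eq_or_ne e 1 with rfl | he1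
  · exact Or.inl (by group)
  rcases eq_or_ne e z with rfl | hne
  · exact Or.inl hfix
  rcases H.omegaDer_cases hnc hz he hz1 he1 hne _ (omegaDer_normal.conj_mem e he g) with
    h | h | h | h
  · exact absurd (conj_eq_one_iff.1 h) he1
  · refine absurd ?_ hne
    rw [← hfix] at h
    exact mul_left_cancel (mul_right_cancel h)
  · exact Or.inl h
  · exact Or.inr h

theorem sq_comm_omegaDer (hnc : ¬ IsCyclic (commutator X)) (g : X) {e : X}
    (he : e ∈ omegaDer X) : g ^ 2 * e = e * g ^ 2 := by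
  have hne : omegaDer X ≠ ⊥ := fun h => by
    have := (H.card_sqDer_mul hnc).1
    rw [h, Subgroup.card_bot] at this
    omega
  obtain ⟨z, -, hz, hz1, hzc⟩ := H.exists_central_involution H.omegaDer_le hne
  have hz2 : z * z = 1 := by rw [← pow_two]; exact (H.mem_omegaDer.1 hz).2
  rw [← mul_inv_eq_iff_eq_mul, pow_two, mul_inv_rev,
    show g * g * e * (g⁻¹ * g⁻¹) = g * (g * e * g⁻¹) * g⁻¹ by group]
  rcases H.conj_omegaDer hnc hz hz1 hzc g he with h | h
  · rw [h, h]
  · rw [h, ← conj_mul, h, mem_center_iff.1 hzc g, mul_inv_cancel_right, mul_assoc, hz2, mul_one]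

theorem frattini_comm_omegaDer (hnc : ¬ IsCyclic (commutator X)) {f e : X}
    (hf : f ∈ frattini X) (he : e ∈ omegaDer X) : f * e = e * f := by
  obtain ⟨i, j, rfl⟩ := H.hb f
  obtain ⟨⟨a, rfl⟩, ⟨b, rfl⟩⟩ := (mem_frattini_iff H.hX H.hb H.hm i j).1 hf
  have h : ∀ (g : X) (n : ℤ), Commute (g ^ (n + n)) e := fun g n => by
    rw [zpow_add, ← (Commute.refl g).mul_zpow, ← pow_two]
    exact (show Commute (g ^ 2) e from H.sq_comm_omegaDer hnc g he).zpow_left n
  exact (h x a).mul_left (h y b)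

/-- All involutions of the Frattini subgroup lie in the derived group. -/
theorem involution_mem_omegaDer (hnc : ¬ IsCyclic (commutator X)) {i : X}
    (hi : i ∈ frattini X) (hi2 : i ^ 2 = 1) : i ∈ omegaDer X := by
  by_contra hne
  have hc : ∀ e ∈ omegaDer X, i * e = e * i := fun e he => H.frattini_comm_omegaDer hnc hi he
  have hii : i * i = 1 := by rw [← pow_two]; exact hi2
  let W : Subgroup X :=
    { carrier := {w | w ∈ omegaDer X ∨ w * i ∈ omegaDer X}
      one_mem' := Or.inl (one_mem _)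
      mul_mem' := fun {u v} hu hv => by
        rcases hu with hu | hu <;> rcases hv with hv | hv
        · exact Or.inl (mul_mem hu hv)
        · exact Or.inr (by rw [mul_assoc]; exact mul_mem hu hv)
        · refine Or.inr ?_
          have := mul_mem hu hv
          rwa [mul_assoc, hc v hv, ← mul_assoc] at this
        · refine Or.inl ?_
          have := mul_mem hu hv
          rwa [show u * i * (v * i) = u * (i * (v * i)) by group, hc _ hv, mul_assoc v, hii,
            mul_one] at this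
      inv_mem' := fun {u} hu => by
        rcases hu with hu | hu
        · exact Or.inl (inv_mem hu)
        · refine Or.inr ?_
          have h1 := inv_mem hu
          have : u⁻¹ * i = i * (u * i)⁻¹ * i := by group
          rw [this, hc _ h1, mul_assoc, hii, mul_one]
          exact h1 }
  have hlt : omegaDer X < W := lt_of_le_of_ne (fun w hw => Or.inl hw) fun h =>
    hne (h ▸ (show i ∈ W from Or.inr (by rw [hii]; exact one_mem _)))
  have hW2 : ∀ w ∈ W, w ^ 2 = 1 := by
    rintro w (hw | hw)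
    · exact (H.mem_omegaDer.1 hw).2
    · have e : w = w * i * i := by rw [mul_assoc, hii, mul_one]
      rw [e, (show Commute (w * i) i from (hc _ hw).symm).mul_pow, (H.mem_omegaDer.1 hw).2, hi2,
        one_mul]
  have hWΦ : W ≤ frattini X := by
    rintro w (hw | hw)
    · exact H.derived_le_frattini (H.omegaDer_le hw)
    · have := mul_mem (H.derived_le_frattini (H.omegaDer_le hw)) hi
      rwa [mul_assoc, hii, mul_one] at this
  have h1 := H.card_elementary_le hWΦ hW2
  have h2 := Set.ncard_lt_ncard (SetLike.coe_ssubset_coe.2 hlt)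
  rw [← Nat.card_coe_set_eq, ← Nat.card_coe_set_eq] at h2
  have h3 := (H.card_sqDer_mul hnc).1
  simp only [SetLike.coe_sort_coe] at h2
  omega

/-- A square of an element outside the Frattini subgroup lying in the derived group is in
`kSub`. -/
theorem sq_mem_of_notMem {g : X} (hg : g ∉ frattini X) (hg2 : g ^ 2 ∈ commutator X) :
    g ^ 2 ∈ kSub X :=
  not_mem_zpowers H.hX H.hb H.hm hg (n := 2) hg2 (by
    rw [zpow_two, pow_two, inv_mul_cancel]; exact one_mem _)

theorem rep_cases {g : X} (hg : g ∉ frattini X) :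
    ∃ r ∈ ({x, y, x * y} : Set X), r⁻¹ * g ∈ frattini X := by
  haveI : Fact (Nat.Prime 2) := ⟨Nat.prime_two⟩
  obtain ⟨i, j, rfl⟩ := H.hb g
  have hΦ := mem_frattini_iff H.hX H.hb H.hm
  have hx : ∀ n : ℤ, Even n → x ^ n ∈ frattini X := fun n hn => by
    simpa using (hΦ n 0).2 ⟨hn, by simp⟩
  have hy : ∀ n : ℤ, Even n → y ^ n ∈ frattini X := fun n hn => by
    simpa using (hΦ 0 n).2 ⟨by simp, hn⟩
  have hN : (frattini X).Normal := inferInstance
  rcases Int.even_or_odd i with hi | hi <;> rcases Int.even_or_odd j with hj | hj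
  · exact absurd ((hΦ i j).2 ⟨hi, hj⟩) hg
  · refine ⟨y, by simp, ?_⟩
    have := mul_mem (hN.conj_mem _ (hx i hi) y⁻¹) (hy (j - 1) (hj.sub_odd odd_one))
    rwa [show y⁻¹ * x ^ i * y⁻¹⁻¹ * y ^ (j - 1) = y⁻¹ * (x ^ i * y ^ j) by group] at this
  · refine ⟨x, by simp, ?_⟩
    have := mul_mem (hx (i - 1) (hi.sub_odd odd_one)) (hy j hj)
    rwa [show x ^ (i - 1) * y ^ j = x⁻¹ * (x ^ i * y ^ j) by group] at this
  · refine ⟨x * y, by simp, ?_⟩
    have := mul_mem (hN.conj_mem _ (hx (i - 1) (hi.sub_odd odd_one)) y⁻¹)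
      (hy (j - 1) (hj.sub_odd odd_one))
    rwa [show y⁻¹ * x ^ (i - 1) * y⁻¹⁻¹ * y ^ (j - 1) = (x * y)⁻¹ * (x ^ i * y ^ j) by group]
      at this

theorem gen_of_notMem {g u : X} (hg : g ∉ frattini X) (hu : u ∉ frattini X)
    (hgu : g⁻¹ * u ∉ frattini X) : closure ({g, u} : Set X) = ⊤ := by
  refine CfsgLib.PGroups.closure_eq_top_of_sup_frattini ?_
  set W := closure ({g, u} : Set X) ⊔ frattini X
  obtain ⟨r, hr, hrg⟩ := H.rep_cases hg
  obtain ⟨r', hr', hru⟩ := H.rep_cases hu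
  have hmem : ∀ {r g : X}, g ∈ W → r⁻¹ * g ∈ frattini X → r ∈ W := fun {r g} hgW h => by
    have := mul_mem hgW (inv_mem ((le_sup_right : frattini X ≤ W) h))
    rwa [show g * (r⁻¹ * g)⁻¹ = r by group] at this
  have h1 : r ∈ W := hmem (mem_sup_left (subset_closure (by simp))) hrg
  have h2 : r' ∈ W := hmem (mem_sup_left (subset_closure (by simp))) hru
  have hne : r ≠ r' := by
    rintro rfl
    have := mul_mem (inv_mem hrg) hru
    rw [show (r⁻¹ * g)⁻¹ * (r⁻¹ * u) = g⁻¹ * u by group] at this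
    exact hgu this
  have hxy : x ∈ W ∧ y ∈ W := by
    have c1 : x ∈ W → x * y ∈ W → y ∈ W := fun a b => by
      simpa using mul_mem (inv_mem a) b
    have c2 : y ∈ W → x * y ∈ W → x ∈ W := fun a b => by
      simpa using mul_mem b (inv_mem a)
    simp only [Set.mem_insert_iff, Set.mem_singleton_iff] at hr hr'
    rcases hr with rfl | rfl | rfl <;> rcases hr' with rfl | rfl | rfl <;>
      first
        | exact absurd rfl hne
        | exact ⟨h1, h2⟩
        | exact ⟨h2, h1⟩
        | exact ⟨h1, c1 h1 h2⟩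
        | exact ⟨h2, c1 h2 h1⟩
        | exact ⟨c2 h1 h2, h1⟩
        | exact ⟨c2 h2 h1, h2⟩
  rw [eq_top_iff, ← closure_of_bicyclicPair H.hb, closure_le]
  rintro v (rfl | rfl)
  exacts [hxy.1, hxy.2]

/-- Centralisers of elements outside the Frattini subgroup. -/
theorem inv_mul_mem_of_commute {g u : X} (hg : g ∉ frattini X) (hu : u ∉ frattini X)
    (h : g * u = u * g) : g⁻¹ * u ∈ frattini X := by
  by_contra hgu
  refine commutator_ne_bot H.hb H.hm (le_bot_iff.1 (commutator_le_of_pair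
    (H.gen_of_notMem hg hu hgu) ?_))
  rw [mem_bot, h]
  group

/-- Normal subgroups inside the derived group. -/
theorem eq_commutator_of_not_le {U : Subgroup X} [U.Normal] (hU : U ≤ commutator X) {s : X}
    (hs : s ∈ U) (hsK : s ∉ kSub X) : U = commutator X := by
  refine le_antisymm hU ?_
  have hgen := closure_of_bicyclicPair H.hb
  let f := QuotientGroup.mk' U
  have hf : Function.Surjective f := QuotientGroup.mk'_surjective U
  have hle : commutator (X ⧸ U) ≤ kSub (X ⧸ U) := by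
    intro q hq
    obtain ⟨t, ht, rfl⟩ := (map_commutator_top f hf).symm ▸ hq
    rw [← kSub_map f hf]
    rcases mem_or_inv_mul_mem hgen ht with h | h
    · exact mem_map_of_mem f h
    · rcases mem_or_inv_mul_mem hgen (hU hs) with h' | h'
      · exact absurd h' hsK
      · refine ⟨s⁻¹ * t, ?_, ?_⟩
        · have := mul_mem (inv_mem h') h
          rwa [show ((x * y * x⁻¹ * y⁻¹)⁻¹ * s)⁻¹ * ((x * y * x⁻¹ * y⁻¹)⁻¹ * t) = s⁻¹ * t by
            group] at this
        · rw [map_mul, map_inv, show f s = 1 from (QuotientGroup.eq_one_iff s).2 hs, inv_one,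
            one_mul]
  have hb := commutator_eq_bot_of_kSub_eq (H.hX.to_quotient U) (le_antisymm kSub_le hle)
  rw [← map_commutator_top f hf, Subgroup.map_eq_bot_iff, QuotientGroup.ker_mk'] at hb
  exact hb

end Hyp

end CfsgLib.Fusion.Bicyclic
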