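import Cfsg.Agent.Lib.PGroups.Basic
import Mathlib.LinearAlgebra.Matrix.GeneralLinearGroup.Card
import Mathlib.LinearAlgebra.FreeModule.Finite.Matrix
import Mathlib.GroupTheory.Perm.Basic
import Mathlib.GroupTheory.GroupAction.Quotient
import Mathlib.GroupTheory.Sylow
import Mathlib.Algebra.Module.ZMod

/-!
Automorphism groups without normal `2`-subgroup of an elementary abelian group of order four or
eight.
-/

set_option autoImplicit false

namespace CfsgLib.Fusion.Bicyclic

open Subgroup

universe u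

variable {V : Type u} [Group V] [Finite V]

theorem card_mulAut_dvd_card_GL (hexp : ∀ v : V, v * v = 1) {n : ℕ} (hcard : Nat.card V = 2 ^ n) :
    Nat.card (MulAut V) ∣ Nat.card (GL (Fin n) (ZMod 2)) := by
  haveI : Fact (Nat.Prime 2) := ⟨Nat.prime_two⟩
  have hcomm : ∀ a b : V, a * b = b * a := fun a b => by
    have hinv : ∀ v : V, v⁻¹ = v := fun v => inv_eq_of_mul_eq_one_left (hexp v)
    rw [← hinv (a * b), mul_inv_rev, hinv, hinv]
  letI : CommGroup V := { (inferInstance : Group V) with mul_comm := hcomm }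
  letI : Module (ZMod 2) (Additive V) := AddCommGroup.zmodModule (fun x => by
    apply Additive.toMul.injective
    rw [toMul_nsmul, toMul_zero, pow_two]
    exact hexp _)
  haveI : Module.Finite (ZMod 2) (Additive V) := Module.Finite.of_finite
  have hfr : Module.finrank (ZMod 2) (Additive V) = Module.finrank (ZMod 2) (Fin n → ZMod 2) := by
    rw [Module.finrank_pi, Fintype.card_fin]
    have h := Module.natCard_eq_pow_finrank (K := ZMod 2) (V := Additive V)
    rw [Nat.card_zmod, Nat.card_congr (Additive.toMul (α := V)), hcard] at h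
    exact (Nat.pow_right_injective le_rfl h).symm
  let e := LinearEquiv.ofFinrankEq _ _ hfr
  let l : MulAut V → ((Fin n → ZMod 2) →ₗ[ZMod 2] (Fin n → ZMod 2)) := fun φ =>
    AddMonoidHom.toZModLinearMap 2 (AddMonoidHom.mk'
      (fun v => e (Additive.ofMul (φ (Additive.toMul (e.symm v))))) fun v w => by
        rw [map_add e.symm, toMul_add, map_mul, ofMul_mul, map_add])
  have hl : ∀ φ v, l φ v = e (Additive.ofMul (φ (Additive.toMul (e.symm v)))) := fun _ _ => rfl
  have hmul : ∀ φ ψ, (l φ).comp (l ψ) = l (φ * ψ) := fun φ ψ => LinearMap.ext fun v => by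
    rw [LinearMap.comp_apply, hl, hl, hl, LinearEquiv.symm_apply_apply, toMul_ofMul,
      MulAut.mul_apply]
  have hone : l 1 = LinearMap.id := LinearMap.ext fun v => by
    rw [hl, MulAut.one_apply, ofMul_toMul, LinearEquiv.apply_symm_apply, LinearMap.id_apply]
  let f : MulAut V →* GL (Fin n) (ZMod 2) :=
    MonoidHom.mk' (fun φ => ⟨LinearMap.toMatrix' (l φ), LinearMap.toMatrix' (l φ⁻¹),
      by rw [← LinearMap.toMatrix'_comp, hmul, mul_inv_cancel, hone, LinearMap.toMatrix'_id],
      by rw [← LinearMap.toMatrix'_comp, hmul, inv_mul_cancel, hone, LinearMap.toMatrix'_id]⟩)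
      fun φ ψ => Units.ext (by
        show LinearMap.toMatrix' (l (φ * ψ)) = _
        rw [← hmul, LinearMap.toMatrix'_comp]
        rfl)
  refine Subgroup.card_dvd_of_injective f fun φ ψ h => MulEquiv.ext fun u => ?_
  have := LinearMap.congr_fun (LinearMap.toMatrix'.injective (Units.ext_iff.1 h))
    (e (Additive.ofMul u))
  rw [hl, hl, LinearEquiv.symm_apply_apply, toMul_ofMul] at this
  exact Additive.ofMul.injective (e.injective this)

theorem card_mulAut_dvd (hexp : ∀ v : V, v * v = 1) (hV : Nat.card V = 4 ∨ Nat.card V = 8) :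
    Nat.card (MulAut V) ∣ 168 := by
  haveI : Fact (Nat.Prime 2) := ⟨Nat.prime_two⟩
  rcases hV with h | h
  · refine (card_mulAut_dvd_card_GL hexp (n := 2) h).trans ?_
    rw [Matrix.card_GL_field]
    simp [Fin.prod_univ_succ]
  · refine (card_mulAut_dvd_card_GL hexp (n := 3) h).trans ?_
    rw [Matrix.card_GL_field]
    simp [Fin.prod_univ_succ]

theorem not_two_group_aut (hexp : ∀ v : V, v * v = 1) {R : Subgroup (MulAut V)}
    (hnot : ¬ IsPGroup 2 R) : 4 ≤ Nat.card V := by
  by_contra hlt
  refine hnot fun σ => ⟨0, ?_⟩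
  rw [pow_zero, pow_one]
  refine Subtype.ext (MulEquiv.ext fun v => ?_)
  rcases eq_or_ne v 1 with rfl | hv
  · exact map_one _
  by_contra hσv
  have hσv1 : (σ : MulAut V) v ≠ 1 := by simpa using hv
  have hmul : v * (σ : MulAut V) v ≠ 1 := fun e => hσv (by
    have := mul_left_cancel (e.trans (hexp v).symm)
    exact this)
  let f : Fin 4 → V := ![1, v, (σ : MulAut V) v, v * (σ : MulAut V) v]
  have hf : Function.Injective f := by
    intro i j hij
    have e1 : (σ : MulAut V) v ≠ v := hσv
    have e2 : v ≠ v * (σ : MulAut V) v := fun e => hσv1 (left_eq_mul.1 e)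
    have e3 : (σ : MulAut V) v ≠ v * (σ : MulAut V) v := fun e => hv (right_eq_mul.1 e)
    fin_cases i <;> fin_cases j <;> simp [f] at hij ⊢ <;>
      first | exact absurd hij ‹_› | exact absurd hij.symm ‹_›
  have := Nat.card_le_card_of_injective f hf
  rw [Nat.card_fin] at this
  omega

/-- The two possibilities. -/
theorem aut_cases (hexp : ∀ v : V, v * v = 1) (hV : Nat.card V = 4 ∨ Nat.card V = 8)
    {R : Subgroup (MulAut V)} {T : Subgroup R} (hT : IsPGroup 2 T)
    (hTmax : ∀ U : Subgroup R, IsPGroup 2 U → T ≤ U → U = T) (hT1 : T ≠ ⊥)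
    (hcore : ∀ U : Subgroup R, U.Normal → IsPGroup 2 U → U = ⊥) (hnot : ¬ IsPGroup 2 R) :
    (Nat.card T = 8 ∧ Nat.card V = 8 ∧
        ∃ n : R, orderOf n = 7 ∧ ∀ u v : V, u ≠ 1 → v ≠ 1 → ∃ j : ℕ, ((n ^ j : R) : MulAut V) u = v) ∨
      ∃ ρ : R, orderOf ρ = 3 ∧ (∀ σ : R, σ * ρ * σ⁻¹ = ρ ∨ σ * ρ * σ⁻¹ = ρ⁻¹) ∧
        ∀ t ∈ T, t ≠ 1 → t * ρ * t⁻¹ = ρ⁻¹ := by
  classical
  haveI : Fact (Nat.Prime 2) := ⟨Nat.prime_two⟩
  haveI : Fact (Nat.Prime 3) := ⟨Nat.prime_three⟩
  haveI : Fact (Nat.Prime 7) := ⟨by norm_num⟩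
  have hRdvd : Nat.card R ∣ 168 :=
    (Subgroup.card_subgroup_dvd_card R).trans (card_mulAut_dvd hexp hV)
  let P : Sylow 2 R := ⟨T, hT, fun {U} hU hle => hTmax U hU hle⟩
  have hodd : ¬ 2 ∣ T.index := P.not_dvd_index
  obtain ⟨a, ha⟩ := IsPGroup.iff_card.1 hT
  have hprod := T.card_mul_index
  have ha0 : a ≠ 0 := fun e => hT1 (Subgroup.eq_bot_of_card_eq _ (by rw [ha, e, pow_zero]))
  have hidx1 : T.index ≠ 1 := fun e => hnot (IsPGroup.of_card (n := a) (by
    rw [← hprod, e, mul_one, ha]))
  by_cases h7 : 7 ∣ Nat.card R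
  swap
  · right
    have h24 : Nat.card R ∣ 24 :=
      (((Nat.Prime.coprime_iff_not_dvd (by norm_num)).2 h7).symm).dvd_of_dvd_mul_left
        (show Nat.card R ∣ 7 * 24 from hRdvd)
    have hi3 : T.index = 3 := by
      have h : T.index ∣ 8 * 3 := (hprod ▸ dvd_mul_left _ _).trans h24
      have h' : T.index ∣ 3 := (Nat.Coprime.pow_right 3
        ((Nat.Prime.coprime_iff_not_dvd Nat.prime_two).2 hodd).symm).dvd_of_dvd_mul_left h
      exact ((Nat.dvd_prime Nat.prime_three).1 h').resolve_left hidx1
    -- the action on the three cosets is faithful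
    have hker : (MulAction.toPermHom R (R ⧸ T)).ker = ⊥ := by
      refine hcore _ inferInstance (hT.to_le ?_)
      rw [← Subgroup.normalCore_eq_ker]
      exact T.normalCore_le
    have h6 : Nat.card R ∣ 6 := by
      have h := Subgroup.card_dvd_of_injective _ ((MonoidHom.ker_eq_bot_iff _).1 hker)
      rwa [Nat.card_perm, ← Subgroup.index_eq_card, hi3] at h
    have hT2 : Nat.card T = 2 := by
      rw [← hprod, hi3, ha] at h6
      have := (Nat.mul_dvd_mul_iff_right (by norm_num : 0 < 3)).1 (show 2 ^ a * 3 ∣ 2 * 3 from h6)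
      rcases a with _ | _ | a
      · exact absurd rfl ha0
      · rw [ha]; rfl
      · have := Nat.le_of_dvd two_pos this
        have : 2 ^ 2 ≤ 2 ^ (a + 2) := Nat.pow_le_pow_right two_pos (by omega)
        omega
    have hcard : Nat.card R = 6 := by rw [← hprod, hT2, hi3]
    obtain ⟨ρ, hρ⟩ := exists_prime_orderOf_dvd_card' (G := R) 3 (by rw [hcard]; norm_num)
    haveI hρn : (zpowers ρ).Normal := by
      refine Subgroup.normal_of_index_eq_two ?_
      have := (zpowers ρ).card_mul_index
      rw [Nat.card_zpowers, hρ, hcard] at this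
      omega
    have hρ1 : ρ ≠ 1 := fun e => by rw [e, orderOf_one] at hρ; norm_num at hρ
    have hσ : ∀ σ : R, σ * ρ * σ⁻¹ = ρ ∨ σ * ρ * σ⁻¹ = ρ⁻¹ := by
      intro σ
      have hmem := hρn.conj_mem ρ (mem_zpowers ρ) σ
      obtain ⟨i, hi, hi'⟩ := Finset.mem_image.1
        ((mem_zpowers_iff_mem_range_orderOf).1 hmem)
      rw [hρ, Finset.mem_range] at hi
      interval_cases i
      · exact absurd (conj_eq_one_iff.1 (by rw [← hi', pow_zero])) hρ1
      · exact Or.inl (by rw [← hi', pow_one])
      · refine Or.inr ?_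
        rw [← hi', eq_inv_iff_mul_eq_one, ← pow_succ, show 2 + 1 = orderOf ρ by rw [hρ],
          pow_orderOf_eq_one]
    refine ⟨ρ, hρ, hσ, fun t ht ht1 => (hσ t).resolve_left fun hc => hT1 (hcore T ?_ hT)⟩
    rw [← Subgroup.normalizer_eq_top_iff, eq_top_iff]
    have hTt : ∀ u ∈ T, u = 1 ∨ u = t := fun u hu => by
      by_contra h
      push Not at h
      have h3 : ({1, u, t} : Set R).ncard ≤ (T : Set R).ncard :=
        Set.ncard_le_ncard (by
          rintro w (rfl | rfl | rfl)
          exacts [one_mem _, hu, ht]) (Set.toFinite _)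
      have h3' : ({1, u, t} : Set R).ncard = 3 :=
        Set.ncard_eq_three.2 ⟨1, u, t, Ne.symm h.1, Ne.symm ht1, h.2, rfl⟩
      rw [h3', ← Nat.card_coe_set_eq] at h3
      simp only [SetLike.coe_sort_coe, hT2] at h3
      omega
    have hρN : ρ ∈ Subgroup.normalizer (T : Set R) := by
      have hct : ρ * t * ρ⁻¹ = t := by
        rw [mul_inv_eq_iff_eq_mul] at hc
        rw [← hc, mul_inv_cancel_right]
      rw [Subgroup.mem_normalizer_iff]
      intro u
      constructor
      · intro hu
        rcases hTt u hu with rfl | rfl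
        · simp
        · rw [hct]; exact hu
      · intro hu
        rcases hTt _ hu with e | e
        · rw [conj_eq_one_iff] at e; rw [e]; exact one_mem _
        · rw [← hct, mul_right_cancel_iff, mul_left_cancel_iff] at e
          exact e ▸ ht
    have h3d : 3 ∣ Nat.card (Subgroup.normalizer (T : Set R)) := by
      rw [← hρ, ← Subgroup.orderOf_mk ρ hρN]; exact orderOf_dvd_natCard _
    have h2d : 2 ∣ Nat.card (Subgroup.normalizer (T : Set R)) := by
      rw [← hT2]; exact Subgroup.card_dvd_of_le Subgroup.le_normalizer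
    refine (Subgroup.eq_top_of_le_card _ ?_).ge
    rw [hcard]
    exact Nat.le_of_dvd Nat.card_pos (Nat.Coprime.mul_dvd_of_dvd_of_dvd (by norm_num) h2d h3d)
  · left
    -- an element of order seven is transitive
    obtain ⟨n, hn⟩ := exists_prime_orderOf_dvd_card' (G := R) 7 h7
    set ν : MulAut V := (n : MulAut V) with hν
    have hνo : orderOf ν = 7 := by rw [hν, Subgroup.orderOf_coe, hn]
    have hν1 : ν ≠ 1 := fun e => by rw [e, orderOf_one] at hνo; norm_num at hνo
    have hV8 : Nat.card V = 8 := by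
      refine hV.resolve_left fun h4 => ?_
      have h := (Subgroup.card_subgroup_dvd_card R).trans
        (card_mulAut_dvd_card_GL hexp (n := 2) h4)
      rw [Matrix.card_GL_field] at h
      have h' := h7.trans h
      simp [Fin.prod_univ_succ] at h'
    obtain ⟨v0, hv0⟩ : ∃ v, ν v ≠ v := by
      by_contra h
      push Not at h
      exact hν1 (MulEquiv.ext h)
    have hv01 : v0 ≠ 1 := fun e => hv0 (by rw [e, map_one])
    have hperiod : ∀ i : ℕ, (ν ^ i) v0 = v0 → 7 ∣ i := by
      intro i hi
      by_contra h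
      obtain ⟨m, hm⟩ := exists_pow_eq_self_of_coprime (x := ν) (n := i) (by
        rw [hνo]; exact ((Nat.Prime.coprime_iff_not_dvd (by norm_num)).2 h).symm)
      refine hv0 ?_
      conv_lhs => rw [← hm]
      have : ∀ m : ℕ, ((ν ^ i) ^ m) v0 = v0 := by
        intro m
        induction m with
        | zero => rfl
        | succ m ih => rw [pow_succ, MulAut.mul_apply, hi, ih]
      exact this m
    have horbit : ∀ v : V, v ≠ 1 → ∃ j : ℕ, (ν ^ j) v0 = v := by
      intro v hv
      by_contra h
      push Not at h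
      let f : Fin 9 → V := Fin.cons 1 (Fin.cons v fun i : Fin 7 => (ν ^ (i : ℕ)) v0)
      have hf : Function.Injective f := by
        refine Fin.cons_injective_iff.2 ⟨?_, Fin.cons_injective_iff.2 ⟨?_, ?_⟩⟩
        · rintro ⟨i, hi⟩
          induction i using Fin.cases with
          | zero => exact hv (by simpa using hi)
          | succ i =>
            rw [Fin.cons_succ, MulEquiv.map_eq_one_iff] at hi
            exact hv01 hi
        · rintro ⟨i, hi⟩
          exact h i hi
        · intro i j hij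
          have hij' : (ν ^ (i : ℕ)) v0 = (ν ^ (j : ℕ)) v0 := hij
          rcases le_total (i : ℕ) j with hle | hle
          · obtain ⟨d, hd⟩ := Nat.exists_eq_add_of_le hle
            rw [hd, pow_add, MulAut.mul_apply, EmbeddingLike.apply_eq_iff_eq] at hij'
            have := hperiod d hij'.symm
            exact Fin.ext (by omega)
          · obtain ⟨d, hd⟩ := Nat.exists_eq_add_of_le hle
            rw [hd, pow_add, MulAut.mul_apply, EmbeddingLike.apply_eq_iff_eq] at hij'
            have := hperiod d hij'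
            exact Fin.ext (by omega)
      have := Nat.card_le_card_of_injective f hf
      rw [Nat.card_fin, hV8] at this
      omega
    have htrans : ∀ u v : V, u ≠ 1 → v ≠ 1 → ∃ j : ℕ, (ν ^ j) u = v := by
      intro u v hu hv
      obtain ⟨i, hi⟩ := horbit u hu
      obtain ⟨j, hj⟩ := horbit v hv
      refine ⟨j + 6 * i, ?_⟩
      rw [← hi, ← MulAut.mul_apply, ← pow_add, show j + 6 * i + i = j + 7 * i by ring, pow_add,
        show ν ^ (7 * i) = 1 by rw [pow_mul, ← hνo, pow_orderOf_eq_one, one_pow], mul_one, hj]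
    refine ⟨?_, hV8, n, hn, fun u v hu hv => by
      obtain ⟨j, hj⟩ := htrans u v hu hv
      exact ⟨j, by rw [SubmonoidClass.coe_pow]; exact hj⟩⟩
    -- the Sylow two-subgroup has order eight
    have ha3 : a ≤ 3 := by
      have h : Nat.card T ∣ 8 * 21 := (Subgroup.card_subgroup_dvd_card T).trans hRdvd
      rw [ha] at h
      have := (Nat.Coprime.pow_left a (by norm_num : Nat.Coprime 2 21)).dvd_of_dvd_mul_right h
      exact (Nat.pow_dvd_pow_iff_le_right (by norm_num)).1 (show 2 ^ a ∣ 2 ^ 3 from this)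
    by_contra h8
    have ha2 : a ≤ 2 := by
      by_contra h
      exact h8 (by rw [ha, show a = 3 by omega]; rfl)
    let N : Sylow 7 R := default
    have hN7 : Nat.card (N : Subgroup R) = 7 := by
      rw [N.card_eq_multiplicity]
      have hfac : (Nat.card R).factorization 7 = 1 := by
        refine le_antisymm ?_ ((Fact.out : Nat.Prime 7).factorization_pos_of_dvd Nat.card_pos.ne' h7)
        have := Nat.factorization_le_iff_dvd Nat.card_pos.ne' (by norm_num : (168 : ℕ) ≠ 0) |>.2
          hRdvd 7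
        refine this.trans (le_of_eq ?_)
        rw [show (168 : ℕ) = 7 ^ 1 * 24 from rfl, Nat.factorization_mul (by norm_num) (by norm_num),
          Finsupp.add_apply, Nat.Prime.factorization_pow (by norm_num),
          Nat.factorization_eq_zero_of_not_dvd (by norm_num)]
        simp
      rw [hfac, pow_one]
    have hone : Nat.card (Sylow 7 R) = 1 := by
      have hmod := card_sylow_modEq_one 7 R
      have hd : Nat.card (Sylow 7 R) ∣ 12 := by
        have h1 := N.card_dvd_index
        have h2 := (N : Subgroup R).card_mul_index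
        have h3 : T.index ∣ 21 := by
          have h : T.index ∣ 8 * 21 := (hprod ▸ dvd_mul_left _ _).trans hRdvd
          exact (Nat.Coprime.pow_right 3
            ((Nat.Prime.coprime_iff_not_dvd Nat.prime_two).2 hodd).symm).dvd_of_dvd_mul_left h
        have h4 : Nat.card R ∣ 4 * 21 := by
          rw [← hprod, ha]
          exact Nat.mul_dvd_mul (pow_dvd_pow 2 ha2) h3
        rw [← h2, hN7] at h4
        exact h1.trans ((Nat.mul_dvd_mul_iff_left (by norm_num : 0 < 7)).1
          (show 7 * (N : Subgroup R).index ∣ 7 * 12 from h4))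
      have hle := Nat.le_of_dvd (by norm_num) hd
      rw [Nat.ModEq] at hmod
      generalize Nat.card (Sylow 7 R) = k at *
      interval_cases k <;> omega
    haveI : Subsingleton (Sylow 7 R) := (Nat.card_eq_one_iff_unique.1 hone).1
    haveI hNn : (N : Subgroup R).Normal := Sylow.normal_of_subsingleton N
    have hnN : zpowers n = (N : Subgroup R) := by
      have hp : IsPGroup 7 (zpowers n) := IsPGroup.of_card (n := 1) (by
        rw [Nat.card_zpowers, hn, pow_one])
      obtain ⟨M, hM⟩ := hp.exists_le_sylow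
      rw [Subsingleton.elim M N] at hM
      exact Subgroup.eq_of_le_of_card_ge hM (by rw [hN7, Nat.card_zpowers, hn])
    -- an involution
    obtain ⟨t, ht⟩ := exists_prime_orderOf_dvd_card' (G := T) 2 (ha ▸ dvd_pow_self 2 ha0)
    set τ : MulAut V := ((t : R) : MulAut V) with hτ
    have hτo : orderOf τ = 2 := by rw [hτ, Subgroup.orderOf_coe, Subgroup.orderOf_coe, ht]
    have hτ2 : ∀ v, τ (τ v) = v := fun v => by
      rw [← MulAut.mul_apply, ← pow_two, ← hτo, pow_orderOf_eq_one, MulAut.one_apply]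
    have hτ1 : τ ≠ 1 := fun e => by rw [e, orderOf_one] at hτo; norm_num at hτo
    have hinv : ∀ v : V, v⁻¹ = v := fun v => inv_eq_of_mul_eq_one_left (hexp v)
    have hcomm : ∀ a b : V, a * b = b * a := fun a b => by
      rw [← hinv (a * b), mul_inv_rev, hinv, hinv]
    let d : V →* V := MonoidHom.mk' (fun v => v * τ v) fun a b => by
      rw [map_mul, mul_assoc, ← mul_assoc b, hcomm b (τ a), mul_assoc, ← mul_assoc]
    have hdF : d.range ≤ d.ker := by
      rintro _ ⟨v, rfl⟩
      show v * τ v * τ (v * τ v) = 1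
      rw [map_mul, hτ2, hcomm (τ v) v, hexp]
    have hk3 : 3 ≤ Nat.card d.ker := by
      have h1 := d.ker.card_mul_index
      rw [Subgroup.index_ker, hV8] at h1
      have h2 := Subgroup.card_le_of_le hdF
      nlinarith
    obtain ⟨v, w, hv, hw, hv1, hw1, hvw⟩ : ∃ v w, v ∈ d.ker ∧ w ∈ d.ker ∧ v ≠ 1 ∧ w ≠ 1 ∧ v ≠ w := by
      have h3 : 2 < (d.ker : Set V).ncard := by
        rw [← Nat.card_coe_set_eq]; exact hk3
      obtain ⟨a, b, c, ha, hb, hc, hab, hac, hbc⟩ :=
        (Set.two_lt_ncard_iff (Set.toFinite _)).1 h3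
      rcases eq_or_ne a 1 with rfl | ha1
      · exact ⟨b, c, hb, hc, hab.symm, hac.symm, hbc⟩
      rcases eq_or_ne b 1 with rfl | hb1
      · exact ⟨a, c, ha, hc, ha1, hbc.symm, hac⟩
      exact ⟨a, b, ha, hb, ha1, hb1, hab⟩
    have hfix : ∀ v ∈ d.ker, τ v = v := fun v hv => by
      have h : v * τ v = 1 := hv
      exact mul_left_cancel (h.trans (hexp v).symm)
    obtain ⟨k, hk⟩ : ∃ k : ℕ, τ * ν * τ⁻¹ = ν ^ k := by
      have := hNn.conj_mem n (hnN ▸ mem_zpowers n) (t : R)
      rw [← hnN] at this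
      obtain ⟨k, hk⟩ := mem_powers_iff_mem_zpowers.2 this
      refine ⟨k, ?_⟩
      have e := congrArg (fun r : R => (r : MulAut V)) hk
      simpa [SubmonoidClass.coe_pow] using e.symm
    have hk' : ∀ (j : ℕ) (u : V), τ ((ν ^ j) u) = (ν ^ (k * j)) (τ u) := fun j u => by
      rw [pow_mul, ← hk, conj_pow, MulAut.mul_apply, MulAut.mul_apply]
      rw [show τ⁻¹ (τ u) = u from τ.symm_apply_apply u]
    have hν7 : ν ^ 7 = 1 := hνo ▸ pow_orderOf_eq_one ν
    have hfree : ∀ i : ℕ, (ν ^ i) v = v → 7 ∣ i := by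
      intro i hi
      obtain ⟨j, hj⟩ := htrans v v0 hv1 hv01
      refine hperiod i ?_
      rw [← hj, ← MulAut.mul_apply, ← pow_add, add_comm, pow_add, MulAut.mul_apply, hi]
    obtain ⟨j, hj⟩ := htrans v w hv1 hw1
    have h1 : (ν ^ (k * j)) v = w := by
      have := hk' j v
      rw [hj, hfix w hw, hfix v hv] at this
      exact this.symm
    have hkk : (ν ^ (k * k)) v = (ν ^ 1) v := by
      have e1 := hk' 1 v
      have e2 := hk' k v
      rw [mul_one, hfix v hv] at e1
      rw [hfix v hv, ← e1, hτ2] at e2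
      exact e2.symm
    have hcong : ∀ i l : ℕ, (ν ^ i) v = (ν ^ l) v → i % 7 = l % 7 := by
      intro i l hil
      have h := congrArg (fun u => (ν ^ (7 * l - l)) u) hil
      simp only [← MulAut.mul_apply, ← pow_add] at h
      rw [show 7 * l - l + l = 7 * l by omega, pow_mul, hν7, one_pow, MulAut.one_apply] at h
      have := hfree _ h
      omega
    have hc1 := hcong _ _ hkk
    have hc2 := hcong _ _ (h1.trans hj.symm)
    have hjne : j % 7 ≠ 0 := fun e => hvw (by
      rw [← hj, ← Nat.div_add_mod j 7, e, add_zero, pow_mul, hν7, one_pow, MulAut.one_apply])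
    -- `k ≡ 1`, so the involution commutes with the transitive element
    have hk1 : k % 7 = 1 := by
      have hp : ((k : ZMod 7) - 1) * (j : ZMod 7) = 0 := by
        rw [sub_mul, one_mul, sub_eq_zero, ← Nat.cast_mul, ZMod.natCast_eq_natCast_iff']
        exact hc2
      rcases mul_eq_zero.1 hp with e | e
      · have e' : (k : ZMod 7) = ((1 : ℕ) : ZMod 7) := by rw [Nat.cast_one]; exact sub_eq_zero.1 e
        exact (ZMod.natCast_eq_natCast_iff' k 1 7).1 e'
      · rw [ZMod.natCast_eq_zero_iff] at e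
        omega
    refine hτ1 (MulEquiv.ext fun u => ?_)
    rcases eq_or_ne u 1 with rfl | hu
    · exact map_one _
    obtain ⟨i, hi⟩ := htrans v u hv1 hu
    rw [← hi, hk' i, hfix v hv, MulAut.one_apply, pow_mul, ← Nat.div_add_mod k 7, hk1, pow_add,
      pow_mul, hν7, one_pow, one_mul, pow_one]

end CfsgLib.Fusion.Bicyclic
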