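import Cfsg.Agent.Lib.Fusion.Bicyclic.Derived
import Cfsg.Agent.Lib.Fusion.Bicyclic.Small
import Cfsg.Agent.Lib.Fusion.RankThreeAutomizer
import Cfsg.Agent.Lib.Fusion.Saturated
import Cfsg.Prelude.Def_FusionSystem

/-!
Bicyclic nonmetacyclic `2`-groups with noncyclic derived group: data of a centric radical subgroup
whose automizer is not a `2`-group, and the shape of the automizer.
-/

set_option autoImplicit false

namespace CfsgLib.Fusion.Bicyclic

open Subgroup Cfsg
open CfsgLib.Fusion.RankThree (frattiniAut frattiniAut_apply quot_comm quot_pow)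

universe u

variable {X : Type u} [Group X] [Finite X]

/-- The local data at a centric radical subgroup. -/
structure AutData (P : Subgroup X) (A : Subgroup (MulAut P)) : Prop where
  ne_top : P ≠ ⊤
  induced_le : autInducedBy ⊤ P ≤ A
  maximal : ∀ B : Subgroup (MulAut P), IsPGroup 2 B → B ≤ A → autInducedBy ⊤ P ≤ B →
    B = autInducedBy ⊤ P
  centric : ∀ g : X, (∀ v ∈ P, g * v = v * g) → g ∈ P
  radical : ∀ K : Subgroup (MulAut P), K ≤ A → (∀ α ∈ A, ∀ κ ∈ K, α * κ * α⁻¹ ∈ K) →
    IsPGroup 2 K → K ≤ Inn P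
  not_pgroup : ¬ IsPGroup 2 A

namespace Hyp

variable {x y : X} (H : Hyp x y)

include H

/-- A proper subgroup contains one coset of the Frattini subgroup at most. -/
theorem inv_mul_mem_of_ne_top {U : Subgroup X} (hU : U ≠ ⊤) {g u : X} (hgU : g ∈ U) (huU : u ∈ U)
    (hg : g ∉ frattini X) (hu : u ∉ frattini X) : g⁻¹ * u ∈ frattini X := by
  by_contra hgu
  refine hU (top_le_iff.1 ?_)
  rw [← H.gen_of_notMem hg hu hgu, closure_le]
  rintro v (rfl | rfl)
  exacts [hgU, huU]

/-- A proper subgroup has at most three generators, and two inside the Frattini subgroup. -/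
theorem index_frattini_le {U : Subgroup X} (hU : U ≠ ⊤) :
    (frattini U).index ≤ 8 ∧ (U ≤ frattini X → (frattini U).index ≤ 4) := by
  haveI : Fact (Nat.Prime 2) := ⟨Nat.prime_two⟩
  have hU2 : IsPGroup 2 U := H.hX.to_subgroup U
  let D : Subgroup U := (frattini X).subgroupOf U
  have hm : Cfsg.IsMetacyclic D := isMetacyclic_of_injective
    (isMetacyclic_frattini H.hX H.hb H.hm)
    ({ toFun := fun d => ⟨((d : U) : X), d.2⟩
       map_one' := rfl
       map_mul' := fun _ _ => rfl } : D →* frattini X)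
    fun a b h => Subtype.ext (Subtype.ext (congrArg Subtype.val h :))
  let f : D →* U ⧸ frattini U := (QuotientGroup.mk' (frattini U)).comp D.subtype
  have hran : Nat.card f.range ≤ 4 := CfsgLib.Techniques.metacyclic_card_le hm f.rangeRestrict
    f.rangeRestrict_surjective two_ne_zero fun v => Subtype.ext (quot_pow hU2 v.1)
  have hDr : ∀ d : U, (d : X) ∈ frattini X → QuotientGroup.mk' (frattini U) d ∈ f.range :=
    fun d hd => ⟨⟨d, hd⟩, rfl⟩
  by_cases hall : U ≤ frattini X
  · have h : f.range = ⊤ := by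
      rw [eq_top_iff]
      intro v _
      obtain ⟨d, rfl⟩ := QuotientGroup.mk'_surjective (frattini U) v
      exact hDr d (hall d.2)
    rw [h, Subgroup.card_top, ← Subgroup.index_eq_card] at hran
    exact ⟨by omega, fun _ => hran⟩
  refine ⟨?_, fun h => absurd h hall⟩
  obtain ⟨g, hg, hgΦ⟩ := SetLike.not_le_iff_exists.1 hall
  rw [Subgroup.index_eq_card]
  let G : Fin 2 × f.range → U ⧸ frattini U := fun p =>
    QuotientGroup.mk' (frattini U) (⟨g, hg⟩ ^ (p.1 : ℕ)) * (p.2 : U ⧸ frattini U)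
  have hG : Function.Surjective G := by
    intro v
    obtain ⟨d, rfl⟩ := QuotientGroup.mk'_surjective (frattini U) v
    by_cases hd : (d : X) ∈ frattini X
    · refine ⟨(0, ⟨_, hDr d hd⟩), ?_⟩
      show QuotientGroup.mk' (frattini U) (⟨g, hg⟩ ^ 0) * _ = _
      rw [pow_zero, map_one, one_mul]
    · refine ⟨(1, ⟨_, hDr (⟨g, hg⟩⁻¹ * d) (H.inv_mul_mem_of_ne_top hU hg d.2 hgΦ hd)⟩), ?_⟩
      simp [G]
  calc Nat.card (U ⧸ frattini U) ≤ Nat.card (Fin 2 × f.range) :=
        Nat.card_le_card_of_surjective G hG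
    _ ≤ 8 := by rw [Nat.card_prod, Nat.card_fin]; omega

end Hyp

/-- A normal subgroup generated by its squares and its commutators with the group is trivial. -/
theorem eq_bot_of_le_sq_comm {G : Type u} [Group G] [Finite G] (hG : IsPGroup 2 G) {N : Subgroup G}
    [N.Normal]
    (h : N ≤ closure ({u | ∃ s ∈ N, u = s ^ 2} ∪ {u | ∃ s ∈ N, ∃ g : G, u = g * s * g⁻¹ * s⁻¹})) :
    N = ⊥ := by
  haveI : Fact (Nat.Prime 2) := ⟨Nat.prime_two⟩
  by_contra hne
  obtain ⟨M, ⟨hMn, hMlt⟩, hmax⟩ :=
    (Set.toFinite {M : Subgroup G | M.Normal ∧ M < N}).exists_maximal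
      ⟨⊥, inferInstance, bot_lt_iff_ne_bot.2 hne⟩
  haveI : M.Normal := hMn
  let f := QuotientGroup.mk' M
  have hf : Function.Surjective f := QuotientGroup.mk'_surjective M
  haveI : (N.map f).Normal := Subgroup.Normal.map inferInstance f hf
  have hC : N.map f ≠ ⊥ := fun e => by
    rw [Subgroup.map_eq_bot_iff, QuotientGroup.ker_mk'] at e
    exact hMlt.not_ge e
  obtain ⟨⟨z, hzC, hzZ⟩, hz1'⟩ :=
    ne_bot_iff_exists_ne_one.1 (CfsgLib.PGroups.inf_center_ne_bot (hG.to_quotient M) hC)
  have hz1 : z ≠ 1 := fun e => hz1' (Subtype.ext e)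
  obtain ⟨k, hk⟩ : ∃ k, orderOf z = 2 ^ (k + 1) := by
    obtain ⟨k, hk⟩ := IsPGroup.iff_orderOf.1 (hG.to_quotient M) z
    rcases k with _ | k
    · exact absurd (orderOf_eq_one_iff.1 (by simpa using hk)) hz1
    · exact ⟨k, hk⟩
  set t := z ^ 2 ^ k
  have hto : orderOf t = 2 := by
    rw [orderOf_pow_of_dvd (pow_ne_zero _ two_ne_zero) (hk ▸ pow_dvd_pow 2 (Nat.le_succ _)), hk,
      pow_succ, Nat.mul_div_cancel_left _ (pow_pos two_pos _)]
  have ht2 : t ^ 2 = 1 := hto ▸ pow_orderOf_eq_one t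
  have ht1 : t ≠ 1 := fun e => by rw [e, orderOf_one] at hto; omega
  have htZ : t ∈ center (G ⧸ M) := pow_mem hzZ _
  haveI : (zpowers t).Normal := ⟨fun c hc g => by
    have := mem_center_iff.1 ((zpowers_le.2 htZ) hc) g
    rwa [this, mul_inv_cancel_right]⟩
  set B := (zpowers t).comap f with hB
  have hBle : B ≤ N := by
    intro v hv
    obtain ⟨y, hy, hyx⟩ := (zpowers_le.2 (pow_mem hzC _ : t ∈ N.map f)) (mem_comap.1 hv)
    have h1 : y⁻¹ * v ∈ M := QuotientGroup.eq.1 hyx
    simpa using mul_mem hy (hMlt.le h1)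
  have hMB : M ≤ B := fun v hv => by
    rw [mem_comap, show f v = 1 from (QuotientGroup.eq_one_iff v).2 hv]; exact one_mem _
  have hBeq : B = N := by
    by_contra hBne
    have hBM : B ≤ M := hmax ⟨inferInstance, lt_of_le_of_ne hBle hBne⟩ hMB
    obtain ⟨v, hv⟩ := hf t
    exact ht1 (hv ▸ (QuotientGroup.eq_one_iff v).2 (hBM (show v ∈ B by
      rw [mem_comap, hv]; exact mem_zpowers t)))
  refine hMlt.not_ge (h.trans ((closure_le _).2 ?_))
  rintro u (⟨s, hs, rfl⟩ | ⟨s, hs, g, rfl⟩)
  · rw [SetLike.mem_coe, ← QuotientGroup.eq_one_iff, QuotientGroup.mk_pow]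
    obtain ⟨i, hi⟩ := mem_zpowers_iff.1 (mem_comap.1 (hBeq.symm ▸ hs : s ∈ B))
    show (f s) ^ 2 = 1
    rw [← hi, ← zpow_natCast, ← zpow_mul, mul_comm, zpow_mul, zpow_natCast, ht2, one_zpow]
  · rw [SetLike.mem_coe, ← QuotientGroup.eq_one_iff]
    show f (g * s * g⁻¹ * s⁻¹) = 1
    have := mem_center_iff.1 ((zpowers_le.2 htZ) (mem_comap.1 (hBeq.symm ▸ hs : s ∈ B))) (f g)
    rw [map_mul, map_mul, map_mul, map_inv, map_inv, this, mul_inv_cancel_right, mul_inv_cancel]

namespace AutData

variable {P : Subgroup X} {A : Subgroup (MulAut P)}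

/-- Conjugation by an element of the normalizer, in the automizer. -/
noncomputable def cj (D : AutData P A) : Subgroup.normalizer (P : Set X) →* A where
  toFun t := ⟨P.normalizerMonoidHom t,
    D.induced_le (Subgroup.subset_closure ⟨t, mem_top _, fun _ => rfl⟩)⟩
  map_one' := Subtype.ext (map_one _)
  map_mul' s t := Subtype.ext (map_mul _ s t)

theorem cj_apply (D : AutData P A) (t : Subgroup.normalizer (P : Set X)) (v : P) :
    (((D.cj t : A) : MulAut P) v : X) = t * (v : X) * (t : X)⁻¹ := rfl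

/-- The action on the Frattini quotient. -/
noncomputable def act (_ : AutData P A) : A →* MulAut (P ⧸ frattini P) :=
  (frattiniAut P).comp A.subtype

theorem act_apply (D : AutData P A) (a : A) (v : P) :
    D.act a (v : P ⧸ frattini P) = (((a : MulAut P) v : P) : P ⧸ frattini P) := rfl

variable (D : AutData P A)

include D

theorem act_eq_one_iff (hX : IsPGroup 2 X) (a : A) : D.act a = 1 ↔ (a : MulAut P) ∈ Inn P := by
  haveI : Fact (Nat.Prime 2) := ⟨Nat.prime_two⟩
  have hP2 : IsPGroup 2 P := hX.to_subgroup P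
  constructor
  · intro ha
    set K : Subgroup (MulAut P) := D.act.ker.map A.subtype with hK
    have hKA : K ≤ A := Subgroup.map_subtype_le _
    have hKn : ∀ α ∈ A, ∀ κ ∈ K, α * κ * α⁻¹ ∈ K := by
      intro α hα κ' hκ'
      obtain ⟨κ, hκ, rfl⟩ := Subgroup.mem_map.1 hκ'
      have hmem : (⟨α, hα⟩ : A) * κ * (⟨α, hα⟩ : A)⁻¹ ∈ D.act.ker :=
        (inferInstance : D.act.ker.Normal).conj_mem κ hκ ⟨α, hα⟩
      exact Subgroup.mem_map.2 ⟨_, hmem, by simp⟩
    have hKp : IsPGroup 2 K := by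
      refine isPGroup_frattini_stabilizer hP2 K fun κ' hκ' v => ?_
      obtain ⟨κ, hκ, rfl⟩ := Subgroup.mem_map.1 hκ'
      have h0 : D.act κ = 1 := MonoidHom.mem_ker.1 hκ
      have h1 : (((κ : MulAut P) v : P) : P ⧸ frattini P) = v := by
        rw [← D.act_apply κ v, h0, MulAut.one_apply]
      have h3 := (inferInstance : (frattini P).Normal).conj_mem _ (QuotientGroup.eq.1 h1.symm) v
      simpa [mul_assoc] using h3
    exact D.radical K hKA hKn hKp (Subgroup.mem_map.2 ⟨a, MonoidHom.mem_ker.2 ha, rfl⟩)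
  · rintro ⟨u, hu⟩
    refine MulEquiv.ext fun w => ?_
    obtain ⟨v, rfl⟩ := QuotientGroup.mk'_surjective _ w
    rw [QuotientGroup.mk'_apply, act_apply, ← hu, MulAut.one_apply, MulAut.conj_apply,
      QuotientGroup.mk_mul, QuotientGroup.mk_mul, quot_comm hP2 (u : P ⧸ frattini P),
      QuotientGroup.mk_inv, mul_inv_cancel_right]

theorem mem_of_inner (t : Subgroup.normalizer (P : Set X))
    (h : ((D.cj t : A) : MulAut P) ∈ Inn P) : (t : X) ∈ P := by
  obtain ⟨u, hu⟩ := h
  have hc := D.centric ((u : X)⁻¹ * t) fun v hv => by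
    have e : (u : X) * v * (u : X)⁻¹ = t * v * (t : X)⁻¹ :=
      congrArg (fun α : MulAut P => ((α ⟨v, hv⟩ : P) : X)) hu
    calc (u : X)⁻¹ * t * v = (u : X)⁻¹ * ((t : X) * v * (t : X)⁻¹) * t := by group
      _ = v * ((u : X)⁻¹ * t) := by rw [← e]; group
  have := P.mul_mem u.2 hc
  rwa [mul_inv_cancel_left] at this

theorem act_cj_of_mem (hX : IsPGroup 2 X) {t : Subgroup.normalizer (P : Set X)}
    (ht : (t : X) ∈ P) : D.act (D.cj t) = 1 :=
  (D.act_eq_one_iff hX _).2 ⟨⟨t, ht⟩, MulEquiv.ext fun _ => Subtype.ext rfl⟩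

theorem exists_notMem (hX : IsPGroup 2 X) :
    ∃ t : Subgroup.normalizer (P : Set X), (t : X) ∉ P := by
  haveI : Fact (Nat.Prime 2) := ⟨Nat.prime_two⟩
  haveI := hX.isNilpotent
  obtain ⟨t, ht, htP⟩ :=
    SetLike.exists_of_lt (Group.normalizerCondition_of_isNilpotent P (lt_top_iff_ne_top.2 D.ne_top))
  exact ⟨⟨t, ht⟩, htP⟩

omit D in
/-- Images of induced automorphisms. -/
theorem exists_cj_of_induced (D : AutData P A) {α : MulAut P} (hα : α ∈ autInducedBy ⊤ P) :
    ∃ t : Subgroup.normalizer (P : Set X), ((D.cj t : A) : MulAut P) = α := by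
  obtain ⟨g, -, hg⟩ := mem_autInducedBy_iff.1 hα
  exact ⟨⟨g, mem_normalizer_of_conj_eq α hg⟩, MulEquiv.ext fun v => Subtype.ext (hg v).symm⟩

/-- The image of the induced automorphisms is maximal among `2`-subgroups of the image. -/
theorem maximal_image (hX : IsPGroup 2 X) {U : Subgroup D.act.range} (hU : IsPGroup 2 U)
    (hle : (D.cj.range.map D.act.rangeRestrict) ≤ U) : U = D.cj.range.map D.act.rangeRestrict := by
  haveI : Fact (Nat.Prime 2) := ⟨Nat.prime_two⟩
  refine le_antisymm (fun u hu => ?_) hle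
  obtain ⟨a, rfl⟩ := D.act.rangeRestrict_surjective u
  have hker : IsPGroup 2 D.act.rangeRestrict.ker := by
    rw [MonoidHom.ker_rangeRestrict]
    intro k
    obtain ⟨w, hw⟩ := (D.act_eq_one_iff hX k).1 k.2
    obtain ⟨n, hn⟩ := hX.to_subgroup P w
    refine ⟨n, Subtype.ext (Subtype.ext ?_)⟩
    simp only [SubmonoidClass.coe_pow, OneMemClass.coe_one]
    rw [← hw, ← map_pow, hn, map_one]
  have hB := hU.comap_of_ker_isPGroup D.act.rangeRestrict hker
  have heq := D.maximal ((U.comap D.act.rangeRestrict).map A.subtype) (hB.map _)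
    (Subgroup.map_subtype_le _) fun α hα => by
      obtain ⟨t, rfl⟩ := exists_cj_of_induced D hα
      exact ⟨D.cj t, hle (mem_map_of_mem _ ⟨t, rfl⟩), rfl⟩
  have ha : (a : MulAut P) ∈ autInducedBy ⊤ P := heq ▸ ⟨a, hu, rfl⟩
  obtain ⟨t, ht⟩ := exists_cj_of_induced D ha
  exact ⟨D.cj t, ⟨t, rfl⟩, congrArg _ (Subtype.ext ht)⟩

end AutData

namespace AutData

variable {P : Subgroup X} {A : Subgroup (MulAut P)} {x y : X}

/-- An automizer of order divisible by seven is impossible. -/
theorem false_of_transitive (D : AutData P A) (H : Hyp x y) (hnc : ¬ IsCyclic (commutator X))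
    (hV : Nat.card (P ⧸ frattini P) = 8) (hcard : 8 ≤ Nat.card (autInducedBy ⊤ P)) (α : A)
    (hα : D.act α ^ 7 = 1)
    (htrans : ∀ u v : P ⧸ frattini P, u ≠ 1 → v ≠ 1 → ∃ j : ℕ, (D.act α ^ j) u = v) : False := by
  classical
  haveI : Fact (Nat.Prime 2) := ⟨Nat.prime_two⟩
  have hP2 : IsPGroup 2 P := H.hX.to_subgroup P
  have hPΦ : ¬ P ≤ frattini X := fun h => by
    have := (H.index_frattini_le D.ne_top).2 h
    rw [Subgroup.index_eq_card, hV] at this
    omega
  obtain ⟨g, hgP, hgΦ⟩ := SetLike.not_le_iff_exists.1 hPΦ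
  -- the Frattini subgroup of `P` is trivial
  have hbot : frattini P = ⊥ := by
    set N := frattini P with hN
    refine eq_bot_of_le_sq_comm hP2 ?_
    set W := closure ({u | ∃ s ∈ N, u = s ^ 2} ∪ {u | ∃ s ∈ N, ∃ g : P, u = g * s * g⁻¹ * s⁻¹})
      with hW
    have hWN : W ≤ N := by
      refine (closure_le _).2 ?_
      rintro u (⟨s, hs, rfl⟩ | ⟨s, hs, g, rfl⟩)
      · exact pow_mem hs 2
      · exact mul_mem ((inferInstance : N.Normal).conj_mem s hs g) (inv_mem hs)
    have hWc : ∀ {s : P}, s ∈ N → ∀ g : P, g * s * g⁻¹ * s⁻¹ ∈ W := fun {s} hs g =>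
      subset_closure (Or.inr ⟨s, hs, g, rfl⟩)
    haveI : W.Normal := ⟨fun u hu g => by
      have := mul_mem (hWc (hWN hu) g) hu
      rwa [inv_mul_cancel_right] at this⟩
    have hWinv : ∀ σ : MulAut P, W.map σ.toMonoidHom = W := by
      have hle : ∀ σ : MulAut P, W.map σ.toMonoidHom ≤ W := by
        intro σ
        rw [map_le_iff_le_comap]
        refine (closure_le _).2 ?_
        have hσN : ∀ s ∈ N, σ s ∈ N := fun s hs =>
          (Subgroup.characteristic_iff_map_eq.1 (inferInstance : (frattini P).Characteristic) σ).le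
            ⟨s, hs, rfl⟩
        rintro u (⟨s, hs, rfl⟩ | ⟨s, hs, g, rfl⟩)
        · show σ (s ^ 2) ∈ W
          rw [map_pow]
          exact subset_closure (Or.inl ⟨σ s, hσN s hs, rfl⟩)
        · show σ (g * s * g⁻¹ * s⁻¹) ∈ W
          rw [map_mul, map_mul, map_mul, map_inv, map_inv]
          exact hWc (hσN s hs) (σ g)
      exact fun σ => Subgroup.eq_of_le_of_card_ge (hle σ)
        (Subgroup.card_map_of_injective (f := σ.toMonoidHom) σ.injective).ge
    let π := QuotientGroup.mk' W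
    have hπ : Function.Surjective π := QuotientGroup.mk'_surjective W
    have hcen : ∀ s ∈ N, ∀ q : P ⧸ W, π s * q = q * π s := by
      intro s hs q
      obtain ⟨g, rfl⟩ := hπ q
      have e : π (g * s * g⁻¹ * s⁻¹) = 1 := (QuotientGroup.eq_one_iff _).2 (hWc hs g)
      rw [map_mul, map_mul, map_mul, map_inv, map_inv, mul_inv_eq_one, mul_inv_eq_iff_eq_mul] at e
      exact e.symm
    have hs2 : ∀ s ∈ N, π s * π s = 1 := fun s hs => by
      rw [← map_mul, ← pow_two]
      exact (QuotientGroup.eq_one_iff _).2 (subset_closure (Or.inl ⟨s, hs, rfl⟩))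
    have hNle : N.map P.subtype ≤ frattini X := by
      rw [map_le_iff_le_comap]
      haveI : ((frattini X).subgroupOf P).Normal := inferInstance
      refine CfsgLib.PGroups.frattini_le_of_elementary (p := 2) ?_ fun v =>
        CfsgLib.PGroups.pow_mem_frattini H.hX (v : X)
      show ⁅(⊤ : Subgroup P), (⊤ : Subgroup P)⁆ ≤ (frattini X).subgroupOf P
      rw [Subgroup.commutator_le]
      intro u _ v _
      exact CfsgLib.PGroups.commutator_le_frattini' H.hX (comm_mem (u : X) v)
    -- at most four images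
    have hfour : Nat.card (N.map π) ≤ 4 := by
      let f : N →* P ⧸ W := π.comp N.subtype
      have hm : Cfsg.IsMetacyclic N := isMetacyclic_of_injective
        (isMetacyclic_frattini H.hX H.hb H.hm)
        ({ toFun := fun d => ⟨((d : P) : X), hNle (mem_map_of_mem P.subtype d.2)⟩
           map_one' := rfl
           map_mul' := fun _ _ => rfl } : N →* frattini X)
        fun a b h => Subtype.ext (Subtype.ext (congrArg Subtype.val h :))
      have h := CfsgLib.Techniques.metacyclic_card_le hm f.rangeRestrict f.rangeRestrict_surjective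
        two_ne_zero fun v => Subtype.ext (by
          obtain ⟨w, hw⟩ := v.2
          show (v : P ⧸ W) ^ 2 = 1
          rw [← hw, pow_two]
          exact hs2 w w.2)
      rw [MonoidHom.range_comp, Subgroup.range_subtype] at h
      exact h
    -- squaring
    have hsq : ∀ u v : P, u⁻¹ * v ∈ N → π (v * v) = π (u * u) := by
      intro u v huv
      have hv : v = u * (u⁻¹ * v) := by group
      conv_lhs => rw [hv]
      set f := u⁻¹ * v
      simp only [map_mul]
      calc π u * π f * (π u * π f) = π u * (π f * π u) * π f := by group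
        _ = π u * π u * (π f * π f) := by rw [hcen f huv]; group
        _ = π u * π u := by rw [hs2 f huv, mul_one]
    set α' : MulAut P := (α : MulAut P) with hα'
    have hact : ∀ (j : ℕ) (v : P),
        (D.act α ^ j) (v : P ⧸ frattini P) = (((α' ^ j) v : P) : P ⧸ frattini P) := fun j v => by
      rw [← map_pow, D.act_apply, SubmonoidClass.coe_pow]
    have hαW : ∀ (σ : MulAut P) {u v : P}, π u = π v → π (σ u) = π (σ v) := fun σ {u v} h => by
      refine QuotientGroup.eq.2 ?_
      rw [← map_inv, ← map_mul]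
      exact (hWinv σ).le (mem_map_of_mem σ.toMonoidHom (QuotientGroup.eq.1 h))
    obtain ⟨v0, hv0⟩ : ∃ v0 : P, (v0 : P ⧸ frattini P) ≠ 1 := by
      by_contra h
      push Not at h
      have : Subsingleton (P ⧸ frattini P) := ⟨fun a b => by
        obtain ⟨a, rfl⟩ := QuotientGroup.mk'_surjective _ a
        obtain ⟨b, rfl⟩ := QuotientGroup.mk'_surjective _ b
        exact (h a).trans (h b).symm⟩
      rw [Nat.card_unique] at hV
      omega
    set seq : ℕ → P ⧸ W := fun j => π ((α' ^ j) (v0 * v0)) with hseq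
    have hshift : ∀ i j k, seq i = seq j → seq (k + i) = seq (k + j) := fun i j k h => by
      simp only [hseq, pow_add, MulAut.mul_apply]
      exact hαW _ h
    have hseven : seq 7 = seq 0 := by
      simp only [hseq, map_mul, pow_zero, MulAut.one_apply]
      rw [← map_mul π, ← map_mul π]
      refine hsq v0 ((α' ^ 7) v0) ?_
      rw [hN, ← QuotientGroup.eq, ← hact 7 v0, hα, MulAut.one_apply]
    have h7s : ∀ k, seq (k + 7) = seq k := fun k => by
      have := hshift 7 0 k hseven
      rwa [add_zero] at this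
    obtain ⟨d, hd0, hd7, hd⟩ : ∃ d, 0 < d ∧ d < 7 ∧ seq d = seq 0 := by
      have hmem : ∀ j, seq j ∈ N.map π := fun j => mem_map_of_mem π
        ((Subgroup.characteristic_iff_map_eq.1 (inferInstance : (frattini P).Characteristic) _).le
          ⟨v0 * v0, by rw [← pow_two]; exact CfsgLib.PGroups.pow_mem_frattini hP2 v0, rfl⟩)
      obtain ⟨i, j, hij', he'⟩ : ∃ i j : Fin 5, i ≠ j ∧ seq i = seq j := by
        by_contra h
        push Not at h
        have := Nat.card_le_card_of_injective (fun i : Fin 5 => (⟨seq i, hmem i⟩ : N.map π))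
          fun i j e => by_contra fun hne => h i j hne (congrArg Subtype.val e)
        rw [Nat.card_fin] at this
        omega
      rcases lt_or_gt_of_ne hij' with hlt | hlt
      · refine ⟨(j : ℕ) - i, by omega, by omega, ?_⟩
        have := hshift _ _ (7 - (i : ℕ)) he'
        rw [show 7 - (i : ℕ) + i = 7 by omega,
          show 7 - (i : ℕ) + j = ((j : ℕ) - i) + 7 by omega, h7s ((j : ℕ) - i), hseven] at this
        exact this.symm
      · refine ⟨(i : ℕ) - j, by omega, by omega, ?_⟩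
        have := hshift _ _ (7 - (j : ℕ)) he'
        rw [show 7 - (j : ℕ) + j = 7 by omega,
          show 7 - (j : ℕ) + i = ((i : ℕ) - j) + 7 by omega, h7s ((i : ℕ) - j), hseven] at this
        exact this
    have hmul : ∀ m, seq (d * m) = seq 0 := by
      intro m
      induction m with
      | zero => rw [mul_zero]
      | succ m ih => rw [Nat.mul_succ, hshift _ _ _ hd, add_zero, ih]
    have hmod : ∀ j, seq j = seq (j % 7) := by
      intro j
      induction j using Nat.strongRecOn with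
      | _ j ih =>
        rcases lt_or_ge j 7 with h | h
        · rw [Nat.mod_eq_of_lt h]
        · rw [show seq j = seq (j - 7 + 7) by rw [Nat.sub_add_cancel h], hshift 7 0 _ hseven,
            add_zero, ih _ (by omega)]
          congr 1
          omega
    have hconst : ∀ j, seq j = seq 0 := by
      intro j
      obtain ⟨m, hm⟩ : ∃ m, (d * m) % 7 = j % 7 := by
        interval_cases d <;>
          [exact ⟨j, by omega⟩; exact ⟨4 * j, by omega⟩; exact ⟨5 * j, by omega⟩;
           exact ⟨2 * j, by omega⟩; exact ⟨3 * j, by omega⟩; exact ⟨6 * j, by omega⟩]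
      rw [hmod j, ← hm, ← hmod, hmul]
    have hsqc : ∀ v : P, (v : P ⧸ frattini P) ≠ 1 → π (v * v) = π (v0 * v0) := by
      intro v hv
      obtain ⟨j, hj⟩ := htrans _ _ hv0 hv
      rw [hact] at hj
      rw [hsq _ _ (QuotientGroup.eq.1 hj), ← map_mul (α' ^ j)]
      have := hconst j
      simp only [hseq, pow_zero, MulAut.one_apply] at this
      exact this
    set s := π (v0 * v0)
    have hsN : v0 * v0 ∈ N := by rw [← pow_two]; exact CfsgLib.PGroups.pow_mem_frattini hP2 v0
    -- the commutator pairing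
    let c : P → P → P ⧸ W := fun u v => (π u * π v)⁻¹ * (π v * π u)
    have hcN : ∀ u v : P, (u * v)⁻¹ * (v * u) ∈ N := fun u v => by
      rw [hN, ← QuotientGroup.eq, QuotientGroup.mk_mul, QuotientGroup.mk_mul]
      exact quot_comm hP2 _ _
    have hcc : ∀ (u v : P) (q : P ⧸ W), c u v * q = q * c u v := fun u v q => by
      have := hcen _ (hcN u v) q
      simpa [c] using this
    have hcsq : ∀ u v : P, π (u * v * (u * v)) = π (u * u) * π (v * v) * c u v := by
      intro u v
      have e : π v * π u = π u * π v * c u v := (mul_inv_cancel_left _ _).symm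
      simp only [map_mul]
      calc π u * π v * (π u * π v) = π u * (π v * π u) * π v := by group
        _ = π u * (π u * π v) * (c u v * π v) := by rw [e]; group
        _ = π u * π u * (π v * π v) * c u v := by rw [hcc]; group
    have hne : ∀ u v : P, (u : P ⧸ frattini P) ≠ 1 → (v : P ⧸ frattini P) ≠ 1 →
        (u : P ⧸ frattini P) ≠ v → c u v = s := by
      intro u v hu hv huv
      have huv' : ((u * v : P) : P ⧸ frattini P) ≠ 1 := by
        rw [QuotientGroup.mk_mul]
        intro e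
        refine huv (mul_right_cancel (e.trans ?_) : _)
        rw [← pow_two]; exact (quot_pow hP2 _).symm
      have h := hcsq u v
      rw [hsqc _ huv', hsqc _ hu, hsqc _ hv, hs2 _ hsN, one_mul] at h
      exact h.symm
    obtain ⟨v1, hv1, hv10⟩ : ∃ v1 : P, (v1 : P ⧸ frattini P) ≠ 1 ∧
        (v1 : P ⧸ frattini P) ≠ v0 := by
      by_contra h
      push Not at h
      have hle : Nat.card (P ⧸ frattini P) ≤
          Nat.card (({1, (v0 : P ⧸ frattini P)} : Set (P ⧸ frattini P)) : Set _) := by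
        refine Nat.card_le_card_of_injective (fun q => ⟨q, ?_⟩) fun a b e => congrArg Subtype.val e
        obtain ⟨w, rfl⟩ := QuotientGroup.mk'_surjective _ q
        rcases eq_or_ne (w : P ⧸ frattini P) 1 with r | r
        · exact Or.inl r
        · exact Or.inr (h w r)
      rw [hV, Nat.card_coe_set_eq] at hle
      have := Set.ncard_insert_le (1 : P ⧸ frattini P) {(v0 : P ⧸ frattini P)}
      rw [Set.ncard_singleton] at this
      omega
    obtain ⟨v2, hv2, hv20, hv21, hv2m⟩ : ∃ v2 : P, (v2 : P ⧸ frattini P) ≠ 1 ∧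
        (v2 : P ⧸ frattini P) ≠ v0 ∧ (v2 : P ⧸ frattini P) ≠ v1 ∧
        (v2 : P ⧸ frattini P) ≠ v1 * v0 := by
      by_contra h
      push Not at h
      have hle : Nat.card (P ⧸ frattini P) ≤ Nat.card (Fin 4) := by
        refine Nat.card_le_card_of_surjective
          (![1, (v0 : P ⧸ frattini P), v1, (v1 : P ⧸ frattini P) * v0] : Fin 4 → _) fun q => ?_
        obtain ⟨w, rfl⟩ := QuotientGroup.mk'_surjective _ q
        rw [QuotientGroup.mk'_apply]
        by_cases h0 : (w : P ⧸ frattini P) = 1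
        · exact ⟨0, by simp [h0]⟩
        by_cases h1 : (w : P ⧸ frattini P) = v0
        · exact ⟨1, by simp [h1]⟩
        by_cases h2 : (w : P ⧸ frattini P) = v1
        · exact ⟨2, by simp [h2]⟩
        exact ⟨3, by simp [h w h0 h1 h2]⟩
      rw [hV, Nat.card_fin] at hle
      omega
    have hs1 : s = 1 := by
      have hqq : ∀ q : P ⧸ frattini P, q * q = 1 := fun q => by rw [← pow_two]; exact quot_pow hP2 q
      have hm1 : ((v1 * v2 : P) : P ⧸ frattini P) ≠ 1 := by
        rw [QuotientGroup.mk_mul]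
        exact fun e => hv21 (mul_left_cancel (e.trans (hqq _).symm))
      have hm0 : ((v1 * v2 : P) : P ⧸ frattini P) ≠ v0 := by
        rw [QuotientGroup.mk_mul]
        intro e
        refine hv2m ?_
        rw [← e, ← mul_assoc, hqq, one_mul]
      have h3 := hne v0 (v1 * v2) hv0 hm1 hm0.symm
      have h1 := hne v0 v1 hv0 hv1 hv10.symm
      have h2 := hne v0 v2 hv0 hv2 hv20.symm
      have hbil : c v0 (v1 * v2) = c v0 v1 * c v0 v2 := by
        have e1 : π v1 * π v0 = π v0 * π v1 * c v0 v1 := (mul_inv_cancel_left _ _).symm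
        have e2 : π v2 * π v0 = π v0 * π v2 * c v0 v2 := (mul_inv_cancel_left _ _).symm
        show (π v0 * π (v1 * v2))⁻¹ * (π (v1 * v2) * π v0) = _
        rw [inv_mul_eq_iff_eq_mul, map_mul]
        calc π v1 * π v2 * π v0 = π v1 * π v0 * π v2 * c v0 v2 := by
              rw [mul_assoc, e2]; group
          _ = π v0 * π v1 * (c v0 v1 * π v2) * c v0 v2 := by rw [e1]; group
          _ = _ := by rw [hcc]; group
      rw [hbil, h1, h2, hs2 _ hsN] at h3
      exact h3.symm
    have hsqW : ∀ v : P, v * v ∈ W := by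
      intro v
      rw [← QuotientGroup.eq_one_iff]
      by_cases hv : (v : P ⧸ frattini P) = 1
      · exact hs2 v (by rw [hN]; exact (QuotientGroup.eq_one_iff v).1 hv)
      · exact (hsqc v hv).trans hs1
    refine CfsgLib.PGroups.frattini_le_of_elementary (p := 2) ?_ fun v => by
      rw [pow_two]; exact hsqW v
    show ⁅(⊤ : Subgroup P), (⊤ : Subgroup P)⁆ ≤ W
    rw [Subgroup.commutator_le]
    intro u _ v _
    rw [commutatorElement_def]
    have e : u * v * u⁻¹ * v⁻¹ = (u * v) * (u * v) * ((v⁻¹ * u⁻¹ * v) * (v⁻¹ * u⁻¹ * v))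
        * (v⁻¹ * v⁻¹) := by group
    rw [e]
    exact mul_mem (mul_mem (hsqW _) (hsqW _)) (hsqW _)
  -- `P` is elementary abelian
  have hsq1 : ∀ v : X, v ∈ P → v * v = 1 := fun v hv => by
    have h : (⟨v, hv⟩ : P) ^ 2 ∈ frattini P := CfsgLib.PGroups.pow_mem_frattini hP2 _
    rw [hbot, mem_bot, pow_two] at h
    exact congrArg Subtype.val h
  have hPc : ∀ u ∈ P, ∀ v ∈ P, u * v = v * u := fun u hu v hv => by
    have h1 := inv_eq_of_mul_eq_one_left (hsq1 u hu)
    have h2 := inv_eq_of_mul_eq_one_left (hsq1 v hv)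
    have h3 := inv_eq_of_mul_eq_one_left (hsq1 _ (P.mul_mem hu hv))
    rw [← h3, mul_inv_rev, h1, h2]
  have hD : ∀ v ∈ P, v ∈ frattini X → v ∈ omegaDer X := fun v hv hvΦ =>
    H.involution_mem_omegaDer hnc hvΦ (by rw [pow_two]; exact hsq1 v hv)
  have hPcard : Nat.card P = 8 := by
    rw [← hV, hbot]
    exact (Nat.card_congr (QuotientGroup.quotientBot (G := P)).toEquiv).symm
  have hsplit : ∀ v ∈ P, v ∈ frattini X ∨ g⁻¹ * v ∈ P ⊓ frattini X := fun v hv => by
    by_cases h : v ∈ frattini X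
    · exact Or.inl h
    · exact Or.inr ⟨P.mul_mem (P.inv_mem hgP) hv, H.inv_mul_mem_of_ne_top D.ne_top hgP hv hgΦ h⟩
  have hΩP : omegaDer X ≤ P := by
    have hle : P ⊓ frattini X ≤ omegaDer X := fun v hv => hD v hv.1 hv.2
    refine le_trans (Subgroup.eq_of_le_of_card_ge hle ?_).ge inf_le_left
    rw [(H.card_sqDer_mul hnc).1]
    let G : Fin 2 × (P ⊓ frattini X : Subgroup X) → P := fun p =>
      ⟨g ^ (p.1 : ℕ) * p.2, P.mul_mem (P.pow_mem hgP _) p.2.2.1⟩
    have hG : Function.Surjective G := fun v => by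
      rcases hsplit v v.2 with h | h
      · exact ⟨(0, ⟨v, v.2, h⟩), Subtype.ext (by simp [G])⟩
      · exact ⟨(1, ⟨_, h⟩), Subtype.ext (by simp [G])⟩
    have := Nat.card_le_card_of_surjective G hG
    rw [Nat.card_prod, Nat.card_fin, hPcard] at this
    omega
  have hdiv : ∀ n : X, n ∈ Subgroup.normalizer (P : Set X) → g⁻¹ * (n * g * n⁻¹) ∈ omegaDer X := by
    intro n hn
    refine hD _ (P.mul_mem (P.inv_mem hgP) ((Subgroup.mem_normalizer_iff.1 hn g).1 hgP)) ?_
    have := CfsgLib.PGroups.commutator_le_frattini' H.hX (comm_mem g⁻¹ n)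
    rw [inv_inv] at this
    simpa [mul_assoc] using this
  by_cases hout : ∃ n : Subgroup.normalizer (P : Set X),
      (n : X) ∉ frattini X ∧ g⁻¹ * (n : X) ∉ frattini X
  · obtain ⟨n, hn1, hn2⟩ := hout
    have hgen := H.gen_of_notMem hgΦ hn1 hn2
    haveI hPn : P.Normal := by
      refine Subgroup.normalizer_eq_top_iff.1 (top_le_iff.1 ?_)
      rw [← hgen, closure_le]
      rintro v (rfl | rfl)
      exacts [Subgroup.le_normalizer hgP, n.2]
    have hCE : commutator X ≤ omegaDer X := by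
      refine commutator_le_of_pair hgen ?_
      have h := H.omegaDer_le (hdiv n n.2)
      have e : g * (n : X) * g⁻¹ * (n : X)⁻¹ = g * (g⁻¹ * ((n : X) * g * (n : X)⁻¹))⁻¹ * g⁻¹ := by
        group
      rw [e]
      exact omegaDer_normal.conj_mem _ (inv_mem (hdiv n n.2)) g
    -- the fourth power of `n` centralises `P`
    set e := g⁻¹ * ((n : X) * g * (n : X)⁻¹) with he
    have hn2e : ∀ d ∈ omegaDer X, (n : X) ^ 2 * d = d * (n : X) ^ 2 := fun d hd =>
      H.sq_comm_omegaDer hnc _ hd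
    have hn4 : (n : X) ^ 4 ∈ P := by
      refine D.centric _ fun v hv => ?_
      have hc : ∀ d ∈ omegaDer X, Commute ((n : X) ^ 4) d := fun d hd => by
        rw [show (4 : ℕ) = 2 * 2 from rfl, pow_mul]
        exact (show Commute _ d from hn2e d hd).pow_left 2
      have hcg : Commute ((n : X) ^ 4) g := by
        have hee : (n : X) * e * (n : X)⁻¹ ∈ omegaDer X := omegaDer_normal.conj_mem _ (hdiv n n.2) n
        have h2 : (n : X) ^ 2 * g * ((n : X) ^ 2)⁻¹ = g * (e * ((n : X) * e * (n : X)⁻¹)) := by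
          calc (n : X) ^ 2 * g * ((n : X) ^ 2)⁻¹ = (n : X) * ((n : X) * g * (n : X)⁻¹) * (n : X)⁻¹ := by
                rw [pow_two]; group
            _ = ((n : X) * g * (n : X)⁻¹) * ((n : X) * e * (n : X)⁻¹) := by rw [he]; group
            _ = _ := by rw [← mul_assoc g, show g * e = (n : X) * g * (n : X)⁻¹ by rw [he]; group]
        set f := e * ((n : X) * e * (n : X)⁻¹)
        have hf : f ∈ omegaDer X := mul_mem (hdiv n n.2) hee
        rw [commute_iff_eq, ← mul_inv_eq_iff_eq_mul]
        calc (n : X) ^ 4 * g * ((n : X) ^ 4)⁻¹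
            = (n : X) ^ 2 * ((n : X) ^ 2 * g * ((n : X) ^ 2)⁻¹) * ((n : X) ^ 2)⁻¹ := by
              rw [show (4 : ℕ) = 2 + 2 from rfl, pow_add]; group
          _ = ((n : X) ^ 2 * g * ((n : X) ^ 2)⁻¹) * ((n : X) ^ 2 * f * ((n : X) ^ 2)⁻¹) := by
              conv_lhs => rw [h2]
              group
          _ = g * (f * f) := by rw [h2, hn2e f hf, mul_inv_cancel_right, mul_assoc]
          _ = g := by rw [← pow_two, (H.mem_omegaDer.1 hf).2, mul_one]
      rcases hsplit v hv with h | h
      · exact hc v (hD v hv h)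
      · have := hcg.mul_right (hc _ (hD _ h.1 h.2))
        rwa [mul_inv_cancel_left] at this
    have hle : autInducedBy ⊤ P ≤ zpowers (P.normalizerMonoidHom n) := by
      intro β hβ
      obtain ⟨t, rfl⟩ := exists_cj_of_induced D hβ
      have htop : zpowers (n : X) ⊔ P = ⊤ := by
        rw [eq_top_iff, ← hgen, closure_le]
        rintro v (rfl | rfl)
        exacts [mem_sup_right hgP, mem_sup_left (mem_zpowers _)]
      have htm : (t : X) ∈ zpowers (n : X) ⊔ P := htop ▸ mem_top _
      obtain ⟨w, hw, p, hp, hwp⟩ := mem_sup_of_normal_right.1 htm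
      obtain ⟨k, rfl⟩ := mem_zpowers_iff.1 hw
      refine mem_zpowers_iff.2 ⟨k, MulEquiv.ext fun v => Subtype.ext ?_⟩
      rw [← map_zpow]
      show ((n ^ k : Subgroup.normalizer (P : Set X)) : X) * v * _⁻¹ = (t : X) * v * (t : X)⁻¹
      rw [SubgroupClass.coe_zpow, ← hwp]
      calc (n : X) ^ k * v * ((n : X) ^ k)⁻¹
          = (n : X) ^ k * (p * v * p⁻¹) * ((n : X) ^ k)⁻¹ := by
            rw [hPc p hp v v.2, mul_inv_cancel_right]
        _ = _ := by group
    have h4 : Nat.card (zpowers (P.normalizerMonoidHom n)) ≤ 4 := by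
      rw [Nat.card_zpowers]
      refine Nat.le_of_dvd (by norm_num) (orderOf_dvd_of_pow_eq_one (MulEquiv.ext fun v =>
        Subtype.ext ?_))
      rw [← map_pow]
      show ((n ^ 4 : Subgroup.normalizer (P : Set X)) : X) * v * _⁻¹ = v
      rw [SubmonoidClass.coe_pow, hPc _ hn4 v v.2, mul_inv_cancel_right]
    have := Subgroup.card_le_of_le hle
    omega
  · push Not at hout
    have hfix : ∀ (β : MulAut P), β ∈ autInducedBy ⊤ P →
        ∀ d : P, (d : X) ∈ frattini X → β d = d := by
      intro β hβ d hd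
      obtain ⟨t, rfl⟩ := exists_cj_of_induced D hβ
      refine Subtype.ext ?_
      rw [D.cj_apply]
      have hdE := hD d d.2 hd
      have hc : (t : X) * d = d * t := by
        by_cases ht : (t : X) ∈ frattini X
        · exact H.frattini_comm_omegaDer hnc ht hdE
        · have := H.frattini_comm_omegaDer hnc (hout t ht) hdE
          have hg' : Commute g (d : X) := hPc g hgP d d.2
          have h2 := hg'.mul_left (show Commute (g⁻¹ * (t : X)) d from this)
          rwa [mul_inv_cancel_left] at h2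
      rw [hc, mul_inv_cancel_right]
    have hmem : ∀ β : autInducedBy ⊤ P,
        g⁻¹ * (((β : MulAut P) ⟨g, hgP⟩ : P) : X) ∈ omegaDer X := fun β => by
      obtain ⟨t, ht⟩ := exists_cj_of_induced D β.2
      rw [← ht, D.cj_apply]
      exact hdiv t t.2
    have hinj : Function.Injective (fun β : autInducedBy ⊤ P =>
        (⟨_, hmem β⟩ : omegaDer X)) := by
      intro β γ h
      have h' : (β : MulAut P) ⟨g, hgP⟩ = (γ : MulAut P) ⟨g, hgP⟩ :=
        Subtype.ext (mul_left_cancel (congrArg Subtype.val h))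
      refine Subtype.ext (MulEquiv.ext fun v => ?_)
      rcases hsplit v v.2 with hv | hv
      · rw [hfix β β.2 v hv, hfix γ γ.2 v hv]
      · have e : v = ⟨g, hgP⟩ * (⟨g⁻¹ * v, hv.1⟩ : P) := Subtype.ext (mul_inv_cancel_left g v).symm
        rw [e, map_mul, map_mul, h', hfix β β.2 ⟨g⁻¹ * v, hv.1⟩ hv.2,
          hfix γ γ.2 ⟨g⁻¹ * v, hv.1⟩ hv.2]
    have := Nat.card_le_card_of_injective _ hinj
    rw [(H.card_sqDer_mul hnc).1] at this
    omega

/-- An element of order three, normalised up to inversion and inverted outside `P`. -/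
theorem exists_order_three (D : AutData P A) (H : Hyp x y) (hnc : ¬ IsCyclic (commutator X)) :
    ∃ φ : A, φ ^ 3 = 1 ∧ D.act φ ≠ 1 ∧
      (∀ a : A, D.act (a * φ * a⁻¹) = D.act φ ∨ D.act (a * φ * a⁻¹) = (D.act φ)⁻¹) ∧
      ∀ t : Subgroup.normalizer (P : Set X), (t : X) ∉ P →
        D.act (D.cj t * φ * (D.cj t)⁻¹) = (D.act φ)⁻¹ := by
  classical
  haveI : Fact (Nat.Prime 2) := ⟨Nat.prime_two⟩
  have hP2 : IsPGroup 2 P := H.hX.to_subgroup P
  have hexp : ∀ v : P ⧸ frattini P, v * v = 1 := fun v => by rw [← pow_two]; exact quot_pow hP2 v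
  have hkerp : IsPGroup 2 D.act.ker := fun k => by
    obtain ⟨w, hw⟩ := (D.act_eq_one_iff H.hX k).1 k.2
    obtain ⟨n, hn⟩ := hP2 w
    refine ⟨n, Subtype.ext (Subtype.ext ?_)⟩
    simp only [SubmonoidClass.coe_pow, OneMemClass.coe_one]
    rw [← hw, ← map_pow, hn, map_one]
  have hnotR : ¬ IsPGroup 2 D.act.range := fun h => D.not_pgroup fun a => by
    obtain ⟨k, hk⟩ := h ⟨D.act a, a, rfl⟩
    have hk' : D.act (a ^ 2 ^ k) = 1 := by rw [map_pow]; exact congrArg Subtype.val hk
    obtain ⟨l, hl⟩ := hkerp ⟨_, hk'⟩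
    exact ⟨k + l, by rw [pow_add, pow_mul]; exact congrArg Subtype.val hl⟩
  have h4 := not_two_group_aut hexp hnotR
  have h8 := (H.index_frattini_le D.ne_top).1
  rw [Subgroup.index_eq_card] at h8
  obtain ⟨k, hk⟩ := IsPGroup.iff_card.1 (hP2.to_quotient (frattini P))
  have hV : Nat.card (P ⧸ frattini P) = 4 ∨ Nat.card (P ⧸ frattini P) = 8 := by
    rw [hk] at h4 h8 ⊢
    rcases k with _ | _ | _ | _ | k
    · norm_num at h4
    · norm_num at h4
    · exact Or.inl rfl
    · exact Or.inr rfl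
    · have : 2 ^ 4 ≤ 2 ^ (k + 4) := Nat.pow_le_pow_right two_pos (by omega)
      omega
  set T := D.cj.range.map D.act.rangeRestrict with hTdef
  have hind2 : IsPGroup 2 (autInducedBy ⊤ P) :=
    isPGroup_autInducedBy (K := ⊤) (H.hX.to_subgroup ⊤)
  have hTp : IsPGroup 2 T := by
    refine IsPGroup.map ?_ _
    exact IsPGroup.of_surjective (H.hX.to_subgroup _) D.cj.rangeRestrict
      D.cj.rangeRestrict_surjective
  have hT1 : T ≠ ⊥ := by
    obtain ⟨t, ht⟩ := D.exists_notMem H.hX
    intro hb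
    have h1 : D.act.rangeRestrict (D.cj t) = 1 :=
      mem_bot.1 (hb ▸ mem_map_of_mem D.act.rangeRestrict (⟨t, rfl⟩ : D.cj t ∈ D.cj.range))
    exact ht (D.mem_of_inner t ((D.act_eq_one_iff H.hX _).1 (congrArg Subtype.val h1)))
  have hcore : ∀ U : Subgroup D.act.range, U.Normal → IsPGroup 2 U → U = ⊥ := by
    intro U hUn hU2
    haveI := hUn
    have hker : IsPGroup 2 D.act.rangeRestrict.ker := by rwa [MonoidHom.ker_rangeRestrict]
    set K : Subgroup (MulAut P) := (U.comap D.act.rangeRestrict).map A.subtype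
    have hKn : ∀ α ∈ A, ∀ κ ∈ K, α * κ * α⁻¹ ∈ K := by
      intro α hα κ' hκ'
      obtain ⟨κ, hκ, rfl⟩ := Subgroup.mem_map.1 hκ'
      have hmem : (⟨α, hα⟩ : A) * κ * (⟨α, hα⟩ : A)⁻¹ ∈ U.comap D.act.rangeRestrict :=
        (inferInstance : (U.comap D.act.rangeRestrict).Normal).conj_mem κ hκ ⟨α, hα⟩
      exact Subgroup.mem_map.2 ⟨_, hmem, by simp⟩
    have hle := D.radical K (Subgroup.map_subtype_le _) hKn
      ((hU2.comap_of_ker_isPGroup _ hker).map _)
    refine eq_bot_iff.2 fun u hu => ?_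
    obtain ⟨a, rfl⟩ := D.act.rangeRestrict_surjective u
    rw [mem_bot]
    refine Subtype.ext ?_
    exact (D.act_eq_one_iff H.hX a).2 (hle (Subgroup.mem_map.2 ⟨a, hu, rfl⟩))
  rcases aut_cases hexp hV hTp (fun U hU hle => D.maximal_image H.hX hU hle) hT1 hcore hnotR with
    ⟨hT8, hV8, n, hn, htr⟩ | ⟨ρ, hρ, hnorm, hinv⟩
  · exfalso
    obtain ⟨α, hα⟩ := D.act.rangeRestrict_surjective n
    have hα' : D.act α = (n : MulAut _) := congrArg Subtype.val hα
    refine D.false_of_transitive H hnc hV8 ?_ α ?_ fun u v hu hv => ?_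
    · rw [← hT8]
      have hsurj : ∀ w : T, ∃ β : autInducedBy ⊤ P, ∀ a : A, (a : MulAut P) = β →
          D.act.rangeRestrict a = w := by
        intro w
        obtain ⟨a, ⟨t, rfl⟩, ha⟩ := Subgroup.mem_map.1 w.2
        refine ⟨⟨P.normalizerMonoidHom t, mem_autInducedBy_iff.2 ⟨t, mem_top _, fun _ => rfl⟩⟩,
          fun b hb => ?_⟩
        rw [← ha]
        congr 1
        exact Subtype.ext hb
      choose F hF using hsurj
      refine Nat.card_le_card_of_injective F fun w w' h => Subtype.ext ?_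
      rw [← hF w ⟨_, D.induced_le (F w).2⟩ rfl, ← hF w' ⟨_, D.induced_le (F w).2⟩ (by rw [h])]
    · rw [hα', ← SubmonoidClass.coe_pow, ← hn, pow_orderOf_eq_one]
      rfl
    · obtain ⟨j, hj⟩ := htr u v hu hv
      exact ⟨j, by rw [hα', ← SubmonoidClass.coe_pow]; exact hj⟩
  obtain ⟨a0, ha0⟩ := D.act.rangeRestrict_surjective ρ
  have hρ3 : ρ ^ 3 = 1 := hρ ▸ pow_orderOf_eq_one ρ
  have hker : a0 ^ 3 ∈ D.act.ker := by
    have : D.act.rangeRestrict (a0 ^ 3) = 1 := by rw [map_pow, ha0, hρ3]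
    exact congrArg Subtype.val this
  obtain ⟨k, hk⟩ := hkerp ⟨_, hker⟩
  have hk' : (a0 ^ 3) ^ 2 ^ k = 1 := congrArg Subtype.val hk
  have hval : ∀ a : A, D.act a = (D.act.rangeRestrict a : MulAut _) := fun _ => rfl
  refine ⟨a0 ^ 2 ^ k, by rw [← pow_mul, mul_comm, pow_mul, hk'], fun h => ?_, fun a => ?_,
    fun t ht => ?_⟩
  · have h1 : ρ ^ 2 ^ k = 1 := by
      rw [← ha0, ← map_pow]; exact Subtype.ext h
    have := (hρ ▸ orderOf_dvd_of_pow_eq_one h1 : 3 ∣ 2 ^ k)
    have := Nat.prime_three.dvd_of_dvd_pow this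
    omega
  · rw [hval (a * a0 ^ 2 ^ k * a⁻¹), hval (a0 ^ 2 ^ k), map_mul, map_mul, map_inv, map_pow, ha0,
      ← conj_pow]
    rcases hnorm (D.act.rangeRestrict a) with h | h <;> rw [h]
    · exact Or.inl rfl
    · exact Or.inr (by rw [inv_pow]; rfl)
  · rw [hval (D.cj t * a0 ^ 2 ^ k * (D.cj t)⁻¹), hval (a0 ^ 2 ^ k), map_mul, map_mul, map_inv,
      map_pow, ha0, ← conj_pow]
    rw [hinv _ (mem_map_of_mem D.act.rangeRestrict (⟨t, rfl⟩ : D.cj t ∈ D.cj.range)) ?_,
      inv_pow]
    · rfl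
    · intro h
      exact ht (D.mem_of_inner t ((D.act_eq_one_iff H.hX _).1 (congrArg Subtype.val h)))

end AutData

end CfsgLib.Fusion.Bicyclic
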