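import Cfsg.Agent.Lib.Fusion.Bicyclic.Cover
import Cfsg.Agent.Lib.Fusion.Bicyclic.Local
import Cfsg.Agent.Lib.Fusion.MetacyclicTwoClosed
import Cfsg.Agent.S4397
import Mathlib.GroupTheory.Perm.Cycle.Type

/-!
Bicyclic nonmetacyclic `2`-groups with noncyclic derived group: no centric radical subgroup has an
automizer which is not a `2`-group.
-/

set_option autoImplicit false

namespace CfsgLib.Fusion.Bicyclic

open Subgroup Cfsg
open CfsgLib.Fusion.RankThree (frattiniAut frattiniAut_apply quot_comm quot_pow)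

universe u

theorem index_frattini_congr {Y Z : Type*} [Group Y] [Group Z] [Finite Y] [Finite Z] (e : Y ≃* Z) :
    (frattini Y).index = (frattini Z).index := by
  rw [Subgroup.index_eq_card, Subgroup.index_eq_card]
  refine le_antisymm ?_ ?_
  · refine Nat.card_le_card_of_surjective (QuotientGroup.map (frattini Z) (frattini Y)
      e.symm.toMonoidHom (frattini_le_comap_frattini_of_surjective e.symm.surjective)) fun q => ?_
    obtain ⟨w, rfl⟩ := QuotientGroup.mk'_surjective _ q
    exact ⟨QuotientGroup.mk (e w), by simp⟩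
  · refine Nat.card_le_card_of_surjective (QuotientGroup.map (frattini Y) (frattini Z)
      e.toMonoidHom (frattini_le_comap_frattini_of_surjective e.surjective)) fun q => ?_
    obtain ⟨w, rfl⟩ := QuotientGroup.mk'_surjective _ q
    exact ⟨QuotientGroup.mk (e.symm w), by simp⟩

/-- A map of period three on a set of two-power size has a fixed point. -/
theorem four_group_sq : ∀ w : Multiplicative (ZMod 2) × Multiplicative (ZMod 2), w ^ 2 = 1 := by
  decide

theorem exists_fixed_of_three {Y : Type*} [Finite Y] (f : Y → Y) (h3 : ∀ y, f (f (f y)) = y)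
    (hY : ∃ k, Nat.card Y = 2 ^ k) : ∃ y, f y = y := by
  classical
  haveI : Fact (Nat.Prime 3) := ⟨Nat.prime_three⟩
  letI := Fintype.ofFinite Y
  let σ : Equiv.Perm Y := ⟨f, fun y => f (f y), h3, h3⟩
  obtain ⟨k, hk⟩ := hY
  refine Equiv.Perm.exists_fixed_point_of_prime (p := 3) (n := 1) (σ := σ) ?_ ?_
  · rw [← Nat.card_eq_fintype_card, hk]
    intro h
    have := Nat.prime_three.dvd_of_dvd_pow h
    omega
  · refine Equiv.ext fun y => ?_
    show (σ ^ (3 : ℕ)) y = y
    simp only [pow_succ, pow_zero, one_mul, Equiv.Perm.mul_apply]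
    exact h3 y

theorem four_eq_top {W : Type*} [Group W] (h4 : Nat.card W = 4) (hexp : ∀ v : W, v * v = 1)
    {σ : MulAut W} (h3 : σ ^ 3 = 1) (hσ : σ ≠ 1) {w : W} (hw : w ≠ 1) :
    σ w ≠ w ∧ ∀ U : Subgroup W, w ∈ U → σ w ∈ U → U = ⊤ := by
  classical
  haveI : Finite W := Nat.finite_of_card_ne_zero (by omega)
  have hne : σ w ≠ w := by
    intro hfix
    refine hσ (MulEquiv.ext fun v => ?_)
    by_contra hv
    have hv1 : v ≠ 1 := fun e => hv (by rw [e, map_one]; rfl)
    have hvw : v ≠ w := fun e => hv (by rw [e, hfix]; rfl)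
    have hcases := four_cases (H := (⊤ : Subgroup W)) (by rw [Subgroup.card_top, h4]) (mem_top w)
      (mem_top v) hw hv1 hvw (fun e => hvw (mul_right_cancel (e.trans (hexp w).symm))) (σ v)
      (mem_top _)
    have h3v : σ (σ (σ v)) = v := by
      have := congrArg (fun τ : MulAut W => τ v) h3
      simpa [pow_succ, MulAut.mul_apply] using this
    rcases hcases with h | h | h | h
    · exact hv1 (σ.injective (h.trans (map_one σ).symm))
    · exact hvw (σ.injective (h.trans hfix.symm))
    · exact hv h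
    · rw [h, map_mul, h, hfix, mul_assoc, hexp, mul_one] at h3v
      exact hv (h.trans (by rw [← h]; exact h3v))
  refine ⟨hne, fun U hwU hσU => eq_top_iff.2 fun v _ => ?_⟩
  have hσ1 : σ w ≠ 1 := fun e => hw (σ.injective (e.trans (map_one σ).symm))
  rcases four_cases (H := (⊤ : Subgroup W)) (by rw [Subgroup.card_top, h4]) (mem_top w)
    (mem_top (σ w)) hw hσ1 hne (fun e => hne (mul_right_cancel (e.trans (hexp w).symm))) v
    (mem_top _) with h | h | h | h <;> rw [h]
  · exact one_mem U
  · exact hwU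
  · exact hσU
  · exact mul_mem hσU hwU

namespace AutData

variable {X : Type u} [Group X] [Finite X] {P : Subgroup X} {A : Subgroup (MulAut P)} {x y : X}

/-- The hypotheses on the element of order three. -/
structure Three (D : AutData P A) (φ : A) : Prop where
  cube : φ ^ 3 = 1
  ne : D.act φ ≠ 1
  norm : ∀ a : A, D.act (a * φ * a⁻¹) = D.act φ ∨ D.act (a * φ * a⁻¹) = (D.act φ)⁻¹
  inv_out : ∀ t : Subgroup.normalizer (P : Set X), (t : X) ∉ P →
    D.act (D.cj t * φ * (D.cj t)⁻¹) = (D.act φ)⁻¹

variable {D : AutData P A}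

theorem exists_inner_conj (hX : IsPGroup 2 X) {φ α : A} (hφ : φ ^ 3 = 1) (hα : α ^ 3 = 1)
    (h : D.act α = D.act φ) : ∃ k : A, D.act k = 1 ∧ α = k * φ * k⁻¹ := by
  haveI : Fact (Nat.Prime 2) := ⟨Nat.prime_two⟩
  have hker : IsPGroup 2 D.act.ker := fun k => by
    obtain ⟨w, hw⟩ := (D.act_eq_one_iff hX k).1 k.2
    obtain ⟨n, hn⟩ := hX.to_subgroup P w
    refine ⟨n, Subtype.ext (Subtype.ext ?_)⟩
    simp only [SubmonoidClass.coe_pow, OneMemClass.coe_one]
    rw [← hw, ← map_pow, hn, map_one]
  have hmem : ∀ k : D.act.ker, α * k * φ⁻¹ ∈ D.act.ker := fun k => by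
    rw [MonoidHom.mem_ker, map_mul, map_mul, map_inv, MonoidHom.mem_ker.1 k.2, h, mul_one,
      mul_inv_cancel]
  obtain ⟨k, hk⟩ := exists_fixed_of_three (fun k : D.act.ker => (⟨_, hmem k⟩ : D.act.ker))
    (fun k => Subtype.ext (by
      show α * (α * (α * k * φ⁻¹) * φ⁻¹) * φ⁻¹ = k
      calc α * (α * (α * k * φ⁻¹) * φ⁻¹) * φ⁻¹ = α ^ 3 * k * (φ ^ 3)⁻¹ := by
            simp only [pow_succ, pow_zero]; group
        _ = k := by rw [hα, hφ, inv_one, one_mul, mul_one]))
    (IsPGroup.iff_card.1 hker)
  refine ⟨k, k.2, ?_⟩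
  have hk' : α * (k : A) * φ⁻¹ = k := congrArg Subtype.val hk
  rw [mul_inv_eq_iff_eq_mul] at hk'
  rw [← hk', mul_inv_cancel_right]

theorem inner_cases (hX : IsPGroup 2 X) {φ : A} (T : Three D φ) (a : A) :
    ∃ k : A, D.act k = 1 ∧
      (a * φ * a⁻¹ = k * φ * k⁻¹ ∨ a * φ * a⁻¹ = k * φ⁻¹ * k⁻¹) := by
  have h3 : (a * φ * a⁻¹) ^ 3 = 1 := by rw [conj_pow, T.cube, mul_one, mul_inv_cancel]
  rcases T.norm a with h | h
  · obtain ⟨k, hk, e⟩ := exists_inner_conj hX T.cube h3 h
    exact ⟨k, hk, Or.inl e⟩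
  · obtain ⟨k, hk, e⟩ :=
      exists_inner_conj hX (φ := φ⁻¹) (by rw [inv_pow, T.cube, inv_one]) h3 (by rw [map_inv]; exact h)
    exact ⟨k, hk, Or.inr e⟩

theorem exists_out_inverting (hX : IsPGroup 2 X) {φ : A} (T : Three D φ) :
    ∃ t : Subgroup.normalizer (P : Set X), (t : X) ∉ P ∧ D.cj t * φ * (D.cj t)⁻¹ = φ⁻¹ := by
  obtain ⟨t, ht⟩ := D.exists_notMem hX
  obtain ⟨k, hk, e⟩ := exists_inner_conj hX (φ := φ⁻¹) (α := D.cj t * φ * (D.cj t)⁻¹)
    (by rw [inv_pow, T.cube, inv_one]) (by rw [conj_pow, T.cube, mul_one, mul_inv_cancel])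
    (by rw [map_inv]; exact T.inv_out t ht)
  obtain ⟨u, hu⟩ := (D.act_eq_one_iff hX k).1 hk
  let uN : Subgroup.normalizer (P : Set X) := ⟨u, Subgroup.le_normalizer u.2⟩
  have hku : D.cj uN = k := Subtype.ext (MulEquiv.ext fun v => Subtype.ext (by
    rw [D.cj_apply, ← hu]; rfl))
  refine ⟨uN⁻¹ * t, fun h => ht ?_, ?_⟩
  · have := P.mul_mem u.2 h
    rwa [Subgroup.coe_mul, Subgroup.coe_inv, mul_inv_cancel_left] at this
  · rw [map_mul, map_inv, hku]
    calc k⁻¹ * D.cj t * φ * (k⁻¹ * D.cj t)⁻¹ = k⁻¹ * (D.cj t * φ * (D.cj t)⁻¹) * k := by group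
      _ = φ⁻¹ := by rw [e]; group

/-- An action on a four group. -/
theorem four_action (hX : IsPGroup 2 X) {φ : A} (T : Three D φ) {W : Type*} [Group W] [Finite W]
    (h4 : Nat.card W = 4) (hexp : ∀ v : W, v * v = 1) (s : A →* MulAut W) (hs : s φ ≠ 1) :
    (∀ t : Subgroup.normalizer (P : Set X), (t : X) ∈ P → s (D.cj t) = 1) ∧
      ∀ t : Subgroup.normalizer (P : Set X), (t : X) ∉ P → s (D.cj t) ≠ 1 := by
  haveI : Fact (Nat.Prime 2) := ⟨Nat.prime_two⟩
  have hs3 : s φ ^ 3 = 1 := by rw [← map_pow, T.cube, map_one]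
  have hker : IsPGroup 2 (D.act.ker.map s) := by
    refine IsPGroup.map ?_ _
    intro k
    obtain ⟨w, hw⟩ := (D.act_eq_one_iff hX k).1 k.2
    obtain ⟨n, hn⟩ := hX.to_subgroup P w
    refine ⟨n, Subtype.ext (Subtype.ext ?_)⟩
    simp only [SubmonoidClass.coe_pow, OneMemClass.coe_one]
    rw [← hw, ← map_pow, hn, map_one]
  obtain ⟨w, hw, hw1⟩ := hker.exists_fixed_point_of_prime_dvd_card_of_fixed_point W
    (h4 ▸ dvd_pow_self 2 two_ne_zero : 2 ∣ Nat.card W) (a := 1) (fun q => map_one (q.1))
  let U : Subgroup W :=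
    { carrier := {v | ∀ k ∈ D.act.ker, s k v = v}
      one_mem' := fun k _ => map_one _
      mul_mem' := fun {a b} ha hb k hk => by rw [map_mul, ha k hk, hb k hk]
      inv_mem' := fun {a} ha k hk => by rw [map_inv, ha k hk] }
  have hwU : w ∈ U := fun k hk => hw ⟨s k, Subgroup.mem_map.2 ⟨k, hk, rfl⟩⟩
  have hσU : s φ w ∈ U := fun k hk => by
    have hk' : φ⁻¹ * k * φ⁻¹⁻¹ ∈ D.act.ker :=
      (inferInstance : D.act.ker.Normal).conj_mem k hk φ⁻¹
    have h := hwU _ hk'
    rw [inv_inv, map_mul, map_mul, MulAut.mul_apply, MulAut.mul_apply, map_inv] at h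
    have h' := congrArg (s φ) h
    rwa [MulAut.apply_inv_self] at h'
  have htop := (four_eq_top h4 hexp hs3 hs (Ne.symm hw1)).2 U hwU hσU
  have hk1 : ∀ k ∈ D.act.ker, s k = 1 := fun k hk =>
    MulEquiv.ext fun v => (htop ▸ mem_top v : v ∈ U) k hk
  refine ⟨fun t ht => hk1 _ (D.act_cj_of_mem hX ht), fun t ht h1 => hs ?_⟩
  have h3 : (D.cj t * φ * (D.cj t)⁻¹) ^ 3 = 1 := by rw [conj_pow, T.cube, mul_one, mul_inv_cancel]
  obtain ⟨k, hk, e⟩ := exists_inner_conj hX (φ := φ⁻¹) (by rw [inv_pow, T.cube, inv_one]) h3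
    (by rw [map_inv]; exact T.inv_out t ht)
  have e' := congrArg s e
  simp only [map_mul, map_inv, h1, hk1 k hk, one_mul, inv_one, mul_one] at e'
  have h2 : s φ ^ 2 = 1 := by rw [pow_two]; exact eq_inv_iff_mul_eq_one.1 e'
  rw [pow_succ, h2, one_mul] at hs3
  exact hs3

/-- Restriction to an invariant subgroup. -/
def resAut (U : Subgroup P) (hU : ∀ a : A, ∀ u ∈ U, (a : MulAut P) u ∈ U) : A →* MulAut U where
  toFun a :=
    { toFun := fun u => ⟨(a : MulAut P) (u : P), hU a u u.2⟩
      invFun := fun u => ⟨((a⁻¹ : A) : MulAut P) (u : P), hU a⁻¹ u u.2⟩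
      left_inv := fun u => Subtype.ext ((a : MulAut P).symm_apply_apply (u : P))
      right_inv := fun u => Subtype.ext ((a : MulAut P).apply_symm_apply (u : P))
      map_mul' := fun u v => Subtype.ext (map_mul (a : MulAut P) (u : P) (v : P)) }
  map_one' := MulEquiv.ext fun _ => Subtype.ext rfl
  map_mul' _ _ := MulEquiv.ext fun _ => Subtype.ext rfl

/-- The subgroup of commutators with the element of order three. -/
def commThree (φ : A) : Subgroup P := closure {u | ∃ g : P, u = (φ : MulAut P) g * g⁻¹}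

theorem commThree_normal (φ : A) : (commThree φ).Normal := by
  refine ⟨fun u hu v => ?_⟩
  induction hu using Subgroup.closure_induction with
  | mem w hw =>
    obtain ⟨g, rfl⟩ := hw
    obtain ⟨v, rfl⟩ := (φ : MulAut P).surjective v
    have h1 : (φ : MulAut P) (v * g) * (v * g)⁻¹ ∈ commThree φ := subset_closure ⟨_, rfl⟩
    have h2 : (φ : MulAut P) v * v⁻¹ ∈ commThree φ := subset_closure ⟨_, rfl⟩
    have := mul_mem h1 (inv_mem h2)
    rwa [show (φ : MulAut P) (v * g) * (v * g)⁻¹ * ((φ : MulAut P) v * v⁻¹)⁻¹ =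
      (φ : MulAut P) v * ((φ : MulAut P) g * g⁻¹) * ((φ : MulAut P) v)⁻¹ by
        rw [map_mul]; group] at this
  | one => simp
  | mul a b _ _ ha hb =>
    have := mul_mem ha hb
    rwa [conj_mul] at this
  | inv a _ ha =>
    have := inv_mem ha
    rwa [conj_inv] at this

theorem commThree_inv (hX : IsPGroup 2 X) {φ : A} (T : Three D φ) (a : A) :
    ∀ u ∈ commThree φ, (a : MulAut P) u ∈ commThree φ := by
  haveI := commThree_normal φ
  have hin : ∀ k : A, D.act k = 1 → ∀ u ∈ commThree φ, (k : MulAut P) u ∈ commThree φ := by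
    intro k hk u hu
    obtain ⟨w, hw⟩ := (D.act_eq_one_iff hX k).1 hk
    rw [← hw, MulAut.conj_apply]
    exact ‹(commThree φ).Normal›.conj_mem u hu w
  intro u hu
  induction hu using Subgroup.closure_induction with
  | mem w hw =>
    obtain ⟨g, rfl⟩ := hw
    obtain ⟨k, hk, h⟩ := inner_cases hX T a
    set g' : P := (((k⁻¹ * a : A)) : MulAut P) g with hg'
    rcases h with h | h
    · have e : (a : MulAut P) ((φ : MulAut P) g * g⁻¹) =
          (k : MulAut P) ((φ : MulAut P) g' * g'⁻¹) := by
        have h' : a * φ = k * φ * (k⁻¹ * a) := by rw [← mul_assoc, ← h, inv_mul_cancel_right]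
        have := congrArg (fun b : A => (b : MulAut P) g) h'
        simp only [Subgroup.coe_mul, MulAut.mul_apply] at this
        rw [map_mul, map_mul, map_inv, map_inv, this, hg', Subgroup.coe_mul, MulAut.mul_apply,
          Subgroup.coe_inv, MulAut.apply_inv_self]
      rw [e]
      exact hin k hk _ (subset_closure ⟨_, rfl⟩)
    · set g'' : P := ((φ⁻¹ : A) : MulAut P) g' with hg''
      have e : (a : MulAut P) ((φ : MulAut P) g * g⁻¹) =
          (k : MulAut P) (((φ : MulAut P) g'' * g''⁻¹)⁻¹) := by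
        have h' : a * φ = k * φ⁻¹ * (k⁻¹ * a) := by rw [← mul_assoc, ← h, inv_mul_cancel_right]
        have := congrArg (fun b : A => (b : MulAut P) g) h'
        simp only [Subgroup.coe_mul, MulAut.mul_apply] at this
        rw [map_mul, map_inv, this, hg'', Subgroup.coe_inv, MulAut.apply_inv_self, mul_inv_rev,
          inv_inv, map_mul, map_inv, hg', Subgroup.coe_mul, MulAut.mul_apply, Subgroup.coe_inv,
          MulAut.apply_inv_self]
      rw [e]
      exact hin k hk _ (inv_mem (subset_closure ⟨_, rfl⟩))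
  | one => simp
  | mul v w _ _ hv hw => rw [map_mul]; exact mul_mem hv hw
  | inv v _ hv => rw [map_inv]; exact inv_mem hv

/-- The case of an abelian subgroup containing all elements of order at most two of the derived
group. -/
theorem false_of_abelian (H : Hyp x y) (hnc : ¬ IsCyclic (commutator X)) {φ : A} (T : Three D φ)
    {Q : Subgroup P} [Q.Normal] (hQinv : ∀ a : A, ∀ u ∈ Q, (a : MulAut P) u ∈ Q)
    (hQin : ∀ g : P, (φ : MulAut P) g * g⁻¹ ∈ Q) (hQ4 : (frattini Q).index = 4)
    (hφQ : (frattiniAut Q).comp (resAut Q hQinv) φ ≠ 1)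
    (hab : ∀ u v : Q, u * v = v * u)
    (hinv : ∀ u : Q, u ^ 2 = 1 → ((u : P) : X) ∈ omegaDer X)
    (hΩ : ∀ e ∈ omegaDer X, ∃ u : Q, ((u : P) : X) = e) : False := by
  classical
  haveI : Fact (Nat.Prime 2) := ⟨Nat.prime_two⟩
  have hP2 : IsPGroup 2 P := H.hX.to_subgroup P
  have hQ2 : IsPGroup 2 Q := hP2.to_subgroup Q
  set ρ : MulAut Q := resAut Q hQinv φ with hρdef
  have hρ3 : ∀ u : Q, ρ (ρ (ρ u)) = u := fun u => by
    have : ρ ^ 3 = 1 := by rw [hρdef, ← map_pow, T.cube, map_one]
    have := congrArg (fun τ : MulAut Q => τ u) this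
    simpa [pow_succ, MulAut.mul_apply] using this
  -- fixing all involutions forces fixing everything
  obtain ⟨e0, he0, he0'⟩ : ∃ u : Q, u ^ 2 = 1 ∧ ρ u ≠ u := by
    by_contra h
    push Not at h
    refine hφQ ?_
    have : ∀ (k : ℕ) (u : Q), u ^ 2 ^ k = 1 → ρ u = u := by
      intro k
      induction k with
      | zero => intro u hu; rw [pow_zero, pow_one] at hu; rw [hu, map_one]
      | succ k ih =>
        intro u hu
        have hsq : ρ (u ^ 2) = u ^ 2 := ih _ (by rw [← pow_mul, ← pow_succ', hu])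
        obtain ⟨d, hd⟩ : ∃ d, d = ρ u * u⁻¹ := ⟨_, rfl⟩
        have hd2 : d ^ 2 = 1 := by
          rw [hd, (show Commute (ρ u) u⁻¹ from hab _ _).mul_pow, ← map_pow, hsq, inv_pow,
            mul_inv_cancel]
        have hρd := h d hd2
        have e1 : ρ u = d * u := by rw [hd, inv_mul_cancel_right]
        have e3 := hρ3 u
        rw [e1, map_mul, hρd, e1, map_mul, map_mul, hρd, e1] at e3
        have e4 : d ^ 3 = 1 := by
          have : d * (d * (d * u)) = 1 * u := by rw [one_mul]; exact e3
          rw [← mul_assoc, ← mul_assoc] at this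
          rw [pow_succ, pow_two]
          exact mul_right_cancel this
        rw [pow_succ, hd2, one_mul] at e4
        rw [e1, e4, one_mul]
    have hρ1 : ρ = 1 := MulEquiv.ext fun u => by
      obtain ⟨k, hk⟩ := hQ2 u
      exact this k u hk
    rw [MonoidHom.comp_apply, ← hρdef, hρ1, map_one]
  -- the involutions as a subgroup
  let I : Subgroup P := (omegaDer X).subgroupOf P
  have hIQ : ∀ u : I, (u : P) ∈ Q := fun u => by
    obtain ⟨v, hv⟩ := hΩ _ u.2
    rw [← show (v : P) = u from Subtype.ext hv]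
    exact v.2
  have hIinv : ∀ a : A, ∀ u ∈ I, (a : MulAut P) u ∈ I := by
    intro a u hu
    have huQ := hIQ ⟨u, hu⟩
    refine hinv ⟨(a : MulAut P) u, hQinv a u huQ⟩ (Subtype.ext ?_)
    show ((a : MulAut P) u) ^ 2 = 1
    rw [← map_pow, show u ^ 2 = 1 from Subtype.ext (H.mem_omegaDer.1 hu).2, map_one]
  have hΩP : omegaDer X ≤ P := fun e he => by
    obtain ⟨v, hv⟩ := hΩ e he
    rw [← hv]
    exact (v : P).2
  have hI4 : Nat.card I = 4 := by
    rw [Nat.card_congr (Subgroup.subgroupOfEquivOfLe hΩP).toEquiv, (H.card_sqDer_mul hnc).1]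
  have hIexp : ∀ v : I, v * v = 1 := fun v => by
    rw [← pow_two]
    exact Subtype.ext (Subtype.ext (H.mem_omegaDer.1 v.2).2)
  have hsI : resAut I hIinv φ ≠ 1 := fun h => he0' (Subtype.ext (congrArg (fun τ : MulAut I =>
    ((τ ⟨(e0 : P), hinv e0 he0⟩ : I) : P)) h :))
  obtain ⟨hin, hout⟩ := four_action H.hX T hI4 hIexp (resAut I hIinv) hsI
  -- `P` is the centraliser
  set M := centralizer (omegaDer X : Set X) with hM
  have hPM : P ≤ M := fun g hg => by
    rw [hM, mem_centralizer_iff]
    intro e he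
    have h := congrArg (fun τ : MulAut I => (((τ ⟨⟨e, hΩP he⟩, he⟩ : I) : P) : X))
      (hin ⟨g, Subgroup.le_normalizer hg⟩ hg)
    have h' : g * e * g⁻¹ = e := h
    exact (mul_inv_eq_iff_eq_mul.1 h').symm
  have hMP : M ≤ P := by
    by_contra hle
    haveI := H.hX.isNilpotent
    have hlt : P.subgroupOf M < ⊤ := lt_top_iff_ne_top.2 fun h => hle (Subgroup.subgroupOf_eq_top.1 h)
    haveI : Group.IsNilpotent M := (H.hX.to_subgroup M).isNilpotent
    obtain ⟨t, ht, htP⟩ :=
      SetLike.exists_of_lt (Group.normalizerCondition_of_isNilpotent _ hlt)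
    have htN : (t : X) ∈ Subgroup.normalizer (P : Set X) := by
      rw [Subgroup.mem_normalizer_iff] at ht ⊢
      intro v
      constructor
      · intro hv
        exact ((ht ⟨v, hPM hv⟩).1 hv : _)
      · intro hv
        have hvM : v ∈ M := by
          have := M.mul_mem (M.mul_mem (M.inv_mem t.2) (hPM hv)) t.2
          simpa [mul_assoc] using this
        exact (ht ⟨v, hvM⟩).2 hv
    refine hout ⟨t, htN⟩ htP (MulEquiv.ext fun u => Subtype.ext (Subtype.ext ?_))
    show (t : X) * (u : P) * (t : X)⁻¹ = ((u : P) : X)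
    rw [← (mem_centralizer_iff.1 t.2 ((u : P) : X) u.2), mul_inv_cancel_right]
  have hΦP : frattini X ≤ P := fun f hf => hMP (by
    rw [hM, mem_centralizer_iff]
    exact fun e he => (H.frattini_comm_omegaDer hnc hf he).symm)
  obtain ⟨t, ht, htφ⟩ := exists_out_inverting H.hX T
  -- a fixed point outside
  have hsplit : ∀ g : P, ∃ q ∈ Q, (φ : MulAut P) (q * g) = q * g := by
    intro g
    have hmem : ∀ q : Q, (φ : MulAut P) ((q : P) * g) * g⁻¹ ∈ Q := fun q => by
      rw [map_mul, mul_assoc]
      exact mul_mem (hQinv φ q q.2) (hQin g)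
    have hc3 : ∀ v : P, (φ : MulAut P) ((φ : MulAut P) ((φ : MulAut P) v)) = v := fun v => by
      have h := congrArg (fun b : A => (b : MulAut P) v) T.cube
      simpa [pow_succ, MulAut.mul_apply] using h
    obtain ⟨q, hq⟩ := exists_fixed_of_three (fun q : Q => (⟨_, hmem q⟩ : Q))
      (fun q => Subtype.ext (by
        show (φ : MulAut P) ((φ : MulAut P) ((φ : MulAut P) ((q : P) * g) * g⁻¹ * g) * g⁻¹ * g) * g⁻¹
          = q
        simp only [inv_mul_cancel_right]
        rw [hc3, mul_inv_cancel_right]))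
      (IsPGroup.iff_card.1 hQ2)
    refine ⟨q, q.2, ?_⟩
    exact mul_inv_eq_iff_eq_mul.1 (congrArg Subtype.val hq)
  have hfix1 : ∀ v : P, (φ : MulAut P) v = v → (v : X) ∈ frattini X → v = 1 := by
    intro v hv hvΦ
    by_contra hne
    obtain ⟨k, hk⟩ : ∃ k, orderOf v = 2 ^ (k + 1) := by
      obtain ⟨k, hk⟩ := IsPGroup.iff_orderOf.1 hP2 v
      rcases k with _ | k
      · exact absurd (orderOf_eq_one_iff.1 (by simpa using hk)) hne
      · exact ⟨k, hk⟩
    set i := v ^ 2 ^ k
    have hio : orderOf i = 2 := by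
      rw [orderOf_pow_of_dvd (pow_ne_zero _ two_ne_zero) (hk ▸ pow_dvd_pow 2 (Nat.le_succ _)), hk,
        pow_succ, Nat.mul_div_cancel_left _ (pow_pos two_pos _)]
    have hiΩ : (i : X) ∈ omegaDer X := H.involution_mem_omegaDer hnc
      (by rw [SubmonoidClass.coe_pow]; exact pow_mem hvΦ _)
      (by rw [← SubmonoidClass.coe_pow, ← hio, pow_orderOf_eq_one]; rfl)
    have hi1 : (⟨i, hiΩ⟩ : I) ≠ 1 := fun h => by
      have : i = 1 := congrArg Subtype.val h
      rw [this, orderOf_one] at hio
      omega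
    refine (four_eq_top hI4 hIexp ?_ hsI hi1).1 (Subtype.ext ?_)
    · rw [← map_pow, T.cube, map_one]
    · show (φ : MulAut P) i = i
      rw [map_pow, hv]
  by_cases hw : ∃ w : P, (φ : MulAut P) w = w ∧ w ≠ 1
  · obtain ⟨w, hwf, hw1⟩ := hw
    have hwΦ : (w : X) ∉ frattini X := fun h => hw1 (hfix1 w hwf h)
    set w' : P := ((D.cj t : A) : MulAut P) w with hw'
    have hw'f : (φ : MulAut P) w' = w' := by
      have h : φ * D.cj t = D.cj t * φ⁻¹ := by
        have e : D.cj t * φ⁻¹ * (D.cj t)⁻¹ = φ := by rw [← conj_inv, htφ, inv_inv]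
        conv_lhs => rw [← e]
        group
      have h2 := congrArg (fun b : A => (b : MulAut P) w) h
      simp only [Subgroup.coe_mul, MulAut.mul_apply, Subgroup.coe_inv] at h2
      rw [hw', h2]
      congr 1
      conv_lhs => rw [← hwf]
      exact MulAut.inv_apply_self _ _ _
    have hw'1 : w' ≠ 1 := fun h =>
      hw1 (((D.cj t : A) : MulAut P).injective (h.trans (map_one _).symm))
    have hw'Φ : (w' : X) ∉ frattini X := fun h => hw'1 (hfix1 w' hw'f h)
    have hww : w' = w := by
      have h1 : (φ : MulAut P) (w⁻¹ * w') = w⁻¹ * w' := by rw [map_mul, map_inv, hwf, hw'f]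
      have h2 := hfix1 _ h1 (H.inv_mul_mem_of_ne_top D.ne_top w.2 w'.2 hwΦ hw'Φ)
      exact (inv_mul_eq_one.1 h2).symm
    have hcomm : (w : X) * t = t * w := by
      have h : (t : X) * w * (t : X)⁻¹ = w := congrArg Subtype.val hww
      exact (mul_inv_eq_iff_eq_mul.1 h).symm
    have h := H.inv_mul_mem_of_commute hwΦ (fun h => ht (hΦP h)) hcomm
    exact ht (by simpa using P.mul_mem w.2 (hΦP h))
  · push Not at hw
    -- `P` is abelian, and the derived group cyclic
    have hPQ : ∀ g : P, g ∈ Q := fun g => by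
      obtain ⟨q, hq, hfix⟩ := hsplit g
      rw [eq_inv_of_mul_eq_one_right (hw _ hfix)]
      exact inv_mem hq
    let iQ : Q →* X := P.subtype.comp Q.subtype
    obtain ⟨hinQ, houtQ⟩ := four_action H.hX T (W := Q ⧸ frattini Q)
      (by rw [← Subgroup.index_eq_card, hQ4]) (fun v => by rw [← pow_two]; exact quot_pow hQ2 v)
      ((frattiniAut Q).comp (resAut Q hQinv)) hφQ
    obtain ⟨x0, hx0⟩ : ∃ x0 : Q,
        (frattiniAut Q).comp (resAut Q hQinv) (D.cj t) (x0 : Q ⧸ frattini Q) ≠ x0 := by
      by_contra h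
      push Not at h
      refine houtQ t ht (MulEquiv.ext fun q => ?_)
      obtain ⟨q, rfl⟩ := QuotientGroup.mk'_surjective _ q
      exact h q
    rw [MonoidHom.comp_apply, frattiniAut_apply] at hx0
    set y0 : Q := resAut Q hQinv (D.cj t) x0 with hy0
    have hy0X : ((y0 : P) : X) = t * ((x0 : P) : X) * (t : X)⁻¹ := rfl
    have hgenQ : closure ({x0, y0} : Set Q) = ⊤ := by
      refine CfsgLib.PGroups.closure_eq_top_of_sup_frattini (top_le_iff.1 fun q _ => ?_)
      have hexp : ∀ v : Q ⧸ frattini Q, v * v = 1 := fun v => by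
        rw [← pow_two]; exact quot_pow hQ2 v
      have hx01 : (x0 : Q ⧸ frattini Q) ≠ 1 := fun h => hx0 (by
        rw [h]
        refine (QuotientGroup.eq_one_iff _).2 ?_
        exact (Subgroup.characteristic_iff_map_eq.1
          (inferInstance : (frattini Q).Characteristic) (resAut Q hQinv (D.cj t))).le
          ⟨x0, (QuotientGroup.eq_one_iff _).1 h, rfl⟩)
      have hy01 : (y0 : Q ⧸ frattini Q) ≠ 1 := fun h => hx01 (by
        refine (QuotientGroup.eq_one_iff _).2 ?_
        obtain ⟨r, hr, hry⟩ := (Subgroup.characteristic_iff_map_eq.1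
          (inferInstance : (frattini Q).Characteristic) (resAut Q hQinv (D.cj t))).ge
          ((QuotientGroup.eq_one_iff _).1 h)
        rwa [← (resAut Q hQinv (D.cj t)).injective hry])
      rcases four_cases (H := (⊤ : Subgroup (Q ⧸ frattini Q)))
        (by rw [Subgroup.card_top, ← Subgroup.index_eq_card, hQ4]) (mem_top (x0 : Q ⧸ frattini Q))
        (mem_top (y0 : Q ⧸ frattini Q)) hx01 hy01 hx0
        (fun e => hx0 (mul_right_cancel (e.trans (hexp _).symm))) (q : Q ⧸ frattini Q) (mem_top _)
        with h | h | h | h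
      · exact mem_sup_right ((QuotientGroup.eq_one_iff q).1 h)
      · rw [← mul_inv_cancel_left x0 q]
        exact mul_mem (mem_sup_left (subset_closure (by simp))) (mem_sup_right (QuotientGroup.eq.1 h.symm))
      · rw [← mul_inv_cancel_left y0 q]
        exact mul_mem (mem_sup_left (subset_closure (by simp))) (mem_sup_right (QuotientGroup.eq.1 h.symm))
      · rw [← QuotientGroup.mk_mul] at h
        rw [← mul_inv_cancel_left (y0 * x0) q]
        exact mul_mem (mem_sup_left (mul_mem (subset_closure (by simp)) (subset_closure (by simp))))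
          (mem_sup_right (QuotientGroup.eq.1 h.symm))
    set X0 : X := ((x0 : P) : X) with hX0
    set c : X := (t : X) * X0 * (t : X)⁻¹ * X0⁻¹ with hc
    have hcomP : ∀ u v : P, (u : X) * v = v * u := fun u v =>
      congrArg (fun r : Q => (((r : P)) : X)) (hab ⟨u, hPQ u⟩ ⟨v, hPQ v⟩)
    -- the square of `t` lies in `P`
    have ht2 : (t : X) ^ 2 ∈ P := hΦP (CfsgLib.PGroups.pow_mem_frattini H.hX _)
    have htP : P ≤ closure ({X0, (t : X)} : Set X) := by
      intro g hg
      have hle : (closure ({x0, y0} : Set Q)).map iQ ≤ closure ({X0, (t : X)} : Set X) := by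
        rw [MonoidHom.map_closure, closure_le]
        rintro _ ⟨v, (rfl | rfl), rfl⟩
        · exact subset_closure (Or.inl rfl)
        · rw [SetLike.mem_coe, show iQ y0 = t * X0 * (t : X)⁻¹ from hy0X]
          exact mul_mem (mul_mem (subset_closure (by simp)) (subset_closure (by simp)))
            (inv_mem (subset_closure (by simp)))
      exact hle ⟨⟨⟨g, hg⟩, hPQ _⟩, hgenQ ▸ mem_top _, rfl⟩
    have hgen : closure ({X0, (t : X)} : Set X) = ⊤ := by
      refine eq_top_iff.2 fun g _ => ?_
      by_cases hg : g ∈ P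
      · exact htP hg
      have htmem : (t : X) ∈ closure ({X0, (t : X)} : Set X) := subset_closure (by simp)
      have : (t : X)⁻¹ * g ∈ P := hMP (by
        rw [hM, mem_centralizer_iff]
        intro e he
        have hne : omegaDer X ≠ ⊥ := fun h => by
          have := (H.card_sqDer_mul hnc).1
          rw [h, Subgroup.card_bot] at this
          omega
        obtain ⟨z, -, hz, hz1, hzc⟩ := H.exists_central_involution H.omegaDer_le hne
        have hz2 : z * z = 1 := by rw [← pow_two]; exact (H.mem_omegaDer.1 hz).2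
        have hact : ∀ g ∉ P, ∀ e ∈ omegaDer X, e ≠ 1 → e ≠ z → g * e * g⁻¹ = e * z := by
          intro g hg e he he1 hez
          refine (H.conj_omegaDer hnc hz hz1 hzc g he).resolve_left fun h => hg (hMP ?_)
          rw [hM, mem_centralizer_iff]
          intro u hu
          have hcg : g * e = e * g := mul_inv_eq_iff_eq_mul.1 h
          have hzg : g * z = z * g := mem_center_iff.1 hzc g
          rcases H.omegaDer_cases hnc hz he hz1 he1 hez u hu with r | r | r | r <;> rw [r]
          · simp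
          · exact hzg.symm
          · exact hcg.symm
          · rw [← mul_assoc, hcg, mul_assoc e g, hzg, mul_assoc]
        rcases eq_or_ne e 1 with rfl | he1
        · simp
        rcases eq_or_ne e z with rfl | hez
        · exact (mem_center_iff.1 hzc _).symm
        have h1 := hact g hg e he he1 hez
        have h2 := hact t ht e he he1 hez
        have h3 : (t : X)⁻¹ * g * e * ((t : X)⁻¹ * g)⁻¹ = e := by
          calc (t : X)⁻¹ * g * e * ((t : X)⁻¹ * g)⁻¹ = (t : X)⁻¹ * (g * e * g⁻¹) * t := by group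
            _ = (t : X)⁻¹ * ((t : X) * e * (t : X)⁻¹) * t := by rw [h1, h2]
            _ = e := by group
        exact (mul_inv_eq_iff_eq_mul.1 h3).symm)
      have h := mul_mem htmem (htP this)
      rwa [mul_inv_cancel_left] at h
    have hcP : c ∈ P := P.mul_mem ((Subgroup.mem_normalizer_iff.1 t.2 _).1 (x0 : P).2)
      (P.inv_mem (x0 : P).2)
    have htc : (t : X) * c * (t : X)⁻¹ = c⁻¹ := by
      calc (t : X) * c * (t : X)⁻¹
          = ((t : X) ^ 2 * X0 * ((t : X) ^ 2)⁻¹) * ((t : X) * X0 * (t : X)⁻¹)⁻¹ := by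
            rw [hc, pow_two]; group
        _ = X0 * ((t : X) * X0 * (t : X)⁻¹)⁻¹ := by
            rw [hcomP ⟨_, ht2⟩ (x0 : P), mul_inv_cancel_right]
        _ = c⁻¹ := by rw [hc]; group
    haveI : (zpowers c).Normal := ⟨fun u hu g => by
      obtain ⟨i, rfl⟩ := mem_zpowers_iff.1 hu
      rw [← conj_zpow]
      refine zpow_mem ?_ i
      have hg : g ∈ Submonoid.closure ({X0, (t : X)} : Set X) := by
        rw [← Subgroup.closure_toSubmonoid_of_finite, mem_toSubmonoid, hgen]; exact mem_top g
      clear hu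
      induction hg using Submonoid.closure_induction with
      | mem w hw =>
        rcases hw with hw | hw <;> rw [hw]
        · rw [hcomP (x0 : P) ⟨c, hcP⟩, mul_inv_cancel_right]; exact mem_zpowers _
        · rw [htc]; exact inv_mem (mem_zpowers _)
      | one => simp
      | mul v w _ _ hv hw =>
        obtain ⟨k, hk⟩ := mem_zpowers_iff.1 hw
        rw [show v * w * c * (v * w)⁻¹ = (v * c * v⁻¹) ^ k by rw [conj_zpow, hk]; group]
        exact zpow_mem hv k⟩
    have hle : commutator X ≤ zpowers c := commutator_le_of_pair hgen (by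
      rw [show X0 * (t : X) * X0⁻¹ * (t : X)⁻¹ = c⁻¹ by rw [hc]; group]
      exact inv_mem (mem_zpowers c))
    exact hnc (isCyclic_of_injective (Subgroup.inclusion hle) (Subgroup.inclusion_injective hle))

/-- The remaining case: the squares of the subgroup lie among the elements of order at most two. -/
theorem false_of_small (H : Hyp x y) (hnc : ¬ IsCyclic (commutator X)) {φ : A} (T : Three D φ)
    {Q : Subgroup P} [Q.Normal] (hQinv : ∀ a : A, ∀ u ∈ Q, (a : MulAut P) u ∈ Q)
    (hQ4 : (frattini Q).index = 4) (hφQ : (frattiniAut Q).comp (resAut Q hQinv) φ ≠ 1)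
    (z : Q) (hz : ((z : P) : X) ∈ omegaDer X)
    (hsq : ∀ q : Q, q ∉ frattini Q → q ^ 2 = z) (hfr : ∀ f ∈ frattini Q, f = 1 ∨ f = z)
    (hzc : ∀ q : Q, q * z = z * q)
    (hcomm : ∀ u v : Q, u ∉ frattini Q → v ∉ frattini Q → u⁻¹ * v ∉ frattini Q →
      u * v * u⁻¹ = v * z)
    (hnot : ¬ ∀ e ∈ omegaDer X, ∃ u : Q, ((u : P) : X) = e)
    (hout' : ∃ q : Q, ((q : P) : X) ∉ frattini X) : False := by
  classical
  haveI : Fact (Nat.Prime 2) := ⟨Nat.prime_two⟩
  have hP2 : IsPGroup 2 P := H.hX.to_subgroup P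
  have hQ2 : IsPGroup 2 Q := hP2.to_subgroup Q
  let iQ : Q →* X := P.subtype.comp Q.subtype
  have hexp : ∀ v : Q ⧸ frattini Q, v * v = 1 := fun v => by rw [← pow_two]; exact quot_pow hQ2 v
  have hcard : Nat.card (Q ⧸ frattini Q) = 4 := by rw [← Subgroup.index_eq_card, hQ4]
  obtain ⟨hin, hout⟩ := four_action H.hX T hcard hexp ((frattiniAut Q).comp (resAut Q hQinv)) hφQ
  have hΦQ : ∀ f : Q, f ∈ frattini Q → iQ f ∈ frattini X := fun f hf => by
    rcases hfr f hf with rfl | rfl
    · rw [map_one]; exact one_mem _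
    · exact H.derived_le_frattini (H.omegaDer_le hz)
  -- generators
  obtain ⟨qx, hqx⟩ := hout'
  set b := iQ qx with hbdef
  have hqx1 : qx ∉ frattini Q := fun h => hqx (hΦQ qx h)
  obtain ⟨qh, hqh, hqh1⟩ : ∃ qh : Q, iQ qh ∈ frattini X ∧ qh ∉ frattini Q := by
    by_contra h
    push Not at h
    have hle : Nat.card (Q ⧸ frattini Q) ≤ Nat.card (Fin 2) := by
      refine Nat.card_le_card_of_surjective (![1, (qx : Q ⧸ frattini Q)] : Fin 2 → _) fun q => ?_
      obtain ⟨q, rfl⟩ := QuotientGroup.mk'_surjective _ q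
      by_cases hq : iQ q ∈ frattini X
      · exact ⟨0, ((QuotientGroup.eq_one_iff q).2 (h q hq)).symm⟩
      · refine ⟨1, ?_⟩
        show (qx : Q ⧸ frattini Q) = (q : Q ⧸ frattini Q)
        refine QuotientGroup.eq.2 (h _ ?_)
        rw [map_mul, map_inv]
        exact H.inv_mul_mem_of_ne_top D.ne_top (qx : P).2 (q : P).2 hqx hq
    rw [hcard, Nat.card_fin] at hle
    omega
  have hxh : qx⁻¹ * qh ∉ frattini Q := fun h => hqx (by
    have := mul_mem hqh (inv_mem (hΦQ _ h))
    rw [← map_inv, ← map_mul] at this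
    rwa [show qh * (qx⁻¹ * qh)⁻¹ = qx by group] at this)
  set h := iQ qh with hhdef
  have hclass : ∀ q : Q, (q : Q ⧸ frattini Q) = 1 ∨ (q : Q ⧸ frattini Q) = qx ∨
      (q : Q ⧸ frattini Q) = qh ∨ (q : Q ⧸ frattini Q) = (qh : Q ⧸ frattini Q) * qx := by
    intro q
    refine four_cases (H := (⊤ : Subgroup (Q ⧸ frattini Q))) (by rw [Subgroup.card_top, hcard])
      (mem_top _) (mem_top _) (fun e => hqx1 ((QuotientGroup.eq_one_iff _).1 e))
      (fun e => hqh1 ((QuotientGroup.eq_one_iff _).1 e)) (fun e => hxh (QuotientGroup.eq.1 e.symm))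
      (fun e => ?_) _ (mem_top _)
    exact hxh (QuotientGroup.eq.1 (mul_right_cancel (e.trans (hexp (qx : Q ⧸ frattini Q)).symm)).symm)
  have hgenQ : closure ({qx, qh} : Set Q) = ⊤ := by
    refine CfsgLib.PGroups.closure_eq_top_of_sup_frattini (top_le_iff.1 fun q _ => ?_)
    have hW : ∀ r : Q, r ∈ closure ({qx, qh} : Set Q) → (q : Q ⧸ frattini Q) = r →
        q ∈ closure ({qx, qh} : Set Q) ⊔ frattini Q := fun r hr e => by
      rw [← mul_inv_cancel_left r q]
      exact mul_mem (mem_sup_left hr) (mem_sup_right (QuotientGroup.eq.1 e.symm))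
    rcases hclass q with e | e | e | e
    · exact hW 1 (one_mem _) (e.trans (QuotientGroup.mk_one _).symm)
    · exact hW qx (subset_closure (by simp)) e
    · exact hW qh (subset_closure (by simp)) e
    · exact hW (qh * qx) (mul_mem (subset_closure (by simp)) (subset_closure (by simp)))
        (e.trans (QuotientGroup.mk_mul _ _ _).symm)
  have hb2 : b ^ 2 = ((z : P) : X) := by
    rw [hbdef, ← map_pow, hsq qx hqx1]; rfl
  have hh2 : h ^ 2 = ((z : P) : X) := by
    rw [hhdef, ← map_pow, hsq qh hqh1]; rfl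
  have hzC : ((z : P) : X) ∈ commutator X := H.omegaDer_le hz
  have hb2K : b ^ 2 ∈ kSub X := H.sq_mem_of_notMem hqx (hb2 ▸ hzC)
  -- `h` lies in the derived group
  obtain ⟨t, ht⟩ := D.exists_notMem H.hX
  have hhC : h ∈ commutator X := by
    set τ := resAut Q hQinv (D.cj t) with hτ
    have hτX : ∀ q : Q, iQ (τ q) = t * iQ q * (t : X)⁻¹ := fun q => rfl
    have hτh : (τ qh : Q ⧸ frattini Q) = qh := by
      have hm : iQ (τ qh) ∈ frattini X := by
        rw [hτX]; exact (inferInstance : (frattini X).Normal).conj_mem _ hqh t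
      have h1 : (τ qh : Q ⧸ frattini Q) ≠ 1 := fun e => hqh1 (by
        obtain ⟨r, hr, hrr⟩ := (Subgroup.characteristic_iff_map_eq.1
          (inferInstance : (frattini Q).Characteristic) τ).ge ((QuotientGroup.eq_one_iff _).1 e)
        rwa [← τ.injective hrr])
      rcases hclass (τ qh) with e | e | e | e
      · exact absurd e h1
      · refine absurd ?_ hqx
        have := mul_mem hm (hΦQ _ (QuotientGroup.eq.1 e))
        rwa [← map_mul, mul_inv_cancel_left] at this
      · exact e
      · refine absurd ?_ hqx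
        rw [← QuotientGroup.mk_mul] at e
        have := mul_mem (inv_mem hqh) (mul_mem hm (hΦQ _ (QuotientGroup.eq.1 e)))
        rwa [← map_mul, ← map_inv, ← map_mul, mul_inv_cancel_left, inv_mul_cancel_left] at this
    have hτx : (τ qx : Q ⧸ frattini Q) = (qh : Q ⧸ frattini Q) * qx := by
      rcases hclass (τ qx) with e | e | e | e
      · refine absurd ?_ hqx1
        obtain ⟨r, hr, hrr⟩ := (Subgroup.characteristic_iff_map_eq.1
          (inferInstance : (frattini Q).Characteristic) τ).ge ((QuotientGroup.eq_one_iff _).1 e)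
        rwa [← τ.injective hrr]
      · refine absurd (MulEquiv.ext fun v => ?_) (hout t ht)
        obtain ⟨v, rfl⟩ := QuotientGroup.mk'_surjective _ v
        rw [MonoidHom.comp_apply, MulAut.one_apply, QuotientGroup.mk'_apply, frattiniAut_apply,
          ← hτ]
        rcases hclass v with r | r | r | r
        · rw [r]
          refine (QuotientGroup.eq_one_iff _).2 ?_
          exact (Subgroup.characteristic_iff_map_eq.1
            (inferInstance : (frattini Q).Characteristic) τ).le
            ⟨v, (QuotientGroup.eq_one_iff _).1 r, rfl⟩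
        · have := congrArg (frattiniAut Q τ) r
          rw [frattiniAut_apply, frattiniAut_apply, e] at this
          rw [this, r]
        · have := congrArg (frattiniAut Q τ) r
          rw [frattiniAut_apply, frattiniAut_apply, hτh] at this
          rw [this, r]
        · have := congrArg (frattiniAut Q τ) r
          rw [frattiniAut_apply, map_mul, frattiniAut_apply, frattiniAut_apply, hτh, e] at this
          rw [this, r]
      · refine absurd ?_ hxh
        have := (frattiniAut Q τ).injective (a₁ := (qx : Q ⧸ frattini Q)) (a₂ := qh)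
          (by rw [frattiniAut_apply, frattiniAut_apply, e, hτh])
        exact QuotientGroup.eq.1 this
      · exact e
    rw [← QuotientGroup.mk_mul] at hτx
    obtain ⟨f, hf, hfe⟩ : ∃ f ∈ frattini Q, τ qx = qh * qx * f :=
      ⟨_, QuotientGroup.eq.1 hτx.symm, (mul_inv_cancel_left _ _).symm⟩
    have hfC : iQ f ∈ commutator X := by
      rcases hfr f hf with rfl | rfl
      · rw [map_one]; exact one_mem _
      · exact hzC
    have e1 : (t : X) * b * (t : X)⁻¹ = h * b * iQ f := by
      rw [hbdef, ← hτX, hfe, map_mul, map_mul]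
    have hC : (t : X) * b * (t : X)⁻¹ * b⁻¹ ∈ commutator X := comm_mem _ _
    rw [e1] at hC
    have := mul_mem hC ((inferInstance : (commutator X).Normal).conj_mem _ (inv_mem hfC) b)
    rwa [show h * b * iQ f * b⁻¹ * (b * (iQ f)⁻¹ * b⁻¹) = h by group] at this
  have hzS : b ^ 2 = 1 ∨ b ^ 2 ∈ sqDer X :=
    Or.inr (H.mem_sqDer.2 ⟨h, hhC, by rw [hb2, hh2]⟩)
  -- a second generator
  obtain ⟨a, hgen⟩ : ∃ a, closure ({a, b} : Set X) = ⊤ := by
    obtain ⟨hx, hy, -⟩ := frattini_pair H.hX H.hb H.hm
    by_cases hbx : x⁻¹ * b ∈ frattini X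
    · refine ⟨y, H.gen_of_notMem hy hqx fun hyb => (frattini_pair H.hX H.hb H.hm).2.2 ?_⟩
      have h1 := mul_mem hbx (inv_mem hyb)
      have h1' : x⁻¹ * y ∈ frattini X := by
        rwa [show x⁻¹ * b * (y⁻¹ * b)⁻¹ = x⁻¹ * y by group] at h1
      have h2 := mul_mem (CfsgLib.PGroups.pow_mem_frattini H.hX x) h1'
      rwa [pow_two, mul_assoc, mul_inv_cancel_left] at h2
    · exact ⟨x, H.gen_of_notMem hx hqx hbx⟩
  obtain ⟨hbΩ, hcov⟩ := H.cover hnc hgen (hb2 ▸ hz) hb2K hzS
  obtain ⟨e, he, heQ⟩ : ∃ e ∈ omegaDer X, ∀ u : Q, iQ u ≠ e := by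
    by_contra h
    push Not at h
    exact hnot h
  obtain ⟨g, hgb, hgz⟩ := hcov e he
  -- the centraliser of `Q`
  set C := centralizer (Set.range iQ) with hCdef
  have hC : ∀ c, c ∈ C ↔ ∀ q : Q, iQ q * c = c * iQ q := fun c => by
    rw [hCdef, mem_centralizer_iff]
    exact ⟨fun hc q => hc _ ⟨q, rfl⟩, by rintro hc _ ⟨q, rfl⟩; exact hc q⟩
  have hQN : ∀ n : Subgroup.normalizer (P : Set X), ∀ q : Q,
      ∃ q' : Q, iQ q' = n * iQ q * (n : X)⁻¹ := fun n q =>
    ⟨resAut Q hQinv (D.cj n) q, rfl⟩
  have hCP : C ≤ P := by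
    intro c hc
    by_contra hcP
    set P' := P ⊔ C with hP'
    have hlt : P.subgroupOf P' < ⊤ := lt_top_iff_ne_top.2 fun h =>
      hcP (Subgroup.subgroupOf_eq_top.1 h ((le_sup_right : C ≤ P') hc))
    haveI : Group.IsNilpotent P' := (H.hX.to_subgroup P').isNilpotent
    obtain ⟨w, hw, hwP⟩ :=
      SetLike.exists_of_lt (Group.normalizerCondition_of_isNilpotent _ hlt)
    have hwN : (w : X) ∈ Subgroup.normalizer (P : Set X) := by
      rw [Subgroup.mem_normalizer_iff] at hw ⊢
      intro v
      constructor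
      · intro hv
        exact ((hw ⟨v, le_sup_left (b := C) hv⟩).1 hv : _)
      · intro hv
        have hvM : v ∈ P' := by
          have := P'.mul_mem (P'.mul_mem (P'.inv_mem w.2) ((le_sup_left : P ≤ P') hv)) w.2
          simpa [mul_assoc] using this
        exact (hw ⟨v, hvM⟩).2 hv
    have hPC : P ≤ Subgroup.normalizer (C : Set X) := by
      have hfwd : ∀ p ∈ P, ∀ c ∈ C, p * c * p⁻¹ ∈ C := by
        intro p hp c hc
        rw [hC] at hc ⊢
        intro q
        obtain ⟨q', hq'⟩ := hQN ⟨p⁻¹, Subgroup.le_normalizer (P.inv_mem hp)⟩ q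
        rw [inv_inv] at hq'
        have := hc q'
        rw [hq'] at this
        calc iQ q * (p * c * p⁻¹) = p * (p⁻¹ * iQ q * p * c) * p⁻¹ := by group
          _ = p * c * p⁻¹ * iQ q := by rw [this]; group
      intro p hp
      rw [Subgroup.mem_normalizer_iff]
      intro c
      refine ⟨hfwd p hp c, fun hc => ?_⟩
      have := hfwd p⁻¹ (P.inv_mem hp) _ hc
      simpa [mul_assoc] using this
    have hw' : (w : X) ∈ ((P ⊔ C : Subgroup X) : Set X) := w.2
    rw [Subgroup.coe_mul_of_left_le_normalizer_right P C hPC] at hw'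
    obtain ⟨p, hp, d, hd, hpd⟩ := hw'
    have hpd' : p * d = w := hpd
    have hdN : d ∈ Subgroup.normalizer (P : Set X) := by
      have := mul_mem (inv_mem (Subgroup.le_normalizer (H := P) hp)) hwN
      rwa [← hpd', inv_mul_cancel_left] at this
    have hdP : d ∉ P := fun h => hwP (show (w : X) ∈ P from hpd' ▸ P.mul_mem hp h)
    refine hout ⟨d, hdN⟩ hdP (MulEquiv.ext fun v => ?_)
    obtain ⟨v, rfl⟩ := QuotientGroup.mk'_surjective _ v
    rw [MonoidHom.comp_apply, MulAut.one_apply, QuotientGroup.mk'_apply, frattiniAut_apply]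
    congr 1
    refine Subtype.ext (Subtype.ext ?_)
    show d * iQ v * d⁻¹ = iQ v
    rw [← (hC d).1 hd v, mul_inv_cancel_right]
  have hPQC : ∀ p ∈ P, ∃ q : Q, (iQ q)⁻¹ * p ∈ C := by
    intro p hp
    set β := resAut Q hQinv (D.cj ⟨p, Subgroup.le_normalizer hp⟩) with hβ
    have hβX : ∀ q : Q, iQ (β q) = p * iQ q * p⁻¹ := fun q => rfl
    have hclose : ∀ q : Q, q⁻¹ * β q ∈ frattini Q := fun q => by
      refine QuotientGroup.eq.1 ?_
      have := congrArg (fun τ : MulAut (Q ⧸ frattini Q) => τ (q : Q ⧸ frattini Q))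
        (hin ⟨p, Subgroup.le_normalizer hp⟩ hp)
      simp only [MonoidHom.comp_apply, frattiniAut_apply, MulAut.one_apply, ← hβ] at this
      exact this.symm
    have hf : ∀ q : Q, β q = q ∨ β q = q * z := fun q => by
      rcases hfr _ (hclose q) with r | r
      · exact Or.inl (inv_mul_eq_one.1 r).symm
      · exact Or.inr (inv_mul_eq_iff_eq_mul.1 r)
    have hxhz : qx * qh * qx⁻¹ = qh * z := hcomm qx qh hqx1 hqh1 hxh
    have hhxz : qh * qx * qh⁻¹ = qx * z := hcomm qh qx hqh1 hqx1 fun e => hxh (by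
      have := inv_mem e
      rwa [mul_inv_rev, inv_inv] at this)
    obtain ⟨q, hqxq, hqhq⟩ : ∃ q : Q, q * qx * q⁻¹ = β qx ∧ q * qh * q⁻¹ = β qh := by
      rcases hf qx with e1 | e1 <;> rcases hf qh with e2 | e2 <;> rw [e1, e2]
      · exact ⟨1, by group, by group⟩
      · exact ⟨qx, by group, hxhz⟩
      · exact ⟨qh, hhxz, by group⟩
      · refine ⟨qx * qh, ?_, ?_⟩
        · rw [show qx * qh * qx * (qx * qh)⁻¹ = qx * (qh * qx * qh⁻¹) * qx⁻¹ by group, hhxz,
            ← mul_assoc, mul_assoc (qx * qx), ← hzc qx⁻¹]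
          group
        · rw [show qx * qh * qh * (qx * qh)⁻¹ = qx * qh * qx⁻¹ by group, hxhz]
    refine ⟨q, (hC _).2 fun u => ?_⟩
    have hu : ∀ u ∈ closure ({qx, qh} : Set Q), β u = q * u * q⁻¹ := by
      intro u hu
      induction hu using Subgroup.closure_induction with
      | mem w hw =>
        rcases hw with hw | hw <;> rw [hw]
        · exact hqxq.symm
        · exact hqhq.symm
      | one => simp
      | mul v w _ _ hv hw => rw [map_mul, hv, hw]; group
      | inv v _ hv => rw [map_inv, hv]; group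
    have e := congrArg iQ (hu u (hgenQ ▸ mem_top u))
    rw [hβX, map_mul, map_mul, map_inv] at e
    calc iQ u * ((iQ q)⁻¹ * p) = (iQ q)⁻¹ * (iQ q * iQ u * (iQ q)⁻¹) * p := by group
      _ = (iQ q)⁻¹ * p * iQ u := by rw [← e]; group
  have hCΩ : ∀ c ∈ C, ∀ d ∈ omegaDer X, c * d = d * c := by
    intro c hc d hd
    by_cases hcΦ : c ∈ frattini X
    · exact H.frattini_comm_omegaDer hnc hcΦ hd
    · have h1 := H.inv_mul_mem_of_commute hqx hcΦ ((hC c).1 hc qx)
      have h2 : Commute (b⁻¹ * c) d := H.frattini_comm_omegaDer hnc h1 hd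
      have h3 := (show Commute b d from hbΩ d hd).mul_left h2
      rwa [mul_inv_cancel_left] at h3
  have hΩC : omegaDer X ≤ C := fun d hd => (hC d).2 fun q => by
    have hle : closure ({qx, qh} : Set Q) ≤ (centralizer ({d} : Set X)).comap iQ := by
      rw [closure_le]
      rintro w (rfl | rfl)
      · show iQ w ∈ centralizer ({d} : Set X)
        rw [mem_centralizer_singleton_iff]; exact hbΩ d hd
      · show iQ w ∈ centralizer ({d} : Set X)
        rw [mem_centralizer_singleton_iff]; exact H.frattini_comm_omegaDer hnc hqh hd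
    exact (mem_centralizer_singleton_iff.1 (hle (hgenQ ▸ mem_top q)))
  have hΩP : omegaDer X ≤ P := hΩC.trans hCP
  -- the image of `Q` under `g`
  let W : Subgroup X :=
    { carrier := {v | ∃ q : Q, ∃ d ∈ omegaDer X, v = iQ q * d}
      one_mem' := ⟨1, 1, one_mem _, by simp⟩
      mul_mem' := by
        rintro _ _ ⟨q, d, hd, rfl⟩ ⟨q', d', hd', rfl⟩
        refine ⟨q * q', d * d', mul_mem hd hd', ?_⟩
        rw [map_mul]
        calc iQ q * d * (iQ q' * d') = iQ q * (d * iQ q') * d' := by group
          _ = iQ q * (iQ q' * d) * d' := by rw [(hC d).1 (hΩC hd) q']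
          _ = _ := by group
      inv_mem' := by
        rintro _ ⟨q, d, hd, rfl⟩
        refine ⟨q⁻¹, d⁻¹, inv_mem hd, ?_⟩
        rw [map_inv, mul_inv_rev]
        exact ((hC _).1 (hΩC (inv_mem hd)) q⁻¹ ▸ by rw [map_inv]) }
  have hhe : h⁻¹ * (g * h * g⁻¹) ∈ omegaDer X := by
    have hgh : g * h * g⁻¹ ∈ commutator X :=
      (inferInstance : (commutator X).Normal).conj_mem h hhC g
    refine H.mem_omegaDer.2 ⟨mul_mem (inv_mem hhC) hgh, ?_⟩
    rw [(show Commute h⁻¹ (g * h * g⁻¹) from derived_comm H.hb (inv_mem hhC) hgh).mul_pow,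
      inv_pow, conj_pow, hh2, ← hb2, hgz, mul_inv_cancel_right, inv_mul_cancel]
  have hgW : ∀ q : Q, g * iQ q * g⁻¹ ∈ W := fun q => by
    have hle : closure ({qx, qh} : Set Q) ≤ W.comap ((MulAut.conj g).toMonoidHom.comp iQ) := by
      rw [closure_le]
      rintro w (rfl | rfl)
      · exact ⟨w, e, he, hgb⟩
      · exact ⟨w, _, hhe, (mul_inv_cancel_left _ _).symm⟩
    exact hle (hgenQ ▸ mem_top q)
  have hWP : W ≤ P := by
    rintro _ ⟨q, d, hd, rfl⟩
    exact P.mul_mem (q : P).2 (hΩP hd)
  have hmap : C ≤ C.map (MulAut.conj g).toMonoidHom := by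
    intro c hc
    refine ⟨g⁻¹ * c * g, (hC _).2 fun q => ?_, by
      show g * (g⁻¹ * c * g) * g⁻¹ = c; group⟩
    obtain ⟨q', d, hd, hqd⟩ := hgW q
    have hcom : c * (g * iQ q * g⁻¹) = (g * iQ q * g⁻¹) * c := by
      rw [hqd, ← mul_assoc, ← (hC c).1 hc q', mul_assoc, hCΩ c hc d hd, mul_assoc]
    calc iQ q * (g⁻¹ * c * g) = g⁻¹ * ((g * iQ q * g⁻¹) * c) * g := by group
      _ = g⁻¹ * (c * (g * iQ q * g⁻¹)) * g := by rw [hcom]
      _ = g⁻¹ * c * g * iQ q := by group
  have hCeq : C.map (MulAut.conj g).toMonoidHom = C :=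
    (Subgroup.eq_of_le_of_card_ge hmap
      (Subgroup.card_map_of_injective (MulAut.conj g).injective).le).symm
  have hgP : P.map (MulAut.conj g).toMonoidHom ≤ P := by
    rintro _ ⟨p, hp, rfl⟩
    obtain ⟨q, hq⟩ := hPQC p hp
    show g * p * g⁻¹ ∈ P
    rw [show g * p * g⁻¹ = g * iQ q * g⁻¹ * (g * ((iQ q)⁻¹ * p) * g⁻¹) by group]
    exact P.mul_mem (hWP (hgW q)) (hCP (hCeq.le ⟨_, hq, rfl⟩))
  have hgN : g ∈ Subgroup.normalizer (P : Set X) := by
    rw [Subgroup.mem_normalizer_iff_map_conj_eq]
    exact Subgroup.eq_of_le_of_card_ge hgP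
      (Subgroup.card_map_of_injective (MulAut.conj g).injective).ge
  obtain ⟨q', hq'⟩ := hQN ⟨g, hgN⟩ qx
  refine heQ (qx⁻¹ * q') ?_
  rw [map_mul, map_inv, hq']
  show b⁻¹ * (g * b * g⁻¹) = e
  rw [hgb, inv_mul_cancel_left]

/-- No centric radical subgroup has an automizer that is not a `2`-group. -/
theorem false_of_autData (D : AutData P A) (H : Hyp x y) (hnc : ¬ IsCyclic (commutator X)) :
    False := by
  classical
  haveI : Fact (Nat.Prime 2) := ⟨Nat.prime_two⟩
  haveI : Fact (Nat.Prime 3) := ⟨Nat.prime_three⟩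
  obtain ⟨φ, h1, h2, h3, h4⟩ := D.exists_order_three H hnc
  have T : Three D φ := ⟨h1, h2, h3, h4⟩
  have hP2 : IsPGroup 2 P := H.hX.to_subgroup P
  set Q := commThree φ with hQdef
  haveI : Q.Normal := commThree_normal φ
  have hQinv : ∀ a : A, ∀ u ∈ Q, (a : MulAut P) u ∈ Q := commThree_inv H.hX T
  have hQin : ∀ g : P, (φ : MulAut P) g * g⁻¹ ∈ Q := fun g => subset_closure ⟨g, rfl⟩
  have hQ2 : IsPGroup 2 Q := hP2.to_subgroup Q
  set ρ : MulAut Q := resAut Q hQinv φ with hρdef
  have hρ3 : ρ ^ 3 = 1 := by rw [hρdef, ← map_pow, T.cube, map_one]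
  have hρ1 : ρ ≠ 1 := by
    intro hρ
    refine T.ne ?_
    have hφ1 : (φ : MulAut P) = 1 := MulEquiv.ext fun g => by
      obtain ⟨q, hq⟩ : ∃ q, q = (φ : MulAut P) g * g⁻¹ := ⟨_, rfl⟩
      have hfix : (φ : MulAut P) q = q :=
        congrArg Subtype.val (DFunLike.congr_fun hρ (⟨q, hq ▸ hQin g⟩ : Q))
      have e1 : (φ : MulAut P) g = q * g := by rw [hq, inv_mul_cancel_right]
      have e3 : (φ : MulAut P) ((φ : MulAut P) ((φ : MulAut P) g)) = g := by
        have h := congrArg (fun b : A => (b : MulAut P) g) T.cube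
        simpa [pow_succ, MulAut.mul_apply] using h
      rw [e1, map_mul, hfix, e1, map_mul, map_mul, hfix, e1, ← mul_assoc, ← mul_assoc] at e3
      obtain ⟨n, hn⟩ := hP2 q
      have hq3 : q ^ 3 = 1 := by
        rw [pow_succ, pow_two]; exact mul_eq_right.1 e3
      have : q = 1 := by
        obtain ⟨m, hm⟩ := exists_pow_eq_self_of_coprime (x := q) (n := 3) (by
          obtain ⟨l, hl⟩ := IsPGroup.iff_orderOf.1 hP2 q
          rw [hl]
          exact Nat.Coprime.pow_right l (by norm_num))
        rw [← hm, hq3, one_pow]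
      rw [e1, this, one_mul]
      rfl
    rw [show φ = 1 from Subtype.ext hφ1, map_one]
  have hstab : IsPGroup 2 (frattiniAut Q).ker := by
    refine isPGroup_frattini_stabilizer hQ2 _ fun e he v => ?_
    have h1 : ((e v : Q) : Q ⧸ frattini Q) = v := by
      rw [← frattiniAut_apply, MonoidHom.mem_ker.1 he]; rfl
    have h3 := (inferInstance : (frattini Q).Normal).conj_mem _ (QuotientGroup.eq.1 h1.symm) v
    simpa [mul_assoc] using h3
  have hord : orderOf ρ = 3 := orderOf_eq_prime hρ3 hρ1
  have hφQ : (frattiniAut Q).comp (resAut Q hQinv) φ ≠ 1 := by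
    intro h
    obtain ⟨k, hk⟩ := hstab ⟨ρ, h⟩
    have := orderOf_dvd_of_pow_eq_one (show ρ ^ 2 ^ k = 1 from congrArg Subtype.val hk)
    rw [hord] at this
    have := Nat.prime_three.dvd_of_dvd_pow this
    omega
  have hexp : ∀ v : Q ⧸ frattini Q, v * v = 1 := fun v => by rw [← pow_two]; exact quot_pow hQ2 v
  set U := Q.map P.subtype with hU
  have hUtop : U ≠ ⊤ := fun h => D.ne_top (top_le_iff.1 (h ▸ Subgroup.map_subtype_le Q))
  let eU : Q ≃* U := Q.equivMapOfInjective P.subtype P.subtype_injective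
  have hidx8 : (frattini Q).index ≤ 8 :=
    (index_frattini_congr eU).le.trans (H.index_frattini_le hUtop).1
  -- a fixed point free element of order three on the Frattini quotient
  have hfpf : ∀ v : Q ⧸ frattini Q, frattiniAut Q ρ v = v → v = 1 := by
    intro v hv
    set σ := frattiniAut Q ρ with hσ
    have hσ3 : ∀ w, σ (σ (σ w)) = w := fun w => by
      have : σ ^ 3 = 1 := by rw [hσ, ← map_pow, hρ3, map_one]
      have := congrArg (fun τ : MulAut (Q ⧸ frattini Q) => τ w) this
      simpa [pow_succ, MulAut.mul_apply] using this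
    letI : CommGroup (Q ⧸ frattini Q) :=
      { (inferInstance : Group (Q ⧸ frattini Q)) with mul_comm := quot_comm hQ2 }
    let π : (Q ⧸ frattini Q) →* (Q ⧸ frattini Q) :=
      MonoidHom.mk' (fun w => σ (σ w) * σ w * w) fun a b => by
        simp only [map_mul]; ac_rfl
    have hgen : ∀ w : Q, π (w : Q ⧸ frattini Q) = 1 := by
      intro w
      have hpre : (⊤ : Subgroup Q) ≤ (π.comp (QuotientGroup.mk' (frattini Q))).ker := by
        rintro ⟨u, hu⟩ -
        have hu' : u ∈ ((π.comp (QuotientGroup.mk' (frattini Q))).ker).map Q.subtype := by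
          refine (closure_le _).2 ?_ hu
          rintro _ ⟨g, rfl⟩
          set u0 : Q := ⟨(φ : MulAut P) g * g⁻¹, hQin g⟩
          refine ⟨u0, ?_, rfl⟩
          show π (u0 : Q ⧸ frattini Q) = 1
          have e3 : (φ : MulAut P) ((φ : MulAut P) ((φ : MulAut P) g)) = g := by
            have h := congrArg (fun b : A => (b : MulAut P) g) T.cube
            simpa [pow_succ, MulAut.mul_apply] using h
          have hprod : ρ (ρ u0) * ρ u0 * u0 = 1 := by
            refine Subtype.ext ?_
            show (φ : MulAut P) ((φ : MulAut P) ((φ : MulAut P) g * g⁻¹)) *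
              (φ : MulAut P) ((φ : MulAut P) g * g⁻¹) * ((φ : MulAut P) g * g⁻¹) = 1
            simp only [map_mul, map_inv, e3]
            group
          show σ (σ (u0 : Q ⧸ frattini Q)) * σ (u0 : Q ⧸ frattini Q) * u0 = 1
          rw [hσ, frattiniAut_apply, frattiniAut_apply, ← QuotientGroup.mk_mul,
            ← QuotientGroup.mk_mul, hprod]
          rfl
        obtain ⟨u', hu'', e⟩ := hu'
        rwa [show (⟨u, hu⟩ : Q) = u' from Subtype.ext e.symm]
      exact hpre (mem_top w)
    obtain ⟨v, rfl⟩ := QuotientGroup.mk'_surjective _ v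
    have h := hgen v
    rw [QuotientGroup.mk'_apply] at hv ⊢
    change σ (σ (v : Q ⧸ frattini Q)) * σ (v : Q ⧸ frattini Q) * v = 1 at h
    rw [hv, hv, hexp, one_mul] at h
    exact h
  have hQ4 : (frattini Q).index = 4 := by
    obtain ⟨k, hk⟩ := IsPGroup.iff_card.1 (hQ2.to_quotient (frattini Q))
    rw [Subgroup.index_eq_card, hk] at hidx8 ⊢
    have hq3 : ((frattiniAut Q ρ : MulAut (Q ⧸ frattini Q)) ^ 3) = 1 := by
      rw [← map_pow, hρ3, map_one]
    letI := Fintype.ofFinite (Q ⧸ frattini Q)
    rcases k with _ | _ | _ | k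
    · exfalso
      haveI : Subsingleton (Q ⧸ frattini Q) := (Nat.card_eq_one_iff_unique.1 hk).1
      exact hφQ (MulEquiv.ext fun _ => Subsingleton.elim _ _)
    · exfalso
      haveI : Finite (Q ⧸ frattini Q) := inferInstance
      refine hφQ (MulEquiv.ext fun v => ?_)
      rcases eq_or_ne v 1 with rfl | hv
      · simp
      by_contra hne
      have h3 : Nat.card (Fin 3) ≤ Nat.card (Q ⧸ frattini Q) := by
        refine Nat.card_le_card_of_injective ![1, v, frattiniAut Q ρ v] ?_
        have : frattiniAut Q ρ v ≠ 1 := by simpa using hv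
        have hne' : frattiniAut Q ρ v ≠ v := hne
        intro i j hij
        fin_cases i <;> fin_cases j <;> simp at hij ⊢ <;>
          first | exact absurd hij ‹_› | exact absurd hij.symm ‹_›
      rw [hk, Nat.card_fin] at h3
      norm_num at h3
    · rfl
    · exfalso
      have hk0 : k = 0 := by
        by_contra h
        have h2 : 1 < 2 ^ k := Nat.one_lt_two_pow h
        rw [pow_succ, pow_succ, pow_succ] at hidx8
        omega
      subst hk0
      -- the seven non-identity elements cannot be permuted freely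
      let V1 := {v : Q ⧸ frattini Q // v ≠ 1}
      have hcard7 : Fintype.card V1 = 7 := by
        rw [Fintype.card_subtype_compl, Fintype.card_subtype_eq, ← Nat.card_eq_fintype_card, hk]
        rfl
      let σ' : Equiv.Perm V1 := (frattiniAut Q ρ).toEquiv.subtypeEquiv (fun v => by simp)
      obtain ⟨⟨v, hv⟩, hvfix⟩ := Equiv.Perm.exists_fixed_point_of_prime (p := 3) (n := 1)
        (σ := σ') (by rw [hcard7]; norm_num) (by
          refine Equiv.ext fun w => Subtype.ext ?_
          have := congrArg (fun τ : MulAut (Q ⧸ frattini Q) => τ w.1) hq3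
          simp only [pow_succ, pow_zero, one_mul, MulAut.mul_apply, MulAut.one_apply] at this
          rw [show σ' ^ (3 ^ 1) = σ' * (σ' * σ') by rw [pow_one, pow_succ', pow_two]]
          exact this)
      exact hv (hfpf v (congrArg Subtype.val hvfix))
  let iQ : Q →* X := P.subtype.comp Q.subtype
  have hiQ : Function.Injective iQ := fun u v h => Subtype.ext (Subtype.ext h)
  have hQcard : Nat.card (Q ⧸ frattini Q) = 4 := by rw [← Subgroup.index_eq_card, hQ4]
  -- `Q` is metacyclic
  have hQm : Cfsg.IsMetacyclic Q := by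
    by_cases hall : ∀ q : Q, iQ q ∈ frattini X
    · exact isMetacyclic_of_injective (isMetacyclic_frattini H.hX H.hb H.hm)
        (iQ.codRestrict _ hall) fun u v h =>
          hiQ (congrArg (Subtype.val : frattini X → X) h)
    push Not at hall
    obtain ⟨qx, hqx⟩ := hall
    let D0 : Subgroup Q := (frattini X).comap iQ
    have hD0 : Cfsg.IsMetacyclic D0 := isMetacyclic_of_injective
      (isMetacyclic_frattini H.hX H.hb H.hm) ((iQ.comp D0.subtype).codRestrict _ fun d => d.2)
      fun u v h => Subtype.ext (hiQ (congrArg (Subtype.val : frattini X → X) h))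
    have hΦD0 : frattini Q ≤ D0 := by
      haveI : D0.Normal := inferInstanceAs ((frattini X).comap iQ).Normal
      refine CfsgLib.PGroups.frattini_le_of_elementary (p := 2) ?_ fun q => ?_
      · show ⁅(⊤ : Subgroup Q), (⊤ : Subgroup Q)⁆ ≤ D0
        rw [Subgroup.commutator_le]
        intro u _ v _
        show iQ (u * v * u⁻¹ * v⁻¹) ∈ frattini X
        rw [map_mul, map_mul, map_mul, map_inv, map_inv]
        exact H.derived_le_frattini (comm_mem _ _)
      · show iQ (q ^ 2) ∈ frattini X
        rw [map_pow]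
        exact CfsgLib.PGroups.pow_mem_frattini H.hX _
    obtain ⟨qh, hqh, hqh1⟩ : ∃ qh : Q, qh ∈ D0 ∧ qh ∉ frattini Q := by
      by_contra h
      push Not at h
      have hle : Nat.card (Q ⧸ frattini Q) ≤ Nat.card (Fin 2) := by
        refine Nat.card_le_card_of_surjective (![1, (qx : Q ⧸ frattini Q)] : Fin 2 → _) fun q => ?_
        obtain ⟨q, rfl⟩ := QuotientGroup.mk'_surjective _ q
        by_cases hq : q ∈ D0
        · exact ⟨0, ((QuotientGroup.eq_one_iff q).2 (h q hq)).symm⟩
        · refine ⟨1, ?_⟩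
          show (qx : Q ⧸ frattini Q) = (q : Q ⧸ frattini Q)
          refine QuotientGroup.eq.2 (h _ ?_)
          show iQ (qx⁻¹ * q) ∈ frattini X
          rw [map_mul, map_inv]
          exact H.inv_mul_mem_of_ne_top D.ne_top (qx : P).2 (q : P).2 hqx hq
      rw [hQcard, Nat.card_fin] at hle
      omega
    -- every proper subgroup is metacyclic
    have hprop : ∀ Hs : Subgroup Q, Hs ≠ ⊤ → Cfsg.IsMetacyclic Hs := by
      intro Hs hHs
      have hne : Hs ⊔ frattini Q ≠ ⊤ := fun e => hHs (frattini_nongenerating e)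
      set σ := frattiniAut Q ρ with hσ
      have hh : (qh : Q ⧸ frattini Q) ≠ 1 := fun e => hqh1 ((QuotientGroup.eq_one_iff _).1 e)
      have hσ3 : σ ^ 3 = 1 := by rw [hσ, ← map_pow, hρ3, map_one]
      have hσ1 : σ ≠ 1 := hφQ
      obtain ⟨j, hj⟩ : ∃ j : ℕ, ∀ q ∈ Hs, (q : Q ⧸ frattini Q) = 1 ∨
          (q : Q ⧸ frattini Q) = (σ ^ j) (qh : Q ⧸ frattini Q) := by
        by_cases hbot : ∀ q ∈ Hs, (q : Q ⧸ frattini Q) = 1
        · exact ⟨0, fun q hq => Or.inl (hbot q hq)⟩
        push Not at hbot
        obtain ⟨q0, hq0, hq01⟩ := hbot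
        obtain ⟨hmove, -⟩ := four_eq_top hQcard hexp hσ3 hσ1 hh
        obtain ⟨j, hj⟩ : ∃ j : ℕ, (q0 : Q ⧸ frattini Q) = (σ ^ j) (qh : Q ⧸ frattini Q) := by
          have hσh1 : σ (qh : Q ⧸ frattini Q) ≠ 1 := by simpa using hh
          rcases four_cases (H := (⊤ : Subgroup (Q ⧸ frattini Q)))
            (by rw [Subgroup.card_top, hQcard]) (mem_top (qh : Q ⧸ frattini Q))
            (mem_top (σ (qh : Q ⧸ frattini Q))) hh hσh1 hmove
            (fun e => hmove (mul_right_cancel (e.trans (hexp _).symm))) (q0 : Q ⧸ frattini Q)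
            (mem_top _) with e | e | e | e
          · exact absurd e hq01
          · exact ⟨0, by simpa using e⟩
          · exact ⟨1, by simpa using e⟩
          · refine ⟨2, e.trans ?_⟩
            set v : Q ⧸ frattini Q := (qh : Q ⧸ frattini Q) with hv
            set w := σ (σ v) with hw
            have hs : σ (σ v) * (σ v * v) = 1 := by
              have hfix : σ (σ (σ v) * (σ v * v)) = σ (σ v) * (σ v * v) := by
                have h3 : σ (σ (σ v)) = v := by
                  have := congrArg (fun τ : MulAut (Q ⧸ frattini Q) => τ v) hσ3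
                  simpa [pow_succ, MulAut.mul_apply] using this
                rw [map_mul, map_mul, h3, quot_comm hQ2 v, mul_assoc]
              exact hfpf _ hfix
            rw [pow_two, MulAut.mul_apply]
            exact (inv_eq_of_mul_eq_one_right hs).symm.trans (inv_eq_of_mul_eq_one_left (hexp _))
        refine ⟨j, fun q hq => ?_⟩
        by_contra hno
        push Not at hno
        refine hne (eq_top_iff.2 fun r _ => ?_)
        have hqU : ∀ s ∈ Hs, ∀ r : Q, (r : Q ⧸ frattini Q) = s → r ∈ Hs ⊔ frattini Q :=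
          fun s hs r e => by
            rw [← mul_inv_cancel_left s r]
            exact mul_mem (mem_sup_left hs) (mem_sup_right (QuotientGroup.eq.1 e.symm))
        have hqq0 : (q : Q ⧸ frattini Q) ≠ q0 := fun e => hno.2 (e.trans hj)
        rcases four_cases (H := (⊤ : Subgroup (Q ⧸ frattini Q)))
          (by rw [Subgroup.card_top, hQcard]) (mem_top (q0 : Q ⧸ frattini Q))
          (mem_top (q : Q ⧸ frattini Q)) hq01 hno.1 hqq0
          (fun e => hqq0 (mul_right_cancel (e.trans (hexp _).symm))) (r : Q ⧸ frattini Q)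
          (mem_top _) with e | e | e | e
        · exact mem_sup_right ((QuotientGroup.eq_one_iff r).1 e)
        · exact hqU q0 hq0 r e
        · exact hqU q hq r e
        · exact hqU (q * q0) (mul_mem hq hq0) r e
      have hle : ∀ q : Hs, (ρ ^ j)⁻¹ (q : Q) ∈ D0 := by
        intro q
        have hmap : ((( ρ ^ j)⁻¹ (q : Q) : Q) : Q ⧸ frattini Q) = (σ ^ j)⁻¹ ((q : Q) : Q ⧸ frattini Q) := by
          rw [hσ, ← map_pow (frattiniAut Q), ← map_inv (frattiniAut Q), frattiniAut_apply]
        rcases hj q q.2 with e | e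
        · refine hΦD0 ((QuotientGroup.eq_one_iff _).1 ?_)
          rw [hmap, e, map_one]
        · have e' : (((ρ ^ j)⁻¹ (q : Q) : Q) : Q ⧸ frattini Q) = qh := by
            rw [hmap, e]
            exact MulEquiv.symm_apply_apply _ _
          have := mul_mem hqh (hΦD0 (QuotientGroup.eq.1 e'.symm))
          rwa [mul_inv_cancel_left] at this
      exact isMetacyclic_of_injective hD0
        ((((ρ ^ j)⁻¹ : MulAut Q).toMonoidHom.comp Hs.subtype).codRestrict D0 hle)
        fun u v h => Subtype.ext (((ρ ^ j)⁻¹ : MulAut Q).injective (congrArg Subtype.val h))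
    refine Cfsg.Agent.S4397.result hQ2 fun Hs N _ A0 hA0 hA2 => ?_
    by_cases hpre : A0.comap (QuotientGroup.mk' N) = ⊤
    · have hA0top : A0 = ⊤ := by
        rw [← Subgroup.map_comap_eq_self_of_surjective (QuotientGroup.mk'_surjective N) A0, hpre,
          Subgroup.map_top_of_surjective _ (QuotientGroup.mk'_surjective N)]
      by_cases hHs : Hs = ⊤
      · subst hHs
        have hN : frattini (⊤ : Subgroup Q) ≤ N := by
          refine CfsgLib.PGroups.frattini_le_of_elementary (p := 2) ?_ fun q => ?_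
          · refine Subgroup.Normal.quotient_commutative_iff_commutator_le.mp ⟨⟨fun u v => ?_⟩⟩
            exact congrArg Subtype.val (hA0.is_comm.comm (⟨u, hA0top ▸ mem_top u⟩ : A0)
              ⟨v, hA0top ▸ mem_top v⟩)
          · rw [← QuotientGroup.eq_one_iff, QuotientGroup.mk_pow]
            exact hA2 _ (hA0top ▸ mem_top _)
        calc Nat.card A0 ≤ Nat.card ((⊤ : Subgroup Q) ⧸ N) := Subgroup.card_le_card_group _
          _ ≤ Nat.card ((⊤ : Subgroup Q) ⧸ frattini (⊤ : Subgroup Q)) := by
            refine Nat.card_le_card_of_surjective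
              (QuotientGroup.map _ N (MonoidHom.id _) (by rw [comap_id]; exact hN)) fun q => ?_
            obtain ⟨q, rfl⟩ := QuotientGroup.mk'_surjective N q
            exact ⟨QuotientGroup.mk q, rfl⟩
          _ = 2 ^ 2 := by
            rw [← Subgroup.index_eq_card, index_frattini_congr Subgroup.topEquiv, hQ4]; rfl
      · calc Nat.card A0 ≤ Nat.card (Hs ⧸ N) := Subgroup.card_le_card_group _
          _ ≤ 2 * 2 := CfsgLib.Techniques.metacyclic_card_le (hprop Hs hHs) (QuotientGroup.mk' N)
              (QuotientGroup.mk'_surjective N) two_ne_zero fun v => hA2 v (hA0top ▸ mem_top v)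
          _ = 2 ^ 2 := rfl
    · set B := A0.comap (QuotientGroup.mk' N) with hB
      have hBm : Cfsg.IsMetacyclic B := by
        refine isMetacyclic_of_injective (R := B.map Hs.subtype) (hprop _ fun e => ?_)
          (B.equivMapOfInjective Hs.subtype Hs.subtype_injective).toMonoidHom
          (MulEquiv.injective _)
        have hHs : Hs = ⊤ := top_le_iff.1 (e ▸ Subgroup.map_subtype_le B)
        exact hpre (Subgroup.map_injective Hs.subtype_injective
          (by rw [e, ← MonoidHom.range_eq_map, Subgroup.range_subtype, hHs]))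
      exact CfsgLib.Techniques.metacyclic_card_le hBm
        ((QuotientGroup.mk' N).subgroupComap A0)
        (fun a => by
          obtain ⟨v, hv⟩ := QuotientGroup.mk'_surjective N a.1
          exact ⟨⟨v, show QuotientGroup.mk' N v ∈ A0 from hv.symm ▸ a.2⟩, Subtype.ext hv⟩)
        two_ne_zero fun a => Subtype.ext (hA2 _ a.2)
  have hA : ¬ IsPGroup 2 (MulAut Q) := fun h => by
    obtain ⟨k, hk⟩ := h ρ
    have := orderOf_dvd_of_pow_eq_one hk
    rw [hord] at this
    have := Nat.prime_three.dvd_of_dvd_pow this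
    omega
  rcases CfsgLib.Techniques.metacyclic_two_aut hQ2 hQm hA with ⟨⟨e⟩⟩ | ⟨n, ⟨e⟩⟩
  · -- the quaternion group
    have d1 : ∀ q : QuaternionGroup 2, q ^ 2 = 1 → q = 1 ∨ q = QuaternionGroup.a 2 := by decide
    have d2 : ∀ q : QuaternionGroup 2, q ≠ 1 → q ≠ QuaternionGroup.a 2 →
        q ^ 2 = QuaternionGroup.a 2 := by decide
    have d3 : ∀ q : QuaternionGroup 2, q * QuaternionGroup.a 2 = QuaternionGroup.a 2 * q := by decide
    have d4' : ∀ u v : QuaternionGroup 2, u = 1 ∨ u = QuaternionGroup.a 2 ∨ v = 1 ∨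
        v = QuaternionGroup.a 2 ∨ u⁻¹ * v = 1 ∨ u⁻¹ * v = QuaternionGroup.a 2 ∨
        u * v * u⁻¹ = v * QuaternionGroup.a 2 := by decide
    have d4 : ∀ u v : QuaternionGroup 2, u ≠ 1 → u ≠ QuaternionGroup.a 2 → v ≠ 1 →
        v ≠ QuaternionGroup.a 2 → u⁻¹ * v ≠ 1 → u⁻¹ * v ≠ QuaternionGroup.a 2 →
        u * v * u⁻¹ = v * QuaternionGroup.a 2 := fun u v a b c d f g => by
      rcases d4' u v with h | h | h | h | h | h | h
      exacts [absurd h a, absurd h b, absurd h c, absurd h d, absurd h f, absurd h g, h]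
    set z : Q := e.symm (QuaternionGroup.a 2) with hz
    have hez : e z = QuaternionGroup.a 2 := e.apply_symm_apply _
    have hq8 : Nat.card Q = 8 := by
      rw [Nat.card_congr e.toEquiv, Nat.card_eq_fintype_card, QuaternionGroup.card]
    have hfr2 : Nat.card (frattini Q) = 2 := by
      have := (frattini Q).card_mul_index
      rw [hQ4, hq8] at this
      omega
    have hzΦ : z ∈ frattini Q := by
      have h := CfsgLib.PGroups.pow_mem_frattini hQ2 (e.symm (QuaternionGroup.a 1))
      rw [← map_pow] at h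
      exact h
    have hz1 : z ≠ 1 := fun h => by
      rw [h, map_one] at hez
      exact absurd hez (by decide)
    have hfr : ∀ f ∈ frattini Q, f = 1 ∨ f = z := by
      intro f hf
      by_contra h
      push Not at h
      have h3 : ({1, z, f} : Set Q).ncard ≤ (frattini Q : Set Q).ncard :=
        Set.ncard_le_ncard (by rintro w (rfl | rfl | rfl); exacts [one_mem _, hzΦ, hf])
          (Set.toFinite _)
      rw [Set.ncard_eq_three.2 ⟨1, z, f, Ne.symm hz1, Ne.symm h.1, Ne.symm h.2, rfl⟩,
        ← Nat.card_coe_set_eq] at h3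
      simp only [SetLike.coe_sort_coe, hfr2] at h3
      omega
    have hne : ∀ q : Q, q ∉ frattini Q → e q ≠ 1 ∧ e q ≠ QuaternionGroup.a 2 := fun q hq =>
      ⟨fun h => hq (by rw [show q = 1 from e.injective (h.trans (map_one e).symm)]; exact one_mem _),
       fun h => hq (by rw [show q = z from e.injective (h.trans hez.symm)]; exact hzΦ)⟩
    have hz2 : z ^ 2 = 1 := e.injective (by rw [map_pow, hez, map_one]; decide)
    have hzX : iQ z ∈ omegaDer X := by
      refine H.involution_mem_omegaDer hnc ?_ (by rw [← map_pow, hz2, map_one])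
      rw [hz, show (QuaternionGroup.a 2 : QuaternionGroup 2) = QuaternionGroup.a 1 ^ 2 by decide,
        map_pow, map_pow]
      exact CfsgLib.PGroups.pow_mem_frattini H.hX _
    have huniq : ∀ q : Q, q ^ 2 = 1 → q = 1 ∨ q = z := fun q hq =>
      (d1 (e q) (by rw [← map_pow, hq, map_one])).imp
        (fun h => e.injective (h.trans (map_one e).symm)) (fun h => e.injective (h.trans hez.symm))
    have hnot : ¬ ∀ d ∈ omegaDer X, ∃ u : Q, iQ u = d := by
      intro hall
      have hle : Nat.card (omegaDer X) ≤ Nat.card (Fin 2) := by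
        refine Nat.card_le_card_of_surjective
          (![1, ⟨iQ z, hzX⟩] : Fin 2 → omegaDer X) fun d => ?_
        obtain ⟨u, hu⟩ := hall d d.2
        rcases huniq u (hiQ (by rw [map_pow, hu, map_one]; exact (H.mem_omegaDer.1 d.2).2)) with r | r
        · exact ⟨0, Subtype.ext (by show (1 : X) = d; rw [← hu, r, map_one])⟩
        · exact ⟨1, Subtype.ext (by show iQ z = d; rw [← hu, r])⟩
      rw [(H.card_sqDer_mul hnc).1, Nat.card_fin] at hle
      omega
    refine false_of_small H hnc T hQinv hQ4 hφQ z hzX ?_ hfr ?_ ?_ hnot ?_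
    · intro q hq
      exact e.injective (by rw [map_pow, hez]; exact d2 _ (hne q hq).1 (hne q hq).2)
    · exact fun q => e.injective (by rw [map_mul, map_mul, hez]; exact d3 _)
    · intro u v hu hv huv
      refine e.injective ?_
      rw [map_mul, map_mul, map_inv, map_mul, hez]
      exact d4 _ _ (hne u hu).1 (hne u hu).2 (hne v hv).1 (hne v hv).2
        (by rw [← map_inv, ← map_mul]; exact (hne _ huv).1)
        (by rw [← map_inv, ← map_mul]; exact (hne _ huv).2)
    · by_contra hall
      push Not at hall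
      -- the quaternion group and the elements of order two give a section of rank three
      obtain ⟨d, hd, hdn⟩ : ∃ d ∈ omegaDer X, ∀ u : Q, iQ u ≠ d := by
        by_contra h
        push Not at h
        exact hnot h
      let R0 : Subgroup X :=
        { carrier := {v | ∃ q : Q, v = iQ q ∨ v = iQ q * d}
          one_mem' := ⟨1, Or.inl (map_one _).symm⟩
          mul_mem' := by
            have hcd : ∀ q : Q, d * iQ q = iQ q * d := fun q =>
              (H.frattini_comm_omegaDer hnc (hall q) hd).symm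
            have hdd : d * d = 1 := by rw [← pow_two]; exact (H.mem_omegaDer.1 hd).2
            rintro _ _ ⟨q, rfl | rfl⟩ ⟨q', rfl | rfl⟩ <;> refine ⟨q * q', ?_⟩
            · exact Or.inl (map_mul _ _ _).symm
            · exact Or.inr (by rw [map_mul, mul_assoc])
            · exact Or.inr (by rw [map_mul, mul_assoc, hcd, mul_assoc])
            · exact Or.inl (by
                rw [map_mul, mul_assoc, ← mul_assoc d, hcd, mul_assoc (iQ q'), hdd, mul_one])
          inv_mem' := by
            have hcd : ∀ q : Q, d * iQ q = iQ q * d := fun q =>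
              (H.frattini_comm_omegaDer hnc (hall q) hd).symm
            have hdi : d⁻¹ = d := inv_eq_of_mul_eq_one_left (by
              rw [← pow_two]; exact (H.mem_omegaDer.1 hd).2)
            rintro _ ⟨q, rfl | rfl⟩ <;> refine ⟨q⁻¹, ?_⟩
            · exact Or.inl (map_inv _ _).symm
            · exact Or.inr (by rw [map_inv, mul_inv_rev, hdi, ← map_inv, hcd]) }
      have hRΦ : R0 ≤ frattini X := by
        rintro _ ⟨q, rfl | rfl⟩
        exacts [hall q, mul_mem (hall q) (H.derived_le_frattini (H.omegaDer_le hd))]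
      have hRm : Cfsg.IsMetacyclic R0 := isMetacyclic_of_injective
        (isMetacyclic_frattini H.hX H.hb H.hm) (Subgroup.inclusion hRΦ)
        (Subgroup.inclusion_injective hRΦ)
      let Z0 : Subgroup R0 := (zpowers (iQ z)).subgroupOf R0
      haveI : Z0.Normal := ⟨fun v hv r => by
        obtain ⟨i, hi⟩ := mem_zpowers_iff.1 hv
        have hc : Commute (r : X) (iQ z) := H.frattini_comm_omegaDer hnc (hRΦ r.2) hzX
        show (r : X) * v * (r : X)⁻¹ ∈ zpowers (iQ z)
        rw [show (v : X) = iQ z ^ i from hi.symm, (hc.zpow_right i).eq, mul_inv_cancel_right]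
        exact zpow_mem (mem_zpowers _) i⟩
      have hexp0 : ∀ v : R0 ⧸ Z0, v ^ 2 = 1 := fun v => by
        obtain ⟨⟨r, hr⟩, rfl⟩ := QuotientGroup.mk'_surjective Z0 v
        rw [← map_pow, QuotientGroup.mk'_apply, QuotientGroup.eq_one_iff]
        show r ^ 2 ∈ zpowers (iQ z)
        obtain ⟨q, rfl | rfl⟩ := hr
        · rcases hfr _ (CfsgLib.PGroups.pow_mem_frattini hQ2 q) with h | h
          · rw [← map_pow, h, map_one]; exact one_mem _
          · rw [← map_pow, h]; exact mem_zpowers _
        · rw [(show Commute (iQ q) d from H.frattini_comm_omegaDer hnc (hall q) hd).mul_pow,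
            (H.mem_omegaDer.1 hd).2, mul_one]
          rcases hfr _ (CfsgLib.PGroups.pow_mem_frattini hQ2 q) with h | h
          · rw [← map_pow, h, map_one]; exact one_mem _
          · rw [← map_pow, h]; exact mem_zpowers _
      have h4 := CfsgLib.Techniques.metacyclic_card_le hRm (QuotientGroup.mk' Z0)
        (QuotientGroup.mk'_surjective Z0) two_ne_zero hexp0
      have hR16 : 16 ≤ Nat.card R0 := by
        let F : Q × Fin 2 → R0 := fun p =>
          ⟨iQ p.1 * d ^ (p.2 : ℕ), p.1, by
            rcases p with ⟨q, i⟩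
            fin_cases i <;> simp⟩
        have hF : Function.Injective F := by
          rintro ⟨q, i⟩ ⟨q', j⟩ h
          have h' : iQ q * d ^ (i : ℕ) = iQ q' * d ^ (j : ℕ) := congrArg Subtype.val h
          fin_cases i <;> fin_cases j <;> simp at h' ⊢
          · exact hiQ h'
          · exact absurd (show iQ (q'⁻¹ * q) = d by rw [map_mul, map_inv, h', inv_mul_cancel_left])
              (hdn _)
          · exact absurd (show iQ (q⁻¹ * q') = d by rw [map_mul, map_inv, ← h', inv_mul_cancel_left])
              (hdn _)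
          · exact hiQ h'
        have := Nat.card_le_card_of_injective F hF
        rw [Nat.card_prod, hq8, Nat.card_fin] at this
        exact this
      have hZ : Nat.card Z0 ≤ 2 := by
        have hle : zpowers (iQ z) ≤ R0 := zpowers_le.2 ⟨z, Or.inl rfl⟩
        rw [Nat.card_congr (Subgroup.subgroupOfEquivOfLe hle).toEquiv, Nat.card_zpowers]
        exact Nat.le_of_dvd two_pos (orderOf_dvd_of_pow_eq_one (H.mem_omegaDer.1 hzX).2)
      have := Z0.card_eq_card_quotient_mul_card_subgroup
      nlinarith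
  · -- homocyclic
    have hab : ∀ u v : Q, u * v = v * u := fun u v => e.injective (by
      rw [map_mul, map_mul, mul_comm])
    rcases n with _ | _ | n
    · haveI : Subsingleton Q := (Nat.card_eq_one_iff_unique.1
        (by rw [Nat.card_congr e.toEquiv, Nat.card_prod]; simp : Nat.card Q = 1)).1
      have hi : (frattini Q).index = 1 := by
        rw [Subgroup.index_eq_one]; exact Subsingleton.elim _ _
      omega
    · -- the four group
      have hexp1 : ∀ q : Q, q ^ 2 = 1 := fun q => e.injective (by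
        rw [map_pow, map_one]
        exact four_group_sq (e q))
      have hq4 : Nat.card Q = 4 := by
        rw [Nat.card_congr e.toEquiv, Nat.card_prod]
        simp
      have hfr : ∀ f ∈ frattini Q, f = 1 := by
        intro f hf
        have hfc : Nat.card (frattini Q) = 1 := by
          have := (frattini Q).card_mul_index
          rw [hQ4, hq4] at this
          omega
        rw [Subgroup.eq_bot_of_card_eq _ hfc] at hf
        exact mem_bot.1 hf
      by_cases hE : ∀ d ∈ omegaDer X, ∃ u : Q, iQ u = d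
      · refine false_of_abelian H hnc T hQinv hQin hQ4 hφQ hab (fun u _ => ?_) hE
        have hle : Nat.card Q ≤ Nat.card (omegaDer X) := by rw [hq4, (H.card_sqDer_mul hnc).1]
        choose F hF using fun d : omegaDer X => hE d d.2
        have hFinj : Function.Injective F := fun a b h => Subtype.ext (by rw [← hF a, ← hF b, h])
        obtain ⟨d, hd⟩ := ((Nat.bijective_iff_injective_and_card F).2
          ⟨hFinj, by rw [hq4, (H.card_sqDer_mul hnc).1]⟩).2 u
        show iQ u ∈ omegaDer X
        rw [← hd, hF d]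
        exact d.2
      · refine false_of_small H hnc T hQinv hQ4 hφQ 1 ?_ (fun q _ => hexp1 q)
          (fun f hf => Or.inl (hfr f hf)) (fun q => by simp) (fun u v _ _ _ => by
            rw [hab u v, mul_inv_cancel_right, mul_one]) hE ?_
        · show iQ 1 ∈ omegaDer X
          rw [map_one]; exact one_mem _
        · by_contra hall
          push Not at hall
          refine hE ?_
          have hsub : ∀ u : Q, iQ u ∈ omegaDer X := fun u =>
            H.involution_mem_omegaDer hnc (hall u) (by rw [← map_pow, hexp1, map_one])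
          let G : Q → omegaDer X := fun u => ⟨iQ u, hsub u⟩
          have hG : Function.Surjective G := ((Nat.bijective_iff_injective_and_card G).2
            ⟨fun a b h => hiQ (congrArg (Subtype.val : omegaDer X → X) h),
              by rw [hq4, (H.card_sqDer_mul hnc).1]⟩).2
          intro d hd
          obtain ⟨u, hu⟩ := hG ⟨d, hd⟩
          exact ⟨u, congrArg Subtype.val hu⟩
    · -- all involutions are squares
      have hsq : ∀ u : Q, u ^ 2 = 1 → iQ u ∈ omegaDer X := by
        intro u hu
        obtain ⟨w, hw⟩ := CfsgLib.Fusion.exists_sq_of_involution (n := n + 2) (by omega) (e u)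
          (by rw [← map_pow, hu, map_one])
        have hu' : u = (e.symm w) ^ 2 := by rw [← map_pow, hw, e.symm_apply_apply]
        refine H.involution_mem_omegaDer hnc ?_ (by rw [← map_pow, hu, map_one])
        rw [hu', map_pow]
        exact CfsgLib.PGroups.pow_mem_frattini H.hX _
      refine false_of_abelian H hnc T hQinv hQin hQ4 hφQ hab hsq ?_
      set N := 2 ^ (n + 2) with hN
      haveI : NeZero N := ⟨pow_ne_zero _ two_ne_zero⟩
      set hf : ZMod N := ((2 ^ (n + 1) : ℕ) : ZMod N) with hhf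
      have hne : hf ≠ 0 := by
        rw [hhf, Ne, ZMod.natCast_eq_zero_iff, hN, Nat.pow_dvd_pow_iff_le_right (by norm_num)]
        omega
      have hdbl : hf + hf = 0 := by
        rw [hhf, ← Nat.cast_add, ZMod.natCast_eq_zero_iff, hN, ← two_mul, ← pow_succ']
      let u1 : Q := e.symm (Multiplicative.ofAdd hf, 1)
      let u2 : Q := e.symm (1, Multiplicative.ofAdd hf)
      have hu1 : u1 ^ 2 = 1 := e.injective (by
        rw [map_pow, map_one, e.apply_symm_apply, pow_two, Prod.mk_mul_mk, ← ofAdd_add, hdbl,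
          one_mul]
        rfl)
      have hu2 : u2 ^ 2 = 1 := e.injective (by
        rw [map_pow, map_one, e.apply_symm_apply, pow_two, Prod.mk_mul_mk, ← ofAdd_add, hdbl,
          one_mul]
        rfl)
      have h11 : iQ u1 ≠ 1 := fun h => hne (by
        have := congrArg (fun q => (e q).1.toAdd) (hiQ (h.trans (map_one iQ).symm))
        simpa [u1] using this)
      have h21 : iQ u2 ≠ 1 := fun h => hne (by
        have := congrArg (fun q => (e q).2.toAdd) (hiQ (h.trans (map_one iQ).symm))
        simpa [u2] using this)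
      have h12 : iQ u2 ≠ iQ u1 := fun h => hne (by
        have := congrArg (fun q => (e q).2.toAdd) (hiQ h)
        simpa [u1, u2] using this)
      intro d hd
      rcases H.omegaDer_cases hnc (hsq u1 hu1) (hsq u2 hu2) h11 h21 h12 d hd with r | r | r | r
      · exact ⟨1, by rw [r]; exact map_one iQ⟩
      · exact ⟨u1, r.symm⟩
      · exact ⟨u2, r.symm⟩
      · exact ⟨u2 * u1, (map_mul iQ _ _).trans r.symm⟩

end AutData

end CfsgLib.Fusion.Bicyclic
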