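import Cfsg.Agent.Lib.Fusion.Bicyclic.Rels

/-!
Parameters of a bicyclic nonmetacyclic `2`-group with cyclic derived group.
-/

set_option autoImplicit false

namespace CfsgLib.Fusion.Bicyclic

open Subgroup Cfsg

universe u

variable {X : Type u} [Group X] [Finite X] {x y : X}

/-- Two generators, the second with square in `kSub`. -/
structure GenPair (a b c : X) (n : ℕ) : Prop where
  hgen : closure ({a, b} : Set X) = ⊤
  hb2 : b ^ 2 ∈ kSub X
  hab : a * b * a⁻¹ = b * c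
  ho : orderOf c = 2 ^ n
  hzp : zpowers c = commutator X

namespace GenPair

variable {a b c : X} {n : ℕ}

theorem exists_of (H : Hyp x y) (hcyc : IsCyclic (commutator X)) (hgen : closure ({a, b} : Set X) = ⊤)
    (hb2 : b ^ 2 ∈ kSub X) : ∃ c n, 1 ≤ n ∧ GenPair a b c n := by
  haveI : Fact (Nat.Prime 2) := ⟨Nat.prime_two⟩
  set c := b⁻¹ * (a * b * a⁻¹) with hcdef
  have hc : c ∈ commutator X := by
    rw [hcdef, ← mul_assoc, ← mul_assoc]
    have := comm_mem b⁻¹ a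
    rwa [inv_inv] at this
  haveI : (zpowers c).Normal := ⟨fun u hu g => by
    obtain ⟨d, hd⟩ := IsCyclic.exists_generator (α := commutator X)
    obtain ⟨k, hk⟩ := mem_zpowers_iff.1 (hd ⟨c, hc⟩)
    obtain ⟨m, hm⟩ := mem_zpowers_iff.1
      (hd ⟨g * (d : X) * g⁻¹, (inferInstance : (commutator X).Normal).conj_mem _ d.2 g⟩)
    have hk' : c = (d : X) ^ k := by
      have := congrArg Subtype.val hk
      simpa using this.symm
    have hm' : g * (d : X) * g⁻¹ = (d : X) ^ m := by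
      have := congrArg Subtype.val hm
      simpa using this.symm
    obtain ⟨i, rfl⟩ := mem_zpowers_iff.1 hu
    refine mem_zpowers_iff.2 ⟨m * i, ?_⟩
    rw [← conj_zpow, hk', ← conj_zpow, hm', ← zpow_mul, ← zpow_mul, ← zpow_mul, ← mul_assoc,
      ← mul_assoc, mul_comm k m]⟩
  have hzp : zpowers c = commutator X := by
    refine le_antisymm (zpowers_le.2 hc) (commutator_le_of_pair hgen ?_)
    have := (inferInstance : (zpowers c).Normal).conj_mem _ (mem_zpowers c) b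
    rw [hcdef] at this ⊢
    rwa [show b * (b⁻¹ * (a * b * a⁻¹)) * b⁻¹ = a * b * a⁻¹ * b⁻¹ by group] at this
  obtain ⟨n, hn⟩ := IsPGroup.iff_orderOf.1 H.hX c
  refine ⟨c, n, Nat.one_le_iff_ne_zero.2 ?_, hgen, hb2, by rw [hcdef, mul_inv_cancel_left], hn, hzp⟩
  rintro rfl
  refine commutator_ne_bot H.hb H.hm ?_
  rw [← hzp, orderOf_eq_one_iff.1 (hn.trans (pow_zero 2)), zpowers_one_eq_bot]

variable (P : GenPair a b c n)

include P

theorem zpow_eq_one_iff (m : ℤ) : c ^ m = 1 ↔ (2 : ℤ) ^ n ∣ m := by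
  rw [← orderOf_dvd_iff_zpow_eq_one, P.ho]
  push_cast
  rfl

theorem zpow_inj {m m' : ℤ} (h : c ^ m = c ^ m') : (2 : ℤ) ^ n ∣ m - m' := by
  rw [← P.zpow_eq_one_iff, zpow_sub, h, mul_inv_cancel]

theorem zpow_congr {m m' : ℤ} (h : (2 : ℤ) ^ n ∣ m - m') : c ^ m = c ^ m' := by
  have := (P.zpow_eq_one_iff _).2 h
  rwa [zpow_sub, mul_inv_eq_one] at this

theorem normal : (zpowers c).Normal := P.hzp ▸ inferInstance

theorem exists_conj (g : X) : ∃ m : ℤ, g * c * g⁻¹ = c ^ m := by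
  obtain ⟨m, hm⟩ := mem_zpowers_iff.1 (P.normal.conj_mem _ (mem_zpowers c) g)
  exact ⟨m, hm.symm⟩

theorem conj_odd (hn : 1 ≤ n) {g : X} {m : ℤ} (h : g * c * g⁻¹ = c ^ m) : Odd m := by
  rw [← Int.not_even_iff_odd]
  rintro ⟨k, rfl⟩
  have h1 : (g * c * g⁻¹) ^ ((2 ^ (n - 1) : ℕ) : ℤ) = 1 := by
    rw [h, ← zpow_mul, P.zpow_eq_one_iff]
    refine ⟨k, ?_⟩
    push_cast
    rw [show (2 : ℤ) ^ n = 2 ^ (n - 1) * 2 by rw [← pow_succ, Nat.sub_add_cancel hn]]
    ring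
  rw [conj_zpow, zpow_natCast, mul_inv_eq_one, mul_eq_left, ← orderOf_dvd_iff_pow_eq_one, P.ho,
    Nat.pow_dvd_pow_iff_le_right (by norm_num)] at h1
  omega

theorem exists_of_mem_kSub (hn : 1 ≤ n) {u : X} (hu : u ∈ kSub X) : ∃ k : ℤ, u = c ^ (2 * k) := by
  suffices kSub X ≤ zpowers (c ^ (2 : ℤ)) by
    obtain ⟨k, hk⟩ := mem_zpowers_iff.1 (this hu)
    exact ⟨k, by rw [← hk, ← zpow_mul]⟩
  refine kSub_le_of (fun s hs => ?_) fun s hs g => ?_
  · obtain ⟨i, rfl⟩ := mem_zpowers_iff.1 (P.hzp.symm ▸ hs : s ∈ zpowers c)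
    refine mem_zpowers_iff.2 ⟨i, ?_⟩
    rw [← zpow_natCast, ← zpow_mul, ← zpow_mul]
    push_cast
    ring_nf
  · obtain ⟨i, rfl⟩ := mem_zpowers_iff.1 (P.hzp.symm ▸ hs : s ∈ zpowers c)
    obtain ⟨m, hm⟩ := P.exists_conj g
    obtain ⟨k, rfl⟩ := P.conj_odd hn hm
    refine mem_zpowers_iff.2 ⟨k * i, ?_⟩
    rw [← conj_zpow, hm, ← zpow_mul, ← zpow_mul, ← zpow_sub]
    ring_nf

theorem notMem_frattini (H : Hyp x y) : a ∉ frattini X ∧ b ∉ frattini X ∧ a⁻¹ * b ∉ frattini X := by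
  haveI : Fact (Nat.Prime 2) := ⟨Nat.prime_two⟩
  have key : ∀ z : X, (∀ g ∈ ({a, b} : Set X), g ∈ closure ({z} : Set X) ⊔ frattini X) → False :=
    fun z hz => H.hm (isMetacyclic_of_generator (y := z)
      (CfsgLib.PGroups.closure_eq_top_of_sup_frattini (top_le_iff.1 (P.hgen ▸ (closure_le _).2 hz))))
  have hc : ∀ z : X, z ∈ closure ({z} : Set X) ⊔ frattini X := fun z =>
    mem_sup_left (subset_closure rfl)
  refine ⟨fun h => key b ?_, fun h => key a ?_, fun h => key a ?_⟩ <;> rintro g (rfl | rfl)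
  · exact mem_sup_right h
  · exact hc _
  · exact hc _
  · exact mem_sup_right h
  · exact hc _
  · have := mul_mem (hc a) (mem_sup_right h : a⁻¹ * g ∈ closure ({a} : Set X) ⊔ frattini X)
    rwa [mul_inv_cancel_left] at this

/-- The relations. -/
theorem exists_rels (hn : 1 ≤ n) {α v r : ℕ} (hα : Odd α) (hac : a * c * a⁻¹ = c ^ α)
    (hav : a ^ 2 ^ r = c ^ v) :
    ∃ ε, ε ≤ 1 ∧ (ε = 1 → 2 ≤ n) ∧ Rels a b c n r α v ε ∧
      (2 : ℤ) ^ n ∣ (∑ i ∈ Finset.range (2 ^ r), (α : ℤ) ^ i) + 2 * v ∧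
      (2 : ℤ) ^ n ∣ v * ((α : ℤ) - 1) := by
  obtain ⟨k, hk⟩ := P.exists_of_mem_kSub hn P.hb2
  obtain ⟨β, hβ⟩ := P.exists_conj b
  obtain ⟨a', ha'⟩ : ∃ a' : ℤ, (α : ℤ) - 1 = 2 * a' := by
    obtain ⟨t, rfl⟩ := hα
    exact ⟨t, by push_cast; ring⟩
  -- conjugating the square of `b`
  have h1 : (2 : ℤ) ^ n ∣ (β + 2 * k + 1) - α * (2 * k) := by
    refine P.zpow_inj ?_
    rw [zpow_mul c (α : ℤ), zpow_natCast, ← hac, conj_zpow, ← hk, ← conj_pow, P.hab, pow_two]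
    rw [zpow_add, zpow_add, zpow_one, ← hβ, ← hk, pow_two]
    group
  have h2 : (2 : ℤ) ^ n ∣ β * (2 * k) - 2 * k := by
    refine P.zpow_inj ?_
    rw [zpow_mul, ← hβ, conj_zpow, ← hk]
    group
  obtain ⟨q, hq⟩ := h1
  have hβ' : β = 4 * k * a' - 1 + 2 ^ n * q := by linear_combination hq + (2 * k) * ha'
  have h4 : (2 : ℤ) ^ n ∣ 4 * k := by
    have h : (2 : ℤ) ^ n ∣ (4 * k) * (2 * k * a' - 1) := by
      rw [show (4 * k) * (2 * k * a' - 1) = β * (2 * k) - 2 * k - 2 ^ n * (q * (2 * k)) by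
        rw [hβ']; ring]
      exact dvd_sub h2 (dvd_mul_right _ _)
    exact (IsCoprime.pow_left (⟨k * a', -1, by ring⟩ :
      IsCoprime (2 : ℤ) (2 * k * a' - 1))).dvd_of_dvd_mul_right h
  have hbc : b * c * b⁻¹ = c⁻¹ := by
    rw [hβ, ← zpow_neg_one]
    refine P.zpow_congr ?_
    rw [show β - -1 = 4 * k * a' + 2 ^ n * q by rw [hβ']; ring]
    exact dvd_add (h4.mul_right _) (dvd_mul_right _ _)
  obtain ⟨ε, hε, hεn, hεk⟩ : ∃ ε : ℕ, ε ≤ 1 ∧ (ε = 1 → 2 ≤ n) ∧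
      (2 : ℤ) ^ n ∣ 2 * k - (ε * 2 ^ (n - 1) : ℕ) := by
    rcases Nat.lt_or_ge n 2 with hn2 | hn2
    · obtain rfl : n = 1 := by omega
      exact ⟨0, by omega, by omega, ⟨k, by push_cast; ring⟩⟩
    obtain ⟨l, hl⟩ := h4
    have hk2 : 2 * k = 2 ^ (n - 1) * l := by
      have hp : (2 : ℤ) ^ n = 2 * 2 ^ (n - 1) := by rw [← pow_succ', Nat.sub_add_cancel hn]
      rw [hp] at hl
      linarith
    rcases Int.even_or_odd l with ⟨t, rfl⟩ | ⟨t, rfl⟩
    · refine ⟨0, by omega, by omega, t, ?_⟩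
      rw [hk2, show (2 : ℤ) ^ n = 2 ^ (n - 1) * 2 by rw [← pow_succ, Nat.sub_add_cancel hn]]
      push_cast
      ring
    · refine ⟨1, le_rfl, fun _ => hn2, t, ?_⟩
      rw [hk2, show (2 : ℤ) ^ n = 2 ^ (n - 1) * 2 by rw [← pow_succ, Nat.sub_add_cancel hn]]
      push_cast
      ring
  have hb : b ^ 2 = c ^ (ε * 2 ^ (n - 1)) := by
    rw [hk, ← zpow_natCast c (ε * 2 ^ (n - 1))]
    exact P.zpow_congr hεk
  have R : Rels a b c n r α v ε := ⟨P.hab, hac, hbc, hb, hav, P.ho ▸ pow_orderOf_eq_one c⟩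
  refine ⟨ε, hε, hεn, R, ?_, ?_⟩
  · have hsum : ∀ i : ℕ, a ^ i * b * (a ^ i)⁻¹ = b * c ^ (∑ l ∈ Finset.range i, (α : ℤ) ^ l) := by
      intro i
      induction i with
      | zero => simp
      | succ i ih =>
        rw [geom_sum_succ, zpow_add, zpow_one, zpow_mul, zpow_natCast, ← hac, conj_zpow,
          show a ^ (i + 1) * b * (a ^ (i + 1))⁻¹ = a * (a ^ i * b * (a ^ i)⁻¹) * a⁻¹ by
            rw [pow_succ']; group, ih]
        have hcom : Commute c (a * c ^ (∑ l ∈ Finset.range i, (α : ℤ) ^ l) * a⁻¹) := by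
          rw [← conj_zpow, hac]
          exact ((Commute.refl c).pow_right α).zpow_right _
        rw [← hcom.eq, ← mul_assoc b c, ← P.hab]
        group
    have h := hsum (2 ^ r)
    have hcb : c ^ (v : ℤ) * b * (c ^ (v : ℤ))⁻¹ = b * c ^ (-(2 * (v : ℤ))) := by
      rw [R.zpow_mul_b, mul_assoc, ← zpow_neg, ← zpow_add]
      ring_nf
    rw [hav, ← zpow_natCast, hcb] at h
    have := P.zpow_inj (mul_left_cancel h).symm
    rwa [sub_neg_eq_add] at this
  · rw [mul_sub, mul_one]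
    refine P.zpow_inj ?_
    rw [mul_comm, zpow_mul, zpow_natCast, zpow_natCast, ← hac, conj_pow, ← hav,
      ← pow_succ', pow_succ, mul_inv_cancel_right, zpow_natCast]
    exact hav

/-- The order of `a` modulo the derived group. -/
theorem exists_top (H : Hyp x y) (hn : 1 ≤ n) (huniq : ∀ g : X, g ∉ frattini X → g ^ 2 ∈ kSub X →
      b⁻¹ * g ∈ frattini X) :
    ∃ r v, 2 ≤ r ∧ Even v ∧ a ^ 2 ^ r = c ^ v ∧ 2 ^ (r + 1 + n) ≤ Nat.card X ∧ b ∉ zpowers c := by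
  haveI : Fact (Nat.Prime 2) := ⟨Nat.prime_two⟩
  obtain ⟨haΦ, hbΦ, habΦ⟩ := P.notMem_frattini H
  haveI := P.normal
  have hle : zpowers c ≤ frattini X := P.hzp ▸ H.derived_le_frattini
  let q : X →* X ⧸ zpowers c := QuotientGroup.mk' (zpowers c)
  have hq : ∀ g, q g = 1 ↔ g ∈ zpowers c := fun g => QuotientGroup.eq_one_iff g
  obtain ⟨r, hr⟩ := IsPGroup.iff_orderOf.1 (H.hX.to_quotient (zpowers c)) (q a)
  have hap : a ^ 2 ^ r ∈ zpowers c := by
    rw [← hq, map_pow, ← hr, pow_orderOf_eq_one]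
  obtain ⟨i, hi⟩ := mem_zpowers_iff.1 hap
  have h2r : 2 ≤ r := by
    by_contra h
    rcases Nat.eq_zero_or_pos r with rfl | hr0
    · exact haΦ (hle (by simpa using hap))
    obtain rfl : r = 1 := by omega
    rw [P.hzp] at hap
    have h2 := huniq a haΦ (H.sq_mem_of_notMem haΦ (by simpa using hap))
    exact habΦ (by simpa using inv_mem h2)
  have hev : Even i := by
    have hiK : c ^ i ∈ kSub X := by
      refine not_mem_zpowers H.hX H.hb H.hm haΦ (n := ((2 ^ r : ℕ) : ℤ))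
        (P.hzp ▸ zpow_mem (mem_zpowers c) i) ?_
      rw [zpow_natCast, ← hi, inv_mul_cancel]
      exact one_mem _
    obtain ⟨k, hk⟩ := P.exists_of_mem_kSub hn hiK
    have h := (dvd_pow_self (2 : ℤ) (Nat.one_le_iff_ne_zero.1 hn)).trans (P.zpow_inj hk)
    rw [even_iff_two_dvd]
    simpa using dvd_add h (dvd_mul_right (2 : ℤ) k)
  have hmod := Int.emod_nonneg i (b := (2 : ℤ) ^ n) (by positivity)
  refine ⟨r, (i % 2 ^ n).toNat, h2r, ?_, ?_, ?_, fun h => hbΦ (hle h)⟩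
  · rw [← Int.even_coe_nat, Int.toNat_of_nonneg hmod, even_iff_two_dvd]
    rw [Int.emod_def]
    exact dvd_sub (even_iff_two_dvd.1 hev)
      ((dvd_pow_self (2 : ℤ) (Nat.one_le_iff_ne_zero.1 hn)).mul_right _)
  · rw [← hi, ← zpow_natCast, Int.toNat_of_nonneg hmod]
    exact P.zpow_congr ⟨i / 2 ^ n, by rw [Int.emod_def]; ring⟩
  · have hlt : zpowers (q a) < ⊤ := by
      rw [lt_top_iff_ne_top]
      intro e
      obtain ⟨m, hm⟩ := mem_zpowers_iff.1 (e.ge (mem_top (q b)))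
      have hmem : (a ^ m)⁻¹ * b ∈ frattini X := hle (QuotientGroup.eq.1 ((map_zpow q a m).trans hm))
      rcases Int.even_or_odd m with ⟨l, rfl⟩ | ⟨l, rfl⟩
      · refine hbΦ ?_
        have h2 : a ^ (l + l) ∈ frattini X := by
          rw [← two_mul, zpow_mul, zpow_two, ← pow_two]
          exact zpow_mem (CfsgLib.PGroups.pow_mem_frattini H.hX a) l
        have := mul_mem h2 hmem
        rwa [mul_inv_cancel_left] at this
      · refine habΦ ?_
        have h2 : a ^ (2 * l) ∈ frattini X := by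
          rw [zpow_mul, zpow_two, ← pow_two]
          exact zpow_mem (CfsgLib.PGroups.pow_mem_frattini H.hX a) l
        have := mul_mem h2 hmem
        rwa [zpow_add, zpow_one, mul_inv_rev, mul_assoc, ← mul_assoc (a ^ (2 * l)),
          ((Commute.refl a).zpow_left (2 * l)).inv_right.eq, mul_assoc, mul_inv_cancel_left] at this
    obtain ⟨s, hs⟩ := IsPGroup.iff_card.1 (H.hX.to_quotient (zpowers c))
    have hrs : r < s := by
      have h1 : 2 ^ r < 2 ^ s := by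
        rw [← hs, ← hr, ← Nat.card_zpowers, ← Subgroup.card_top (G := X ⧸ zpowers c)]
        refine lt_of_le_of_ne (Subgroup.card_le_of_le hlt.le) fun e => hlt.ne ?_
        exact Subgroup.eq_of_le_of_card_ge hlt.le e.ge
      exact (Nat.pow_lt_pow_iff_right (by norm_num)).1 h1
    have := (zpowers c).card_eq_card_quotient_mul_card_subgroup
    rw [hs, Nat.card_zpowers, P.ho, ← pow_add] at this
    rw [this]
    exact Nat.pow_le_pow_right two_pos (by omega)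

end GenPair

/-- The parameters. -/
structure Params (X : Type u) [Group X] (a b c : X) (n r j v ε : ℕ) : Prop where
  one_le : 1 ≤ n
  two_le : 2 ≤ r
  eps_le : ε ≤ 1
  eps_two : ε = 1 → 2 ≤ n
  hgen : closure ({a, b} : Set X) = ⊤
  ho : orderOf c = 2 ^ n
  rels : Rels a b c n r (5 ^ j) v ε
  card_eq : Nat.card X = 2 ^ (r + 1 + n)
  normal : (zpowers c).Normal
  notMem : b ∉ zpowers c
  sum_dvd : (2 : ℤ) ^ (n + 1 - ε) ∣ (∑ i ∈ Finset.range (2 ^ r), ((5 : ℤ) ^ j) ^ i) + 2 * v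
  fix_dvd : (2 : ℤ) ^ n ∣ v * ((5 : ℤ) ^ j - 1)

theorem exists_params (H : Hyp x y) (hcyc : IsCyclic (commutator X)) :
    ∃ (a b c : X) (n r j v ε : ℕ), Params X a b c n r j v ε := by
  haveI : Fact (Nat.Prime 2) := ⟨Nat.prime_two⟩
  obtain ⟨b, hbΦ, hb2, hgen0, huniq⟩ := exists_special_pair H.hX H.hb H.hm
  obtain ⟨c₀, n₀, hn₀, P₀⟩ := GenPair.exists_of H hcyc hgen0 hb2
  -- make the action of `a` on the derived group congruent to one modulo four
  obtain ⟨a, c, n, α, hn, P, hac, hα4⟩ : ∃ (a c : X) (n : ℕ) (α : ℤ), 1 ≤ n ∧ GenPair a b c n ∧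
      a * c * a⁻¹ = c ^ α ∧ 4 ∣ α - 1 := by
    obtain ⟨α, hα⟩ := P₀.exists_conj x
    have hodd := P₀.conj_odd hn₀ hα
    by_cases h4 : 4 ∣ α - 1
    · exact ⟨x, c₀, n₀, α, hn₀, P₀, hα, h4⟩
    have hgen : closure ({x * b, b} : Set X) = ⊤ := by
      rw [eq_top_iff, ← hgen0, closure_le]
      rintro g (rfl | rfl)
      · have h1 : g * b ∈ closure ({g * b, b} : Set X) := subset_closure (Or.inl rfl)
        have h2 : b ∈ closure ({g * b, b} : Set X) := subset_closure (Or.inr rfl)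
        simpa using mul_mem h1 (inv_mem h2)
      · exact subset_closure (Or.inr rfl)
    refine ⟨x * b, c₀, n₀, -α, hn₀, ⟨hgen, hb2, ?_, P₀.ho, P₀.hzp⟩, ?_, ?_⟩
    · rw [← P₀.hab]; group
    · obtain ⟨r, v, -, -, hav, -, -⟩ := P₀.exists_top H hn₀ huniq
      have hm := Int.emod_nonneg α (b := (2 : ℤ) ^ n₀) (by positivity)
      have hac' : x * c₀ * x⁻¹ = c₀ ^ (α % 2 ^ n₀).toNat := by
        rw [hα, ← zpow_natCast, Int.toNat_of_nonneg hm]
        exact P₀.zpow_congr ⟨α / 2 ^ n₀, by rw [Int.emod_def]; ring⟩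
      have hoddn : Odd (α % 2 ^ n₀).toNat := by
        rw [← Int.odd_coe_nat, Int.toNat_of_nonneg hm, Int.emod_def]
        exact hodd.sub_even ((even_iff_two_dvd.2 (dvd_pow_self 2 (by omega))).mul_right _)
      obtain ⟨ε, -, -, R, -, -⟩ := P₀.exists_rels hn₀ hoddn hac' hav
      rw [show x * b * c₀ * (x * b)⁻¹ = x * (b * c₀ * b⁻¹) * x⁻¹ by group, R.hbc,
        show x * c₀⁻¹ * x⁻¹ = (x * c₀ * x⁻¹)⁻¹ by group, hα, zpow_neg]
    · obtain ⟨t, rfl⟩ := hodd
      omega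
  obtain ⟨j, hj⟩ := exists_five_pow n hα4
  have hac' : a * c * a⁻¹ = c ^ 5 ^ j := by
    rw [hac, ← zpow_natCast]
    refine (P.zpow_congr ?_).symm
    push_cast
    exact hj
  have hαodd : Odd (5 ^ j) := (by decide : Odd 5).pow
  obtain ⟨r, v, hr, hv, hav, hcard, hbmem⟩ := P.exists_top H hn huniq
  obtain ⟨ε, hε, hεn, R, hsum, hfix⟩ := P.exists_rels hn hαodd hac' hav
  push_cast at hsum hfix
  have hcard' : Nat.card X = 2 ^ (r + 1 + n) := by
    refine le_antisymm ?_ hcard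
    have := R.card_closure_le
    rwa [P.hgen, Subgroup.card_top] at this
  by_cases hgood : (2 : ℤ) ^ (n + 1 - ε) ∣ (∑ i ∈ Finset.range (2 ^ r), ((5 : ℤ) ^ j) ^ i) + 2 * v
  · exact ⟨a, b, c, n, r, j, v, ε, hn, hr, hε, hεn, P.hgen, P.ho, R, hcard', P.normal, hbmem,
      hgood, hfix⟩
  -- otherwise replace `b` by an element with square of order two
  have hε0 : ε = 0 := by
    by_contra h
    obtain rfl : ε = 1 := by omega
    exact hgood (by rwa [show n + 1 - 1 = n by omega])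
  subst hε0
  rw [show n + 1 - 0 = n + 1 by omega] at hgood
  set N := 2 ^ (r - 1) with hN
  have hN2 : 2 ^ r = N + N := by rw [hN, ← two_mul, ← pow_succ', Nat.sub_add_cancel (by omega)]
  have hNeven : Even N := by
    rw [hN]; exact Nat.even_pow.2 ⟨by decide, by omega⟩
  set sN := ∑ i ∈ Finset.range N, 5 ^ (j * i) with hsN
  obtain ⟨h, hh⟩ : Even sN := by
    rw [hsN, Nat.even_iff, Finset.sum_nat_mod]
    have : ∀ i ∈ Finset.range N, 5 ^ (j * i) % 2 = 1 := fun i _ =>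
      Nat.odd_iff.1 (by decide : Odd 5).pow
    rw [Finset.sum_congr rfl this, Finset.sum_const, Finset.card_range, smul_eq_mul, mul_one,
      ← Nat.even_iff]
    exact hNeven
  have hsN' : (∑ i ∈ Finset.range N, ((5 : ℤ) ^ j) ^ i) = 2 * (h : ℤ) := by
    have : (sN : ℤ) = 2 * h := by rw [hh]; push_cast; ring
    rw [← this, hsN]
    push_cast
    simp only [← pow_mul]
  set e := c ^ (h : ℤ) * a ^ N with he
  have hsum' : ∀ i : ℕ, a ^ i * b * (a ^ i)⁻¹ = b * c ^ (∑ l ∈ Finset.range i, ((5 : ℤ) ^ j) ^ l) := by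
    intro i
    induction i with
    | zero => simp
    | succ i ih =>
      set s := ∑ l ∈ Finset.range i, ((5 : ℤ) ^ j) ^ l with hs
      rw [geom_sum_succ, ← hs, show (5 : ℤ) ^ j * s + 1 = 1 + 5 ^ j * s from add_comm _ _, zpow_add,
        zpow_one]
      calc a ^ (i + 1) * b * (a ^ (i + 1))⁻¹ = a * (a ^ i * b * (a ^ i)⁻¹) * a⁻¹ := by
            rw [pow_succ']; group
        _ = a * b * a⁻¹ * (a * c ^ s * a⁻¹) := by rw [ih]; group
        _ = b * (c * c ^ ((5 : ℤ) ^ j * s)) := by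
            rw [P.hab, ← conj_zpow, hac', ← zpow_natCast, ← zpow_mul, mul_assoc]
            push_cast
            rfl
  have hcomm : Commute e b := by
    have h1 : a ^ N * b = b * c ^ (2 * (h : ℤ)) * a ^ N := by
      rw [← hsN', ← hsum' N, inv_mul_cancel_right]
    show c ^ (h : ℤ) * a ^ N * b = b * (c ^ (h : ℤ) * a ^ N)
    rw [mul_assoc, h1, ← mul_assoc, ← mul_assoc, R.zpow_mul_b, mul_assoc b, mul_assoc b, ← zpow_add,
      show -(h : ℤ) + 2 * h = h by ring]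
  set E : ℤ := h + ((5 ^ j) ^ N : ℕ) * h + v with hE
  have he2 : e ^ 2 = c ^ E := by
    rw [hE, zpow_add, zpow_add, ← R.conj_a_pow_zpow, zpow_natCast c v, ← hav, hN2, pow_add, he,
      pow_two]
    group
  have h2E : 2 * E = (∑ i ∈ Finset.range (2 ^ r), ((5 : ℤ) ^ j) ^ i) + 2 * v := by
    rw [hN2, Finset.sum_range_add]
    simp only [pow_add, ← Finset.mul_sum]
    rw [hsN', hE]
    push_cast
    ring
  have hn2 : 2 ≤ n := by
    by_contra hn2
    obtain rfl : n = 1 := by omega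
    refine hgood ?_
    obtain ⟨v', rfl⟩ := hv
    have hd : (2 : ℤ) ^ 2 ∣ (∑ i ∈ Finset.range (2 ^ r), ((5 : ℤ) ^ j) ^ i) := by
      have h5 : ∀ i ∈ Finset.range (2 ^ r), (((5 : ℤ) ^ j) ^ i : ℤ) % 4 = 1 := fun i _ => by
        rw [← pow_mul]
        have := Int.ModEq.pow (j * i) (show (5 : ℤ) ≡ 1 [ZMOD 4] by decide)
        rw [one_pow] at this
        exact this
      rw [Int.dvd_iff_emod_eq_zero, Finset.sum_int_mod, show (2 : ℤ) ^ 2 = 4 by norm_num,
        Finset.sum_congr rfl h5, Finset.sum_const, Finset.card_range, nsmul_eq_mul, mul_one]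
      push_cast
      exact Int.emod_eq_zero_of_dvd ((show (4 : ℤ) = 2 ^ 2 by norm_num) ▸ pow_dvd_pow 2 hr)
    exact dvd_add hd ⟨v', by push_cast; ring⟩
  have hp : (2 : ℤ) ^ n = 2 * 2 ^ (n - 1) := by rw [← pow_succ', Nat.sub_add_cancel hn]
  obtain ⟨l, hl⟩ : ∃ l : ℤ, E = 2 ^ (n - 1) * l := by
    obtain ⟨l, hl⟩ := hsum
    rw [← h2E, hp] at hl
    exact ⟨l, by linarith⟩
  have hEev : (2 : ℤ) ∣ E := hl ▸ (dvd_pow_self 2 (by omega)).mul_right _
  have hlodd : Odd l := by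
    rw [← Int.not_even_iff_odd]
    rintro ⟨t, rfl⟩
    refine hgood ⟨t, ?_⟩
    rw [← h2E, hl, pow_succ, hp]
    ring
  have heΦ : e ∈ frattini X := by
    refine mul_mem (zpow_mem (H.derived_le_frattini (P.hzp ▸ mem_zpowers c)) _) ?_
    obtain ⟨t, ht⟩ := hNeven
    rw [ht, ← two_mul, pow_mul]
    exact pow_mem (CfsgLib.PGroups.pow_mem_frattini H.hX a) t
  have hb'2 : (b * e) ^ 2 = c ^ E := by
    rw [hcomm.symm.mul_pow, R.hb2, zero_mul, pow_zero, one_mul, he2]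
  have hb'K : (b * e) ^ 2 ∈ kSub X := by
    obtain ⟨t, ht⟩ := hEev
    rw [hb'2, ht, zpow_mul]
    refine zpow_mem ?_ t
    rw [zpow_two, ← pow_two]
    exact sq_mem_kSub (P.hzp ▸ mem_zpowers c)
  have hgen' : closure ({a, b * e} : Set X) = ⊤ := by
    refine CfsgLib.PGroups.closure_eq_top_of_sup_frattini (top_le_iff.1 (P.hgen ▸ (closure_le _).2 ?_))
    rintro g (rfl | rfl)
    · exact mem_sup_left (subset_closure (Or.inl rfl))
    · have := mul_mem (mem_sup_left (subset_closure (Or.inr rfl)) :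
        g * e ∈ closure ({a, g * e} : Set X) ⊔ frattini X) (mem_sup_right (inv_mem heΦ))
      rwa [mul_inv_cancel_right] at this
  obtain ⟨c', n', hn', P'⟩ := GenPair.exists_of H hcyc hgen' hb'K
  have hnn : n' = n := by
    refine Nat.pow_right_injective (le_refl 2) ?_
    show 2 ^ n' = 2 ^ n
    rw [← P'.ho, ← P.ho, ← Nat.card_zpowers, ← Nat.card_zpowers, P'.hzp, P.hzp]
  subst hnn
  obtain ⟨w, hw⟩ := mem_zpowers_iff.1 ((P.hzp.trans P'.hzp.symm).le (mem_zpowers c))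
  obtain ⟨w', hw'⟩ := mem_zpowers_iff.1 ((P'.hzp.trans P.hzp.symm).le (mem_zpowers c'))
  have hac'' : a * c' * a⁻¹ = c' ^ 5 ^ j := by
    rw [← hw', ← conj_zpow, hac', ← zpow_natCast, ← zpow_natCast (c ^ w'), ← zpow_mul, ← zpow_mul,
      mul_comm]
  have hm := Int.emod_nonneg (w * v) (b := (2 : ℤ) ^ n') (by positivity)
  have hav' : a ^ 2 ^ r = c' ^ ((w * v) % 2 ^ n').toNat := by
    rw [hav, ← zpow_natCast, ← zpow_natCast c', Int.toNat_of_nonneg hm, ← hw, ← zpow_mul]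
    exact P'.zpow_congr ⟨w * v / 2 ^ n', by rw [Int.emod_def]; ring⟩
  obtain ⟨ε, hε', hεn', R', hsum'', hfix'⟩ := P'.exists_rels hn hαodd hac'' hav'
  push_cast at hsum'' hfix'
  have hε1 : ε = 1 := by
    by_contra hne
    obtain rfl : ε = 0 := by omega
    have := R'.hb2
    rw [zero_mul, pow_zero, hb'2, P.zpow_eq_one_iff, hl, hp, mul_comm (2 : ℤ)] at this
    exact (Int.not_even_iff_odd.2 hlodd)
      (even_iff_two_dvd.2 ((mul_dvd_mul_iff_left (pow_ne_zero _ two_ne_zero)).1 this))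
  subst hε1
  refine ⟨a, b * e, c', n', r, j, _, 1, hn, hr, le_rfl, fun _ => hn2, hgen', P'.ho, R', hcard',
    P'.normal, fun h => (P'.notMem_frattini H).2.1 (H.derived_le_frattini (P'.hzp ▸ h)), ?_, hfix'⟩
  rwa [show n' + 1 - 1 = n' by omega]

end CfsgLib.Fusion.Bicyclic
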