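import Cfsg.Agent.Lib.Fusion.Bicyclic.Basic

/-!
Bicyclic `2`-groups which are not metacyclic, second part: the distinguished class of elements
outside the Frattini subgroup whose squares lie in `kSub X`, and the Frattini subgroup is
metacyclic.
-/

set_option autoImplicit false

namespace CfsgLib.Fusion.Bicyclic

open Subgroup

universe u

variable {X : Type u} [Group X]

/-- A group with a pair of elements `x`, `y` such that every element is `x ^ i * y ^ j`. -/
def IsBicyclicPair (x y : X) : Prop := ∀ g : X, ∃ i j : ℤ, g = x ^ i * y ^ j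

theorem closure_of_bicyclicPair {x y : X} (hb : IsBicyclicPair x y) :
    closure ({x, y} : Set X) = ⊤ := by
  refine eq_top_iff.2 fun g _ => ?_
  obtain ⟨i, j, rfl⟩ := hb g
  exact mul_mem (zpow_mem (subset_closure (by simp)) i) (zpow_mem (subset_closure (by simp)) j)

/-- Elements of the derived group are `1` or `c` modulo `kSub X`. -/
theorem mem_or_inv_mul_mem {x y : X} (hgen : closure ({x, y} : Set X) = ⊤) {s : X}
    (hs : s ∈ commutator X) : s ∈ kSub X ∨ (x * y * x⁻¹ * y⁻¹)⁻¹ * s ∈ kSub X := by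
  set c := x * y * x⁻¹ * y⁻¹
  set W := kSub X ⊔ zpowers c with hW
  have hWle : W ≤ commutator X := sup_le kSub_le (zpowers_le.2 (comm_mem x y))
  haveI : W.Normal := ⟨fun w hw g => by
    have h := mul_mem ((le_sup_left : kSub X ≤ W) (comm_mem_kSub (hWle hw) g)) hw
    rwa [inv_mul_cancel_right] at h⟩
  have hder : commutator X ≤ W :=
    commutator_le_of_pair hgen ((le_sup_right : zpowers c ≤ W) (mem_zpowers c))
  have hsW : s ∈ kSub X ⊔ zpowers c := hW ▸ hder hs
  obtain ⟨k, hk, w, hw, rfl⟩ := mem_sup_of_normal_left.1 hsW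
  obtain ⟨i, rfl⟩ := mem_zpowers_iff.1 hw
  have h2 : ∀ n : ℤ, c ^ (2 * n) ∈ kSub X := fun n => by
    rw [zpow_mul]
    exact zpow_mem (by rw [zpow_two, ← pow_two]; exact sq_mem_kSub (comm_mem x y)) n
  rcases Int.even_or_odd i with ⟨n, rfl⟩ | ⟨n, rfl⟩
  · exact Or.inl (mul_mem hk (by rw [← two_mul]; exact h2 n))
  · refine Or.inr ?_
    have h3 : c⁻¹ * k * c ∈ kSub X := by
      have := kSub_normal.conj_mem k hk c⁻¹
      rwa [inv_inv] at this
    have : c⁻¹ * (k * c ^ (2 * n + 1)) = c⁻¹ * k * c * c ^ (2 * n) := by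
      rw [show (2 : ℤ) * n + 1 = 1 + 2 * n by ring, zpow_add, zpow_one]
      group
    rw [this]
    exact mul_mem h3 (h2 n)

variable [Finite X]

theorem isMetacyclic_of_generator {y : X} (h : closure ({y} : Set X) = ⊤) : Cfsg.IsMetacyclic X := by
  refine isMetacyclic_of_gen (v := y) (w := 1) (by simp) (top_le_iff.1 (h ▸ closure_mono ?_))
  simp

variable {x y : X}

theorem commutator_ne_bot (hb : IsBicyclicPair x y) (hm : ¬ Cfsg.IsMetacyclic X) :
    commutator X ≠ ⊥ := by
  intro h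
  refine hm (isMetacyclic_of_gen (v := x) (w := y) ?_ (closure_of_bicyclicPair hb))
  have h1 : y * x * y⁻¹ * x⁻¹ ∈ (⊥ : Subgroup X) := h ▸ comm_mem y x
  rw [mem_bot, mul_inv_eq_one] at h1
  rw [h1]
  exact mem_zpowers x

theorem comm_notMem_kSub (hX : IsPGroup 2 X) (hb : IsBicyclicPair x y)
    (hm : ¬ Cfsg.IsMetacyclic X) : x * y * x⁻¹ * y⁻¹ ∉ kSub X := fun h =>
  commutator_ne_bot hb hm (commutator_eq_bot_of_kSub_eq hX
    (le_antisymm kSub_le (commutator_le_of_pair (closure_of_bicyclicPair hb) h)))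

theorem frattini_pair (hX : IsPGroup 2 X) (hb : IsBicyclicPair x y) (hm : ¬ Cfsg.IsMetacyclic X) :
    x ∉ frattini X ∧ y ∉ frattini X ∧ x * y ∉ frattini X := by
  haveI : Fact (Nat.Prime 2) := ⟨Nat.prime_two⟩
  have key : ∀ z : X, (∀ g ∈ ({x, y} : Set X), g ∈ closure ({z} : Set X) ⊔ frattini X) → False := by
    intro z hz
    refine hm (isMetacyclic_of_generator (y := z)
      (CfsgLib.PGroups.closure_eq_top_of_sup_frattini ?_))
    exact top_le_iff.1 (closure_of_bicyclicPair hb ▸ (closure_le _).2 hz)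
  have hc : ∀ z : X, z ∈ closure ({z} : Set X) ⊔ frattini X := fun z =>
    mem_sup_left (subset_closure rfl)
  refine ⟨fun h => key y ?_, fun h => key x ?_, fun h => key y ?_⟩ <;>
    rintro g (rfl | rfl)
  · exact mem_sup_right h
  · exact hc _
  · exact hc _
  · exact mem_sup_right h
  · have := mul_mem (mem_sup_right h : g * y ∈ closure ({y} : Set X) ⊔ frattini X) (inv_mem (hc y))
    rwa [mul_inv_cancel_right] at this
  · exact hc _

/-- The Frattini subgroup consists of the `x ^ (2 i) * y ^ (2 j)`. -/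
theorem mem_frattini_iff (hX : IsPGroup 2 X) (hb : IsBicyclicPair x y)
    (hm : ¬ Cfsg.IsMetacyclic X) (i j : ℤ) :
    x ^ i * y ^ j ∈ frattini X ↔ Even i ∧ Even j := by
  haveI : Fact (Nat.Prime 2) := ⟨Nat.prime_two⟩
  obtain ⟨hx, hy, hxy⟩ := frattini_pair hX hb hm
  have hsq : ∀ (g : X) (n : ℤ), g ^ (2 * n) ∈ frattini X := fun g n => by
    rw [zpow_mul]
    exact zpow_mem (by rw [zpow_two, ← pow_two]; exact CfsgLib.PGroups.pow_mem_frattini hX g) n
  constructor
  · intro h
    rcases Int.even_or_odd i with ⟨a, rfl⟩ | ⟨a, rfl⟩ <;>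
      rcases Int.even_or_odd j with ⟨b, rfl⟩ | ⟨b, rfl⟩
    · exact ⟨⟨a, rfl⟩, ⟨b, rfl⟩⟩
    · exfalso
      refine hy ?_
      have := mul_mem (mul_mem (inv_mem (hsq x a)) h) (inv_mem (hsq y b))
      rwa [← two_mul, inv_mul_cancel_left, show 2 * b + 1 = 1 + 2 * b by ring, zpow_add, zpow_one,
        mul_inv_cancel_right] at this
    · exfalso
      refine hx ?_
      have := mul_mem (mul_mem (inv_mem (hsq x a)) h) (inv_mem (hsq y b))
      rwa [← two_mul, zpow_add, zpow_one, mul_assoc (x ^ (2 * a)), inv_mul_cancel_left,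
        mul_inv_cancel_right] at this
    · exfalso
      refine hxy ?_
      have := mul_mem (mul_mem (inv_mem (hsq x a)) h) (inv_mem (hsq y b))
      rwa [zpow_add, zpow_one, mul_assoc (x ^ (2 * a)), inv_mul_cancel_left,
        show 2 * b + 1 = 1 + 2 * b by ring, zpow_add, zpow_one, ← mul_assoc,
        mul_inv_cancel_right] at this
  · rintro ⟨⟨a, rfl⟩, ⟨b, rfl⟩⟩
    rw [← two_mul, ← two_mul]
    exact mul_mem (hsq x a) (hsq y b)

/-- An element outside the Frattini subgroup has no power congruent to a commutator. -/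
theorem not_mem_zpowers (hX : IsPGroup 2 X) (hb : IsBicyclicPair x y)
    (hm : ¬ Cfsg.IsMetacyclic X) {h : X} (hh : h ∉ frattini X) {n : ℤ} {s : X}
    (hs : s ∈ commutator X) (hsn : (h ^ n)⁻¹ * s ∈ kSub X) : s ∈ kSub X := by
  haveI : Fact (Nat.Prime 2) := ⟨Nat.prime_two⟩
  by_contra hsK
  obtain ⟨h', hgen⟩ : ∃ h', closure ({h, h'} : Set X) = ⊤ := by
    obtain ⟨i, j, rfl⟩ := hb h
    have hsq : ∀ (g : X) (n : ℤ), g ^ (2 * n) ∈ frattini X := fun g n => by
      rw [zpow_mul]
      exact zpow_mem (by rw [zpow_two, ← pow_two]; exact CfsgLib.PGroups.pow_mem_frattini hX g) n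
    rcases Int.even_or_odd i with ⟨a, rfl⟩ | ⟨a, rfl⟩
    · refine ⟨x, CfsgLib.PGroups.closure_eq_top_of_sup_frattini ?_⟩
      rw [eq_top_iff, ← closure_of_bicyclicPair hb, closure_le]
      set W := closure ({x ^ (a + a) * y ^ j, x} : Set X) ⊔ frattini X with hW
      have hh1 : x ^ (a + a) * y ^ j ∈ W := mem_sup_left (subset_closure (by simp))
      have hx1 : x ∈ W := mem_sup_left (subset_closure (by simp))
      have hy1 : y ^ j ∈ W := by
        have := mul_mem (inv_mem (zpow_mem hx1 (a + a))) hh1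
        rwa [inv_mul_cancel_left] at this
      rcases Int.even_or_odd j with hj | ⟨b, rfl⟩
      · exact absurd ((mem_frattini_iff hX hb hm _ _).2 ⟨⟨a, rfl⟩, hj⟩) hh
      rintro g (rfl | rfl)
      · exact hx1
      · have := mul_mem (inv_mem ((le_sup_right : frattini X ≤ W) (hsq g b))) hy1
        have h' : (g ^ (2 * b))⁻¹ * g ^ (2 * b + 1) = g := by group
        rwa [h'] at this
    · refine ⟨y, CfsgLib.PGroups.closure_eq_top_of_sup_frattini ?_⟩
      rw [eq_top_iff, ← closure_of_bicyclicPair hb, closure_le]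
      set W := closure ({x ^ (2 * a + 1) * y ^ j, y} : Set X) ⊔ frattini X with hW
      have hh1 : x ^ (2 * a + 1) * y ^ j ∈ W := mem_sup_left (subset_closure (by simp))
      have hy1 : y ∈ W := mem_sup_left (subset_closure (by simp))
      rintro g (rfl | rfl)
      · have := mul_mem (inv_mem ((le_sup_right : frattini X ≤ W) (hsq g a)))
          (mul_mem hh1 (inv_mem (zpow_mem hy1 j)))
        have h' : (g ^ (2 * a))⁻¹ * (g ^ (2 * a + 1) * y ^ j * (y ^ j)⁻¹) = g := by group
        rwa [h'] at this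
      · exact hy1
  refine hm (isMetacyclic_of_quotient_kSub hX ?_)
  let q := QuotientGroup.mk' (kSub X)
  refine isMetacyclic_of_gen (v := q h) (w := q h') ?_ (by
    rw [← Set.image_pair q h h', ← MonoidHom.map_closure, hgen,
      Subgroup.map_top_of_surjective _ (QuotientGroup.mk'_surjective _)])
  have hu : q (h' * h * h'⁻¹ * h⁻¹) ∈ zpowers (q h) := by
    have key : ∀ u ∈ commutator X, q u = 1 ∨ q u = q (x * y * x⁻¹ * y⁻¹) := fun u hu =>
      (mem_or_inv_mul_mem (closure_of_bicyclicPair hb) hu).imp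
        (fun e => (QuotientGroup.eq_one_iff _).2 e) (fun e => (QuotientGroup.eq.2 e).symm)
    have hsc : q s = q (x * y * x⁻¹ * y⁻¹) :=
      (key s hs).resolve_left fun e => hsK ((QuotientGroup.eq_one_iff _).1 e)
    rcases key _ (comm_mem h' h) with e | e
    · rw [e]; exact one_mem _
    · rw [e, ← hsc, show q s = q (h ^ n) from (QuotientGroup.eq.2 hsn).symm, map_zpow]
      exact zpow_mem (mem_zpowers _) n
  have := mul_mem hu (mem_zpowers (q h))
  rwa [← map_mul, inv_mul_cancel_right, map_mul, map_mul, map_inv] at this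

theorem kq_comm {s : X} (hs : s ∈ commutator X) (g : X) :
    Commute (QuotientGroup.mk' (kSub X) s) (QuotientGroup.mk' (kSub X) g) := by
  have e : QuotientGroup.mk' (kSub X) (g * s * g⁻¹ * s⁻¹) = 1 :=
    (QuotientGroup.eq_one_iff _).2 (comm_mem_kSub hs g)
  rw [map_mul, map_mul, map_mul, map_inv, map_inv, mul_inv_eq_one, mul_inv_eq_iff_eq_mul] at e
  exact e.symm

theorem kq_sq_comm (g h : X) :
    Commute (QuotientGroup.mk' (kSub X) g ^ (2 : ℤ)) (QuotientGroup.mk' (kSub X) h) := by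
  let q := QuotientGroup.mk' (kSub X)
  have hu := comm_mem g h
  set u := g * h * g⁻¹ * h⁻¹ with hudef
  have e1 : q g * q h * (q g)⁻¹ = q u * q h := by
    rw [← map_inv, ← map_mul, ← map_mul, ← map_mul, hudef, inv_mul_cancel_right]
  have e2 : q u * q u = 1 := by
    rw [← map_mul, ← pow_two]; exact (QuotientGroup.eq_one_iff _).2 (sq_mem_kSub hu)
  have e3 : q g * (q g * q h * (q g)⁻¹) * (q g)⁻¹ = q h := by
    rw [e1, ← mul_assoc, ← (kq_comm hu g).eq, mul_assoc (q u), mul_assoc, e1, ← mul_assoc, e2,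
      one_mul]
  rw [zpow_two]
  show q g * q g * q h = q h * (q g * q g)
  conv_rhs => rw [← e3]
  group

section ClassTwo

variable {Q : Type u} [Group Q] {A B D : Q}

theorem odd_swap (hA : ∀ g : Q, Commute (A ^ (2 : ℤ)) g) (hB : ∀ g : Q, Commute (B ^ (2 : ℤ)) g)
    (hD : ∀ g : Q, Commute D g) (hBA : B * A = A * B * D) {i j : ℤ} (hi : Odd i) (hj : Odd j) :
    B ^ j * A ^ i = A ^ i * B ^ j * D := by
  obtain ⟨a, rfl⟩ := hi
  obtain ⟨b, rfl⟩ := hj
  rw [zpow_add, zpow_add, zpow_one, zpow_one, zpow_mul, zpow_mul]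
  set α := (A ^ (2 : ℤ)) ^ a
  set β := (B ^ (2 : ℤ)) ^ b
  have hα : ∀ g, Commute α g := fun g => (hA g).zpow_left a
  have hβ : ∀ g, Commute β g := fun g => (hB g).zpow_left b
  calc β * B * (α * A) = β * (B * α) * A := by group
    _ = β * (α * B) * A := by rw [(hα B).eq]
    _ = β * α * (B * A) := by group
    _ = α * β * (A * B * D) := by rw [hBA, (hβ α).eq]
    _ = α * (β * A) * B * D := by group
    _ = α * (A * β) * B * D := by rw [(hβ A).eq]
    _ = α * A * (β * B) * D := by group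

theorem odd_sq (hA : ∀ g : Q, Commute (A ^ (2 : ℤ)) g) (hB : ∀ g : Q, Commute (B ^ (2 : ℤ)) g)
    (hD : ∀ g : Q, Commute D g) (hBA : B * A = A * B * D) {i j : ℤ} (hi : Odd i) (hj : Odd j) :
    (A ^ i * B ^ j) ^ 2 = A ^ (2 * i) * B ^ (2 * j) * D := by
  calc (A ^ i * B ^ j) ^ 2 = A ^ i * (B ^ j * A ^ i) * B ^ j := by rw [pow_two]; group
    _ = A ^ i * (A ^ i * B ^ j) * (D * B ^ j) := by rw [odd_swap hA hB hD hBA hi hj]; group
    _ = A ^ i * (A ^ i * B ^ j) * (B ^ j * D) := by rw [(hD (B ^ j)).eq]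
    _ = _ := by group

end ClassTwo

/-- The main structural fact. -/
theorem exists_special_pair (hX : IsPGroup 2 X) (hb : IsBicyclicPair x y)
    (hm : ¬ Cfsg.IsMetacyclic X) :
    ∃ b : X, b ∉ frattini X ∧ b ^ 2 ∈ kSub X ∧ closure ({x, b} : Set X) = ⊤ ∧
      ∀ g : X, g ∉ frattini X → g ^ 2 ∈ kSub X → b⁻¹ * g ∈ frattini X := by
  haveI : Fact (Nat.Prime 2) := ⟨Nat.prime_two⟩
  set c := x * y * x⁻¹ * y⁻¹ with hcdef
  let q := QuotientGroup.mk' (kSub X)
  have hgen := closure_of_bicyclicPair hb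
  have hcK : c ∉ kSub X := comm_notMem_kSub hX hb hm
  have hc1 : q c ≠ 1 := fun e => hcK ((QuotientGroup.eq_one_iff _).1 e)
  have hqK : ∀ u, q u = 1 ↔ u ∈ kSub X := fun u => QuotientGroup.eq_one_iff u
  have hcen : ∀ s ∈ commutator X, ∀ g : X, Commute (q s) (q g) := fun s hs g => kq_comm hs g
  have hsqc : ∀ (g h : X), Commute (q g ^ (2 : ℤ)) (q h) := kq_sq_comm
  have hD : ∀ g : X ⧸ kSub X, Commute (q c) g := fun g => by
    obtain ⟨g, rfl⟩ := QuotientGroup.mk'_surjective _ g
    exact hcen c (comm_mem x y) g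
  have hA : ∀ (a : X) (g : X ⧸ kSub X), Commute (q a ^ (2 : ℤ)) g := fun a g => by
    obtain ⟨g, rfl⟩ := QuotientGroup.mk'_surjective _ g
    exact hsqc a g
  have hc2 : q c ^ 2 = 1 := by
    rw [← map_pow]; exact (hqK _).2 (sq_mem_kSub (comm_mem x y))
  have hBA : q y * q x = q x * q y * q c := by
    have e : q c * (q y * q x) = q x * q y := by
      simp only [hcdef, map_mul, map_inv]; group
    rw [← e, mul_assoc, ← (hD (q y * q x)).eq, ← mul_assoc, ← pow_two, hc2, one_mul]
  have hsq : ∀ {i j : ℤ}, Odd i → Odd j →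
      q (x ^ i * y ^ j) ^ 2 = q x ^ (2 * i) * q y ^ (2 * j) * q c := fun {i j} hi hj => by
    rw [map_mul, map_zpow, map_zpow]
    exact odd_sq (hA x) (hA y) hD hBA hi hj
  have hsq' : ∀ i j : ℤ, Even i ∨ Even j →
      q (x ^ i * y ^ j) ^ 2 = q x ^ (2 * i) * q y ^ (2 * j) := fun i j h => by
    rw [map_mul, map_zpow, map_zpow]
    have hc : Commute (q x ^ i) (q y ^ j) := by
      rcases h with ⟨a, rfl⟩ | ⟨a, rfl⟩
      · rw [← two_mul, zpow_mul]; exact (hA x _).zpow_left a
      · rw [← two_mul, zpow_mul]; exact ((hA y _).zpow_left a).symm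
    rw [hc.mul_pow, ← zpow_natCast (q x ^ i), ← zpow_natCast (q y ^ j), ← zpow_mul, ← zpow_mul,
      mul_comm i, mul_comm j]
    rfl
  have hno : ∀ g : X, g ∉ frattini X → ∀ n : ℤ, q g ^ n ≠ q c := fun g hg n e => by
    rw [← map_zpow] at e
    exact hcK (not_mem_zpowers hX hb hm hg (comm_mem x y) (QuotientGroup.eq.1 e))
  have hΦ := mem_frattini_iff hX hb hm
  have hdesc : ∀ (N : ℕ) (i j : ℤ) (m : ℕ), i.natAbs + j.natAbs ≤ N →
      q c = (q x ^ (2 * i)) ^ 2 ^ m * (q y ^ (2 * j)) ^ 2 ^ m → m = 0 ∧ Odd i ∧ Odd j := by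
    intro N
    induction N with
    | zero =>
      intro i j m hN e
      obtain ⟨rfl, rfl⟩ : i = 0 ∧ j = 0 := by omega
      simp only [mul_zero, zpow_zero, one_pow, mul_one] at e
      exact absurd e hc1
    | succ N ih =>
      intro i j m hN e
      have hmul : q c = (q x ^ (2 * i) * q y ^ (2 * j)) ^ 2 ^ m := by
        rw [e, Commute.mul_pow]
        rw [zpow_mul]
        exact (hA x _).zpow_left i
      by_cases hij : Even i ∧ Even j
      · obtain ⟨⟨a, rfl⟩, ⟨b, rfl⟩⟩ := hij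
        have hdbl : ∀ (g : X ⧸ kSub X) (a : ℤ), (g ^ (2 * (a + a))) ^ 2 ^ m =
            (g ^ (2 * a)) ^ 2 ^ (m + 1) := fun g a => by
          rw [pow_succ', pow_mul, ← zpow_natCast (g ^ (2 * a)) 2, ← zpow_mul]
          congr 2
          push_cast
          ring
        rw [hdbl, hdbl] at e
        rcases Nat.eq_zero_or_pos (a.natAbs + b.natAbs) with h0 | h0
        · obtain ⟨rfl, rfl⟩ : a = 0 ∧ b = 0 := by omega
          simp only [mul_zero, zpow_zero, one_pow, mul_one] at e
          exact absurd e hc1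
        · exact absurd (ih a b (m + 1) (by omega) e).1 (by omega)
      have hg : x ^ i * y ^ j ∉ frattini X := fun h => hij ((hΦ i j).1 h)
      by_cases hodd : Odd i ∧ Odd j
      · refine ⟨?_, hodd⟩
        by_contra hm0
        refine hno _ hg (((2 * 2 ^ m : ℕ) : ℤ)) ?_
        rw [zpow_natCast, pow_mul, hsq hodd.1 hodd.2, (hD _).symm.mul_pow, ← hmul]
        obtain ⟨m', rfl⟩ := Nat.exists_eq_succ_of_ne_zero hm0
        rw [show (2 : ℕ) ^ (m' + 1) = 2 * 2 ^ m' by rw [pow_succ'], pow_mul, hc2, one_pow, mul_one]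
      · exfalso
        refine hno _ hg (((2 * 2 ^ m : ℕ) : ℤ)) ?_
        rw [zpow_natCast, pow_mul, hsq' i j ?_, ← hmul]
        rcases Int.even_or_odd i with h | h
        · exact Or.inl h
        · exact Or.inr ((Int.even_or_odd j).resolve_right fun h' => hodd ⟨h, h'⟩)
  obtain ⟨i', j', hc'⟩ := hb c
  obtain ⟨⟨i, rfl⟩, ⟨j, rfl⟩⟩ :=
    (hΦ i' j').1 (hc' ▸ CfsgLib.PGroups.commutator_le_frattini' hX (comm_mem x y))
  have hcij : q c = (q x ^ (2 * i)) ^ 2 ^ 0 * (q y ^ (2 * j)) ^ 2 ^ 0 := by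
    rw [pow_zero, pow_one, pow_one, hc', map_mul, map_zpow, map_zpow, ← two_mul, ← two_mul]
  obtain ⟨-, hi, hj⟩ := hdesc _ i j 0 le_rfl hcij
  have hbΦ : x ^ i * y ^ j ∉ frattini X := fun h => by
    have := ((hΦ i j).1 h).1
    exact (Int.not_even_iff_odd.2 hi) this
  have hb2 : (x ^ i * y ^ j) ^ 2 ∈ kSub X := by
    rw [← hqK, map_pow, hsq hi hj]
    simp only [pow_zero, pow_one] at hcij
    rw [← hcij, ← pow_two, hc2]
  refine ⟨x ^ i * y ^ j, hbΦ, hb2, CfsgLib.PGroups.closure_eq_top_of_sup_frattini ?_, ?_⟩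
  · set W := closure ({x, x ^ i * y ^ j} : Set X) ⊔ frattini X
    rw [eq_top_iff, ← hgen, closure_le]
    have hx1 : x ∈ W := mem_sup_left (subset_closure (by simp))
    rintro g (rfl | rfl)
    · exact hx1
    · obtain ⟨b, rfl⟩ := hj
      have hy : g ^ (2 * b) ∈ W := (le_sup_right : frattini X ≤ W) (by
        have := (hΦ 0 (2 * b)).2 ⟨by simp, ⟨b, two_mul b⟩⟩
        simpa using this)
      have h1 : x ^ i * g ^ (2 * b + 1) ∈ W := mem_sup_left (subset_closure (by simp))
      have := mul_mem (inv_mem hy) (mul_mem (inv_mem (zpow_mem hx1 i)) h1)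
      rwa [inv_mul_cancel_left, zpow_add, zpow_one, inv_mul_cancel_left] at this
  · intro g hg hg2
    obtain ⟨k, l, rfl⟩ := hb g
    have hkl : Odd k ∧ Odd l := by
      by_contra hkl
      have he : Even k ∨ Even l := by
        rcases Int.even_or_odd k with h | h
        · exact Or.inl h
        · exact Or.inr ((Int.even_or_odd l).resolve_right fun h' => hkl ⟨h, h'⟩)
      have e := (hqK _).2 hg2
      rw [map_pow, hsq' k l he, mul_eq_one_iff_eq_inv, ← zpow_neg] at e
      simp only [pow_zero, pow_one] at hcij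
      have hcomm : ∀ a b : ℤ, Commute (q x ^ (2 * a)) (q y ^ b) := fun a b => by
        rw [zpow_mul]; exact (hA x _).zpow_left a
      have hDn : ∀ n : ℤ, Odd n → q c ^ n = q c := by
        rintro n ⟨a, rfl⟩
        rw [zpow_add, zpow_mul, zpow_one, zpow_two, ← pow_two, hc2, one_zpow, one_mul]
      -- one of the generators has a power equal to `c`
      rcases Int.even_or_odd k with hk | hk
      · have hl : Odd l := (Int.even_or_odd l).resolve_left fun h => hg ((hΦ k l).2 ⟨hk, h⟩)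
        refine hno x (frattini_pair hX hb hm).1 (2 * i * l + 2 * k * (-j)) ?_
        rw [zpow_add, zpow_mul (q x) (2 * k), e, ← zpow_mul, ← hDn l hl, hcij,
          (hcomm i (2 * j)).mul_zpow, ← zpow_mul, ← zpow_mul]
        congr 2
        ring
      · refine hno y (frattini_pair hX hb hm).2.1 (-(2 * l) * i + 2 * j * k) ?_
        rw [zpow_add, zpow_mul, ← e, ← zpow_mul, ← hDn k hk, hcij, (hcomm i (2 * j)).mul_zpow,
          ← zpow_mul, ← zpow_mul]
        congr 2
        ring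
    have hev : ∀ {a b : ℤ}, Odd a → Odd b → Even (b - a) := fun {a b} ha hb => hb.sub_odd ha
    have h1 : x ^ (k - i) ∈ frattini X := by
      have := (hΦ (k - i) 0).2 ⟨hev hi hkl.1, by simp⟩
      simpa using this
    have h2 : y ^ (l - j) ∈ frattini X := by
      have := (hΦ 0 (l - j)).2 ⟨by simp, hev hj hkl.2⟩
      simpa using this
    have h3 := mul_mem ((inferInstance : (frattini X).Normal).conj_mem _ h1 (y ^ (-j))) h2
    rwa [show y ^ (-j) * x ^ (k - i) * (y ^ (-j))⁻¹ * y ^ (l - j) =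
      (x ^ i * y ^ j)⁻¹ * (x ^ k * y ^ l) by group] at h3

/-- The Frattini subgroup is metacyclic. -/
theorem isMetacyclic_frattini (hX : IsPGroup 2 X) (hb : IsBicyclicPair x y)
    (hm : ¬ Cfsg.IsMetacyclic X) : Cfsg.IsMetacyclic (frattini X) := by
  haveI : Fact (Nat.Prime 2) := ⟨Nat.prime_two⟩
  by_contra hm0
  have hsq : ∀ g : X, g ^ 2 ∈ frattini X := CfsgLib.PGroups.pow_mem_frattini hX
  set x0 : frattini X := ⟨x ^ 2, hsq x⟩ with hx0
  set y0 : frattini X := ⟨y ^ 2, hsq y⟩ with hy0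
  have hb0 : IsBicyclicPair x0 y0 := by
    rintro ⟨g, hg⟩
    obtain ⟨i, j, rfl⟩ := hb g
    obtain ⟨⟨a, rfl⟩, ⟨b, rfl⟩⟩ := (mem_frattini_iff hX hb hm i j).1 hg
    refine ⟨a, b, Subtype.ext ?_⟩
    show x ^ (a + a) * y ^ (b + b) = (x0 ^ a * y0 ^ b : frattini X)
    rw [Subgroup.coe_mul, SubgroupClass.coe_zpow, SubgroupClass.coe_zpow, hx0, hy0, ← two_mul,
      ← two_mul, zpow_mul, zpow_mul, zpow_two, zpow_two, ← pow_two, ← pow_two]
  have hX0 : IsPGroup 2 (frattini X) := hX.to_subgroup _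
  obtain ⟨b0, hb0Φ, hb0K, hgen, huniq⟩ := exists_special_pair hX0 hb0 hm0
  let q := QuotientGroup.mk' (kSub (frattini X))
  let σ : MulAut (frattini X) := MulAut.conjNormal x
  have hσ : ∀ g : frattini X, ((σ g : frattini X) : X) = x * g * x⁻¹ := fun g =>
    MulAut.conjNormal_apply x g
  have hσσ : ∀ g : frattini X, σ (σ g) = x0 * g * x0⁻¹ := fun g => Subtype.ext (by
    rw [hσ, hσ, Subgroup.coe_mul, Subgroup.coe_mul, Subgroup.coe_inv, hx0]
    show x * (x * (g : X) * x⁻¹) * x⁻¹ = x ^ 2 * (g : X) * (x ^ 2)⁻¹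
    rw [pow_two]
    group)
  have hσK : ∀ g ∈ kSub (frattini X), σ g ∈ kSub (frattini X) := fun g hg =>
    (kSub_map σ.toMonoidHom σ.surjective).le (mem_map_of_mem σ.toMonoidHom hg)
  have hσK' : ∀ g : frattini X, σ g ∈ kSub (frattini X) → g ∈ kSub (frattini X) := fun g hg => by
    obtain ⟨k, hk, hkg⟩ := (kSub_map σ.toMonoidHom σ.surjective).ge hg
    rwa [← σ.injective hkg]
  have hσC : ∀ g ∈ commutator (frattini X), σ g ∈ commutator (frattini X) := fun g hg =>
    (map_commutator_top σ.toMonoidHom σ.surjective).le (mem_map_of_mem σ.toMonoidHom hg)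
  have hσΦ : ∀ g, σ g ∈ frattini (frattini X) → g ∈ frattini (frattini X) := fun g hg => by
    obtain ⟨k, hk, hkg⟩ := (Subgroup.characteristic_iff_map_eq.1
      (inferInstance : (frattini (frattini X)).Characteristic) σ).ge hg
    rwa [← σ.injective hkg]
  have hf : b0⁻¹ * σ b0 ∈ frattini (frattini X) :=
    huniq _ (fun h => hb0Φ (hσΦ _ h)) (by rw [← map_pow]; exact hσK _ hb0K)
  -- the subgroup of the elements fixed by `σ` and central modulo `kSub`
  let Z : Subgroup (frattini X) :=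
    { carrier := {g | q (σ g) = q g ∧ ∀ h, Commute (q g) (q h)}
      one_mem' := ⟨by simp, fun h => by simp⟩
      mul_mem' := fun {a b} ha hb => ⟨by rw [map_mul, map_mul, ha.1, hb.1, map_mul],
        fun h => by rw [map_mul]; exact (ha.2 h).mul_left (hb.2 h)⟩
      inv_mem' := fun {a} ha => ⟨by rw [map_inv, map_inv, ha.1, map_inv],
        fun h => by rw [map_inv]; exact (ha.2 h).inv_left⟩ }
  set W := zpowers (x0 ^ 2) ⊔ commutator (frattini X) with hW
  haveI : W.Normal := Subgroup.Normal.of_commutator_le _ le_sup_right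
  have hΦW : frattini (frattini X) ≤ W := by
    refine CfsgLib.PGroups.frattini_le_of_elementary (p := 2) le_sup_right fun g => ?_
    let π := QuotientGroup.mk' W
    have hc : ∀ a b : frattini X, Commute (π a) (π b) := fun a b => by
      have e : π (a * b * a⁻¹ * b⁻¹) = 1 :=
        (QuotientGroup.eq_one_iff _).2 (mem_sup_right (comm_mem a b))
      rw [map_mul, map_mul, map_mul, map_inv, map_inv, mul_inv_eq_one, mul_inv_eq_iff_eq_mul] at e
      exact e
    let S2 : Subgroup (frattini X) :=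
      { carrier := {g | π g ^ 2 = 1}
        one_mem' := by simp
        mul_mem' := fun {a b} (ha : π a ^ 2 = 1) (hb : π b ^ 2 = 1) => by
          show π (a * b) ^ 2 = 1
          rw [map_mul, (hc a b).mul_pow, ha, hb, one_mul]
        inv_mem' := fun {a} (ha : π a ^ 2 = 1) => by
          show π a⁻¹ ^ 2 = 1
          rw [map_inv, inv_pow, ha, inv_one] }
    have hg : g ∈ S2 := by
      refine (closure_le _).2 ?_ (hgen ▸ mem_top g)
      intro z hz
      show π z ^ 2 = 1
      rw [← map_pow]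
      refine (QuotientGroup.eq_one_iff _).2 ?_
      rcases hz with rfl | rfl
      · exact mem_sup_left (mem_zpowers _)
      · exact mem_sup_right (kSub_le hb0K)
    have hg' : π g ^ 2 = 1 := hg
    rw [← map_pow] at hg'
    exact (QuotientGroup.eq_one_iff _).1 hg'
  have hWZ : W ≤ Z := by
    refine sup_le (zpowers_le.2 ⟨?_, fun h => ?_⟩) fun s hs => ⟨?_, fun h => kq_comm hs h⟩
    · congr 1
      refine Subtype.ext ?_
      rw [hσ, SubgroupClass.coe_pow, hx0]
      show x * (x ^ 2) ^ 2 * x⁻¹ = (x ^ 2) ^ 2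
      group
    · have := kq_sq_comm x0 h
      rwa [zpow_two, ← pow_two, ← map_pow] at this
    · have hq1 : ∀ u ∈ kSub (frattini X), q u = 1 := fun u hu => (QuotientGroup.eq_one_iff u).2 hu
      have hgen0 := closure_of_bicyclicPair hb0
      rcases mem_or_inv_mul_mem hgen0 hs with h | h
      · rw [hq1 _ h, hq1 _ (hσK s h)]
      · rcases mem_or_inv_mul_mem hgen0 (hσC s hs) with h' | h'
        · have h1 := hσK' s h'
          rw [hq1 _ h1, hq1 _ h']
        · exact (QuotientGroup.eq.2 h').symm.trans (QuotientGroup.eq.2 h)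
  obtain ⟨hf1, hf2⟩ := hWZ (hΦW hf)
  set f := b0⁻¹ * σ b0 with hfdef
  have hσb : q (σ b0) = q b0 * q f := by rw [← map_mul, hfdef, mul_inv_cancel_left]
  have hf2' : q f * q f = 1 := by
    have e : q ((σ b0) ^ 2) = 1 := by
      rw [← map_pow]; exact (QuotientGroup.eq_one_iff _).2 (hσK _ hb0K)
    have e2 : q (b0 ^ 2) = 1 := (QuotientGroup.eq_one_iff _).2 hb0K
    rw [map_pow, hσb, (hf2 b0).symm.mul_pow, ← map_pow q b0, e2, one_mul, pow_two] at e
    exact e
  have hσσb : q (σ (σ b0)) = q b0 := by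
    have : σ (σ b0) = σ b0 * σ f := by rw [← map_mul, hfdef, mul_inv_cancel_left]
    rw [this, map_mul, hσb, hf1, mul_assoc, hf2', mul_one]
  rw [hσσ] at hσσb
  refine commutator_ne_bot hb0 hm0 (commutator_eq_bot_of_kSub_eq hX0
    (le_antisymm kSub_le (commutator_le_of_pair hgen ((QuotientGroup.eq_one_iff _).1 ?_))))
  show q (x0 * b0 * x0⁻¹ * b0⁻¹) = 1
  rw [map_mul, hσσb, map_inv, mul_inv_cancel]

end CfsgLib.Fusion.Bicyclic
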