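import Cfsg.Agent.Lib.Fusion.Bicyclic.Model
import Cfsg.Agent.Lib.Fusion.Bicyclic.Ambient
import Cfsg.Agent.Lib.Fusion.ChainObstruction
import Cfsg.Agent.Lib.Fusion.Transport

/-!
Bicyclic nonmetacyclic `2`-groups with cyclic derived group carry a saturated system which is not
inner.
-/

set_option autoImplicit false

namespace CfsgLib.Fusion.Bicyclic

open Subgroup Cfsg Cfsg.FusionSystem

universe u

/-- Two groups with the same relations: the homomorphism between them. -/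
theorem exists_embedding {X : Type u} [Group X] [Finite X] {G : Type} [Group G] [Finite G]
    {a b c : X} {A B C : G} {n r α v ε : ℕ} (R : Rels a b c n r α v ε) (R' : Rels A B C n r α v ε)
    (hgen : closure ({a, b} : Set X) = ⊤) (hcard : Nat.card X = 2 ^ (r + 1 + n))
    (hinj : ∀ i e k : ℕ, i < 2 ^ r → e < 2 → k < 2 ^ n → A ^ i * B ^ e * C ^ k = 1 →
      i = 0 ∧ e = 0 ∧ k = 0) :
    ∃ ι : X →* G, Function.Injective ι ∧ ι a = A ∧ ι b = B ∧ ι c = C := by
  let Γ : Subgroup (X × G) := closure ({(a, A), (b, B)} : Set (X × G))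
  have RP : Rels ((a, A) : X × G) (b, B) (c, C) n r α v ε :=
    ⟨Prod.ext R.hab R'.hab, Prod.ext R.hac R'.hac, Prod.ext R.hbc R'.hbc, Prod.ext R.hb2 R'.hb2,
      Prod.ext R.hav R'.hav, Prod.ext R.hc R'.hc⟩
  let p : Γ →* X := (MonoidHom.fst X G).comp Γ.subtype
  have hp : Function.Surjective p := by
    rw [← MonoidHom.range_eq_top, eq_top_iff, ← hgen, closure_le]
    rintro g (rfl | rfl)
    · exact ⟨⟨(g, A), subset_closure (Or.inl rfl)⟩, rfl⟩
    · exact ⟨⟨(g, B), subset_closure (Or.inr rfl)⟩, rfl⟩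
  have hle : Nat.card X ≤ Nat.card Γ := Nat.card_le_card_of_surjective p hp
  have hbij : Function.Bijective p :=
    (Nat.bijective_iff_surjective_and_card p).2
      ⟨hp, le_antisymm (RP.card_closure_le.trans_eq hcard.symm) hle⟩
  let e : Γ ≃* X := MulEquiv.ofBijective p hbij
  let ι : X →* G := ((MonoidHom.snd X G).comp Γ.subtype).comp e.symm.toMonoidHom
  have hval : ∀ q : Γ, ι (q : X × G).1 = (q : X × G).2 := fun q => by
    show ((e.symm (e q) : Γ) : X × G).2 = _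
    rw [e.symm_apply_apply]
  have ha : ι a = A := hval ⟨(a, A), subset_closure (Or.inl rfl)⟩
  have hb : ι b = B := hval ⟨(b, B), subset_closure (Or.inr rfl)⟩
  have hc : ι c = C := by
    rw [show c = b⁻¹ * (a * b * a⁻¹) by rw [R.hab, inv_mul_cancel_left],
      show C = B⁻¹ * (A * B * A⁻¹) by rw [R'.hab, inv_mul_cancel_left]]
    simp only [map_mul, map_inv, ha, hb]
  refine ⟨ι, (injective_iff_map_eq_one ι).2 fun g hg => ?_, ha, hb, hc⟩
  obtain ⟨i, e', k, hi, he, hk, rfl⟩ := R.exists_form (hgen.ge (mem_top g))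
  rw [map_mul, map_mul, map_pow, map_pow, map_pow, ha, hb, hc] at hg
  obtain ⟨rfl, rfl, rfl⟩ := hinj i e' k hi he hk hg
  simp

variable {Ω : Type u} [Group Ω] {S : Subgroup Ω}

/-- If the derived group is cyclic, there is a saturated system which is not inner. -/
theorem exists_noninner [Finite S] {x y : S} (H : Hyp x y) (hcyc : IsCyclic (commutator S)) :
    ∃ F : FusionSystem S, F.IsSaturated 2 ∧
      ¬ ∀ P : Subgroup Ω, F.Hom P = (innerFusionSystem S).Hom P := by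
  haveI : Fact (Nat.Prime 2) := ⟨Nat.prime_two⟩
  obtain ⟨a, b, c, n, r, j, v, ε, hP⟩ := exists_params H hcyc
  obtain ⟨G, _, _, A, B, C, R', hinj, ⟨o, ho, hG⟩, g, m, hg⟩ :=
    Ambient.exists_ambient hP.one_le hP.eps_le hP.eps_two hP.sum_dvd hP.fix_dvd
  obtain ⟨ι, hι, -, hιb, hιc⟩ := exists_embedding hP.rels R' hP.hgen hP.card_eq hinj
  have hrange : Nat.card ι.range = 2 ^ (r + 1 + n) := by
    rw [← Nat.card_congr (MonoidHom.ofInjective hι).toEquiv, hP.card_eq]
  obtain ⟨T, hT⟩ : ∃ T : Sylow 2 G, (T : Subgroup G) = ι.range := by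
    refine ⟨Sylow.ofCard ι.range ?_, rfl⟩
    rw [hrange, hG, Nat.factorization_mul (pow_ne_zero _ two_ne_zero) ho.pos.ne',
      Finsupp.add_apply, Nat.factorization_pow_self Nat.prime_two,
      Nat.factorization_eq_zero_of_not_dvd
        (fun h => (Nat.not_even_iff_odd.2 ho) (even_iff_two_dvd.2 h)), add_zero]
  let F := realizedSystem S ι hι
  have hF : F.IsRealizedBy ι :=
    ⟨hι, fun P hP φ hφ => ⟨fun h => h.2.2, fun h => ⟨hP, hφ, h⟩⟩⟩
  refine ⟨F, saturated_of_isRealizedBy hF T hT, fun hall => hP.notMem ?_⟩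
  -- `b` is fused with a power of `c`
  let P := Subgroup.zpowers (b : Ω)
  have hPS : P ≤ S := zpowers_le.2 b.2
  let f : P →* G := ((MulAut.conj g).toMonoidHom.comp ι).comp (Subgroup.inclusion hPS)
  have hf : ∀ p : P, f p ∈ ι.range := by
    rintro ⟨q, hq⟩
    obtain ⟨i, rfl⟩ := mem_zpowers_iff.1 hq
    refine ⟨(c ^ m) ^ i, ?_⟩
    show ι ((c ^ m) ^ i) = g * ι ⟨(b : Ω) ^ i, _⟩ * g⁻¹
    rw [show (⟨(b : Ω) ^ i, hPS hq⟩ : S) = b ^ i from Subtype.ext (by simp), map_zpow, map_pow,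
      map_zpow, hιb, hιc, ← hg, conj_zpow]
  let φ : P →* Ω :=
    S.subtype.comp ((MonoidHom.ofInjective hι).symm.toMonoidHom.comp (f.codRestrict ι.range hf))
  have hφS : ∀ p : P, φ p ∈ S := fun p =>
    ((MonoidHom.ofInjective hι).symm (f.codRestrict ι.range hf p)).2
  have hφι : ∀ p : P, ι ⟨φ p, hφS p⟩ = f p := fun p => by
    show ι ((MonoidHom.ofInjective hι).symm (f.codRestrict ι.range hf p)) = f p
    rw [← MonoidHom.ofInjective_apply hι, MulEquiv.apply_symm_apply]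
    rfl
  have hφF : φ ∈ F.Hom P := ⟨hPS, hφS, g, fun p => hφι p⟩
  rw [hall P] at hφF
  obtain ⟨-, s, hs, hs'⟩ := hφF
  have hbm : (⟨φ ⟨b, mem_zpowers _⟩, hφS _⟩ : S) = c ^ m := hι (by
    rw [hφι, map_pow, hιc, ← hg, ← hιb]
    rfl)
  have hcm : (⟨s, hs⟩ : S) * b * (⟨s, hs⟩ : S)⁻¹ = c ^ m :=
    (Subtype.ext (hs' ⟨b, mem_zpowers _⟩).symm).trans hbm
  have := hP.normal.conj_mem _ (pow_mem (mem_zpowers c) m) (⟨s, hs⟩ : S)⁻¹
  rw [← hcm] at this
  simpa [mul_assoc] using this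

end CfsgLib.Fusion.Bicyclic
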