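import Cfsg.Agent.Lib.Fusion.Bicyclic.Derived
import Mathlib.Algebra.Ring.GeomSum
import Mathlib.RingTheory.ZMod.UnitsCyclic

/-!
Bicyclic nonmetacyclic `2`-groups with cyclic derived group: normal forms and relations.
-/

set_option autoImplicit false

namespace CfsgLib.Fusion.Bicyclic

open Subgroup Cfsg

universe u

/-- The relations of a bicyclic `2`-group with cyclic derived group generated by `c`. -/
structure Rels {Y : Type*} [Group Y] (a b c : Y) (n r α v ε : ℕ) : Prop where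
  hab : a * b * a⁻¹ = b * c
  hac : a * c * a⁻¹ = c ^ α
  hbc : b * c * b⁻¹ = c⁻¹
  hb2 : b ^ 2 = c ^ (ε * 2 ^ (n - 1))
  hav : a ^ 2 ^ r = c ^ v
  hc : c ^ 2 ^ n = 1

namespace Rels

variable {Y : Type*} [Group Y] {a b c : Y} {n r α v ε : ℕ} (R : Rels a b c n r α v ε)

include R

theorem conj_a_pow (i : ℕ) : a ^ i * c * (a ^ i)⁻¹ = c ^ α ^ i := by
  induction i with
  | zero => simp
  | succ i ih =>
    calc a ^ (i + 1) * c * (a ^ (i + 1))⁻¹ = a * (a ^ i * c * (a ^ i)⁻¹) * a⁻¹ := by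
          rw [pow_succ']; group
      _ = c ^ α ^ (i + 1) := by rw [ih, ← conj_pow, R.hac, ← pow_mul, ← pow_succ']

theorem conj_a_pow_zpow (i : ℕ) (k : ℤ) :
    a ^ i * c ^ k * (a ^ i)⁻¹ = c ^ ((α ^ i : ℕ) * k : ℤ) := by
  rw [← conj_zpow, R.conj_a_pow, ← zpow_natCast, ← zpow_mul]

theorem inv_conj_a : a⁻¹ * c * a = c ^ α ^ (2 ^ r - 1) := by
  have h := R.conj_a_pow (2 ^ r - 1)
  have he : a ^ (2 ^ r - 1) = a⁻¹ * c ^ v := by
    rw [← R.hav, ← pow_sub_one_mul (pow_ne_zero r two_ne_zero) a, ← mul_assoc]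
    have : Commute a⁻¹ (a ^ (2 ^ r - 1)) := ((Commute.refl a).inv_left).pow_right _
    rw [this.eq, inv_mul_cancel_right]
  rw [← h, he]
  group

theorem inv_conj_a_zpow (k : ℤ) : a⁻¹ * c ^ k * a = c ^ ((α ^ (2 ^ r - 1) : ℕ) * k : ℤ) := by
  have : a⁻¹ * c ^ k * a = (a⁻¹ * c * a) ^ k := by
    conv_rhs => rw [← inv_inv a, inv_inv a⁻¹, conj_zpow]
    rw [inv_inv]
  rw [this, R.inv_conj_a, ← zpow_natCast, ← zpow_mul]

theorem conj_b_zpow (k : ℤ) : b * c ^ k * b⁻¹ = c ^ (-k) := by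
  rw [← conj_zpow, R.hbc, inv_zpow', ]

theorem zpow_mul_b (k : ℤ) : c ^ k * b = b * c ^ (-k) := by
  have h := R.conj_b_zpow (-k)
  rw [neg_neg] at h
  rw [← h, inv_mul_cancel_right]

theorem zpow_mul_a (k : ℤ) : c ^ k * a = a * c ^ ((α ^ (2 ^ r - 1) : ℕ) * k : ℤ) := by
  rw [← R.inv_conj_a_zpow]; group

theorem b_mul_a : b * a = a * (b * c ^ (-(α ^ (2 ^ r - 1) : ℕ) : ℤ)) := by
  have h : a⁻¹ * b * a * (a⁻¹ * c * a) = b := by
    calc a⁻¹ * b * a * (a⁻¹ * c * a) = a⁻¹ * (b * c) * a := by group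
      _ = b := by rw [← R.hab]; group
  rw [R.inv_conj_a] at h
  rw [zpow_neg, zpow_natCast, ← eq_mul_inv_of_mul_eq h]
  group

/-- Normal forms in the subgroup generated by `a` and `b`. -/
theorem exists_form {g : Y} (hg : g ∈ closure ({a, b} : Set Y)) :
    ∃ i e k : ℕ, i < 2 ^ r ∧ e < 2 ∧ k < 2 ^ n ∧ g = a ^ i * b ^ e * c ^ k := by
  let W : Y → Prop := fun g => ∃ (i e : ℕ) (k : ℤ), e < 2 ∧ g = a ^ i * b ^ e * c ^ k
  have hWc : ∀ g (m : ℤ), W g → W (g * c ^ m) := by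
    rintro g m ⟨i, e, k, he, rfl⟩
    exact ⟨i, e, k + m, he, by rw [zpow_add, mul_assoc]⟩
  have hWb : ∀ g, W g → W (g * b) := by
    rintro g ⟨i, e, k, he, rfl⟩
    rw [mul_assoc (a ^ i * b ^ e), R.zpow_mul_b, ← mul_assoc]
    interval_cases e
    · exact ⟨i, 1, -k, by norm_num, by simp⟩
    · refine hWc _ (-k) ⟨i, 0, (ε * 2 ^ (n - 1) : ℕ), by norm_num, ?_⟩
      rw [zpow_natCast, ← R.hb2, pow_one, pow_zero, mul_one, pow_two, mul_assoc]
  have hWa : ∀ g, W g → W (g * a) := by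
    rintro g ⟨i, e, k, he, rfl⟩
    rw [mul_assoc (a ^ i * b ^ e), R.zpow_mul_a, ← mul_assoc]
    refine hWc _ _ ?_
    interval_cases e
    · exact ⟨i + 1, 0, 0, by norm_num, by simp [pow_succ]⟩
    · refine ⟨i + 1, 1, -(α ^ (2 ^ r - 1) : ℕ), by norm_num, ?_⟩
      rw [pow_one, mul_assoc (a ^ i), R.b_mul_a, pow_succ]
      group
  have hpow : ∀ (x : Y), (∀ g, W g → W (g * x)) → ∀ (m : ℕ) g, W g → W (g * x ^ m) := by
    intro x hx m
    induction m with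
    | zero => intro g hg; simpa using hg
    | succ m ih => intro g hg; rw [pow_succ, ← mul_assoc]; exact hx _ (ih g hg)
  have hainv : a⁻¹ = a ^ (2 ^ r - 1) * c ^ (-(v : ℤ)) := by
    rw [zpow_neg, zpow_natCast, ← R.hav, ← pow_sub_one_mul (pow_ne_zero r two_ne_zero) a]
    group
  have hbinv : b⁻¹ = b * c ^ (-((ε * 2 ^ (n - 1) : ℕ) : ℤ)) := by
    rw [zpow_neg, zpow_natCast, ← R.hb2]
    group
  have hW : W g := by
    induction hg using closure_induction_right with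
    | one => exact ⟨0, 0, 0, by norm_num, by simp⟩
    | mul_right x _ y hy ih =>
      rcases hy with rfl | rfl
      exacts [hWa _ ih, hWb _ ih]
    | mul_inv_cancel x _ y hy ih =>
      rcases hy with rfl | rfl
      · rw [hainv, ← mul_assoc]
        exact hWc _ _ (hpow _ hWa _ _ ih)
      · rw [hbinv, ← mul_assoc]
        exact hWc _ _ (hWb _ ih)
  obtain ⟨i, e, k, he, rfl⟩ := hW
  obtain ⟨k', hk'⟩ : ∃ k' : ℤ, a ^ i * b ^ e * c ^ k = a ^ (i % 2 ^ r) * b ^ e * c ^ k' := by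
    have h1 : a ^ i = a ^ (i % 2 ^ r) * c ^ ((v * (i / 2 ^ r) : ℕ) : ℤ) := by
      rw [zpow_natCast, pow_mul c v, ← R.hav, ← pow_mul, ← pow_add, Nat.mod_add_div]
    interval_cases e
    · exact ⟨(v * (i / 2 ^ r) : ℕ) + k, by rw [h1, pow_zero, mul_one, mul_one, zpow_add, mul_assoc]⟩
    · refine ⟨-((v * (i / 2 ^ r) : ℕ) : ℤ) + k, ?_⟩
      rw [h1, pow_one, mul_assoc (a ^ (i % 2 ^ r)), R.zpow_mul_b, zpow_add]
      group
  refine ⟨i % 2 ^ r, e, (k' % (2 ^ n : ℕ)).toNat, Nat.mod_lt _ (by positivity), he, ?_, ?_⟩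
  · have h1 := Int.emod_lt_of_pos k' (b := ((2 ^ n : ℕ) : ℤ)) (by positivity)
    have h0 := Int.emod_nonneg k' (b := ((2 ^ n : ℕ) : ℤ)) (by positivity)
    omega
  · rw [hk', ← zpow_natCast c (k' % _).toNat,
      Int.toNat_of_nonneg (Int.emod_nonneg k' (by positivity))]
    congr 1
    conv_lhs => rw [← Int.emod_add_mul_ediv k' ((2 ^ n : ℕ) : ℤ)]
    rw [zpow_add, zpow_mul, zpow_natCast, R.hc, one_zpow, mul_one]

theorem card_closure_le : Nat.card (closure ({a, b} : Set Y)) ≤ 2 ^ (r + 1 + n) := by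
  classical
  have hmem : ∀ p : Fin (2 ^ r) × Fin 2 × Fin (2 ^ n),
      a ^ (p.1 : ℕ) * b ^ (p.2.1 : ℕ) * c ^ (p.2.2 : ℕ) ∈ closure ({a, b} : Set Y) := by
    intro p
    have hA : a ∈ closure ({a, b} : Set Y) := subset_closure (Or.inl rfl)
    have hB : b ∈ closure ({a, b} : Set Y) := subset_closure (Or.inr rfl)
    have hC : c ∈ closure ({a, b} : Set Y) := by
      have : c = b⁻¹ * (a * b * a⁻¹) := by rw [R.hab, inv_mul_cancel_left]
      rw [this]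
      exact mul_mem (inv_mem hB) (mul_mem (mul_mem hA hB) (inv_mem hA))
    exact mul_mem (mul_mem (pow_mem hA _) (pow_mem hB _)) (pow_mem hC _)
  calc Nat.card (closure ({a, b} : Set Y))
      ≤ Nat.card (Fin (2 ^ r) × Fin 2 × Fin (2 ^ n)) :=
        Nat.card_le_card_of_surjective (fun p => ⟨_, hmem p⟩) fun g => by
          obtain ⟨i, e, k, hi, he, hk, h⟩ := R.exists_form g.2
          exact ⟨(⟨i, hi⟩, ⟨e, he⟩, ⟨k, hk⟩), Subtype.ext h.symm⟩
    _ = 2 ^ (r + 1 + n) := by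
        rw [Nat.card_prod, Nat.card_prod, Nat.card_fin, Nat.card_fin, Nat.card_fin]; ring

end Rels

theorem five_pow_two_pow (m : ℕ) : ∃ q : ℤ, (5 : ℤ) ^ 2 ^ m = 1 + 2 ^ (m + 2) * (2 * q + 1) := by
  induction m with
  | zero => exact ⟨0, by norm_num⟩
  | succ m ih =>
    obtain ⟨q, hq⟩ := ih
    refine ⟨q + 2 ^ m * (2 * q + 1) ^ 2, ?_⟩
    rw [pow_succ (2 : ℕ), pow_mul, hq]
    ring

theorem exists_five_pow (n : ℕ) {α : ℤ} (hα : 4 ∣ α - 1) :
    ∃ j : ℕ, (2 : ℤ) ^ n ∣ (5 : ℤ) ^ j - α := by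
  induction n with
  | zero => exact ⟨0, by simp⟩
  | succ n ih =>
    by_cases hn : n < 2
    · refine ⟨0, dvd_trans (pow_dvd_pow 2 (by omega : n + 1 ≤ 2)) ?_⟩
      rw [show (5 : ℤ) ^ 0 - α = -(α - 1) by ring]
      exact (dvd_neg.2 (by norm_num; exact hα))
    obtain ⟨j, q, hq⟩ := ih
    rcases Int.even_or_odd q with ⟨t, rfl⟩ | ⟨t, rfl⟩
    · exact ⟨j, t, by rw [hq]; ring⟩
    · obtain ⟨m, rfl⟩ : ∃ m, n = m + 2 := ⟨n - 2, by omega⟩
      obtain ⟨w, hw⟩ := five_pow_two_pow m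
      obtain ⟨k, hk⟩ : Odd ((5 : ℤ) ^ j * (2 * w + 1)) :=
        ((by decide : Odd (5 : ℤ)).pow).mul ⟨w, rfl⟩
      refine ⟨j + 2 ^ m, t + k + 1, ?_⟩
      have : (5 : ℤ) ^ (j + 2 ^ m) - α =
          ((5 : ℤ) ^ j - α) + 2 ^ (m + 2) * ((5 : ℤ) ^ j * (2 * w + 1)) := by
        rw [pow_add, hw]; ring
      rw [this, hq, hk]
      ring

/-- `5` has order `2 ^ t` modulo `2 ^ (t + 2)`. -/
theorem two_pow_dvd_of_five {t m : ℕ} (h : (2 : ℤ) ^ (t + 2) ∣ (5 : ℤ) ^ m - 1) : 2 ^ t ∣ m := by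
  rw [← ZMod.orderOf_five t]
  refine orderOf_dvd_of_pow_eq_one ?_
  have := (ZMod.intCast_zmod_eq_zero_iff_dvd ((5 : ℤ) ^ m - 1) (2 ^ (t + 2))).2 (by push_cast; exact h)
  push_cast at this
  exact sub_eq_zero.1 this

end CfsgLib.Fusion.Bicyclic
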