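import Cfsg.Agent.Lib.Fusion.Bicyclic.Forward
import Cfsg.Agent.Lib.Fusion.NormalCriterion
import Cfsg.Agent.Lib.Fusion.RankTwoRadical

/-!
Bicyclic nonmetacyclic `2`-groups with noncyclic derived group carry only the inner saturated
fusion system.
-/

set_option autoImplicit false

namespace CfsgLib.Fusion.Bicyclic

open Subgroup Cfsg Cfsg.FusionSystem
open CfsgLib.Fusion.RankThree (frattiniAut frattiniAut_apply)

universe u

/-- The automorphism group of a bicyclic nonmetacyclic `2`-group is a `2`-group. -/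
theorem Hyp.isPGroup_mulAut {X : Type u} [Group X] [Finite X] {x y : X} (H : Hyp x y) :
    IsPGroup 2 (MulAut X) := by
  haveI : Fact (Nat.Prime 2) := ⟨Nat.prime_two⟩
  obtain ⟨b, hbΦ, hb2, hgen, huniq⟩ := exists_special_pair H.hX H.hb H.hm
  have hchar : ∀ (σ : MulAut X) (g : X), σ g ∈ frattini X ↔ g ∈ frattini X := fun σ g => by
    have h : (frattini X).comap σ.toMonoidHom = frattini X :=
      (inferInstance : (frattini X).Characteristic).fixed σ
    nth_rewrite 2 [← h]
    rfl
  have hinv : ∀ (σ : MulAut X) (g u : X),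
      (σ g)⁻¹ * σ u ∈ frattini X ↔ g⁻¹ * u ∈ frattini X := fun σ g u => by
    rw [← map_inv, ← map_mul, hchar]
  have hσb : ∀ σ : MulAut X, b⁻¹ * σ b ∈ frattini X := fun σ => by
    refine huniq _ (fun h => hbΦ ((hchar σ b).1 h)) ?_
    rw [← map_pow, ← kSub_map σ.toMonoidHom σ.surjective]
    exact mem_map_of_mem _ hb2
  have hx := (frattini_pair H.hX H.hb H.hm).1
  have hxb : x⁻¹ * b ∉ frattini X := fun h => H.hm (isMetacyclic_of_generator (y := x)
    (CfsgLib.PGroups.closure_eq_top_of_sup_frattini (top_le_iff.1 (hgen ▸ (closure_le _).2 (by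
      rintro v (rfl | rfl)
      · exact mem_sup_left (subset_closure rfl)
      · have := mul_mem (mem_sup_left (subset_closure rfl) :
          x ∈ closure ({x} : Set X) ⊔ frattini X) (mem_sup_right h)
        rwa [mul_inv_cancel_left] at this)))))
  let q : X →* X ⧸ frattini X := QuotientGroup.mk' (frattini X)
  have hq : ∀ {g u : X}, g⁻¹ * u ∈ frattini X ↔ q g = q u := fun {g u} => QuotientGroup.eq.symm
  have hsq : ∀ σ : MulAut X, frattiniAut X (σ ^ 2) = 1 := by
    intro σ
    have hrep : ∀ g : X, g ∉ frattini X → q g = q x ∨ q g = q y ∨ q g = q (x * y) := by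
      intro g hg
      obtain ⟨r, hr, hrg⟩ := H.rep_cases hg
      simp only [Set.mem_insert_iff, Set.mem_singleton_iff] at hr
      rcases hr with rfl | rfl | rfl
      exacts [Or.inl (hq.1 hrg).symm, Or.inr (Or.inl (hq.1 hrg).symm),
        Or.inr (Or.inr (hq.1 hrg).symm)]
    have hσx : σ x ∉ frattini X := fun h => hx ((hchar σ x).1 h)
    have hσσx : σ (σ x) ∉ frattini X := fun h => hσx ((hchar σ _).1 h)
    have n1 : q x ≠ q b := fun e => hxb (hq.2 e)
    have n2 : q (σ x) ≠ q b := fun e =>
      hxb ((hinv σ x b).1 (hq.2 (e.trans (hq.1 (hσb σ)))))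
    have n3 : q (σ (σ x)) ≠ q b := fun e =>
      hxb ((hinv σ x b).1 ((hinv σ _ _).1
        (hq.2 (e.trans ((hq.1 (hσb σ)).trans (hq.1 ((hinv σ b (σ b)).2 (hσb σ))))))))
    have key : q (σ (σ x)) = q x := by
      by_cases e : q (σ x) = q x
      · exact (hq.1 ((hinv σ _ _).2 (hq.2 e))).trans e
      have n4 : q (σ (σ x)) ≠ q (σ x) := fun e' => e (hq.1 ((hinv σ _ _).1 (hq.2 e')))
      rcases hrep x hx with a | a | a <;> rcases hrep b hbΦ with c | c | c <;>
        rcases hrep _ hσx with d | d | d <;> rcases hrep _ hσσx with f | f | f <;>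
        first
          | exact f.trans a.symm
          | exact absurd (d.trans a.symm) e
          | exact absurd (a.trans c.symm) n1
          | exact absurd (d.trans c.symm) n2
          | exact absurd (f.trans c.symm) n3
          | exact absurd (f.trans d.symm) n4
    have hker : closure ({x, b} : Set X) ≤
        MonoidHom.eqLocus ((frattiniAut X (σ ^ 2)).toMonoidHom.comp q) q := by
      rw [closure_le]
      rintro v (rfl | rfl) <;> show q ((σ ^ 2) _) = q _ <;> rw [pow_two, MulAut.mul_apply]
      · exact key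
      · exact ((hq.1 (hσb σ)).trans (hq.1 ((hinv σ _ _).2 (hσb σ)))).symm
    refine MulEquiv.ext fun v => ?_
    obtain ⟨g, rfl⟩ := QuotientGroup.mk'_surjective _ v
    exact hker (hgen.ge (mem_top g))
  intro σ
  have hker : IsPGroup 2 (frattiniAut X).ker := by
    refine isPGroup_frattini_stabilizer H.hX _ fun e he v => ?_
    have h1 : ((e v : X) : X ⧸ frattini X) = v := by
      rw [← frattiniAut_apply, MonoidHom.mem_ker.1 he]; rfl
    have h3 := (inferInstance : (frattini X).Normal).conj_mem _ (QuotientGroup.eq.1 h1.symm) v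
    simpa [mul_assoc] using h3
  obtain ⟨k, hk⟩ := hker ⟨σ ^ 2, hsq σ⟩
  exact ⟨k + 1, by rw [pow_succ', pow_mul]; exact congrArg Subtype.val hk⟩

variable {Ω : Type u} [Group Ω] {S : Subgroup Ω}

/-- If the derived group is not cyclic, the inner system is the only saturated one. -/
theorem hom_eq_inner [Finite S] {x y : S} (H : Hyp x y) (hnc : ¬ IsCyclic (commutator S))
    {F : FusionSystem S} (hF : F.IsSaturated 2) (Q : Subgroup Ω) :
    F.Hom Q = (innerFusionSystem S).Hom Q := by
  haveI : Fact (Nat.Prime 2) := ⟨Nat.prime_two⟩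
  have hS : IsPGroup 2 S := H.hX
  suffices hFi : F = innerFusionSystem S by rw [hFi]
  refine fusionSystem_antisymm (alperin hS hF _ fun P hP => ?_) (innerFusionSystem_le F)
  rcases hP with rfl | hP
  · have := finite_mulAut_of_le (S := P) le_rfl
    obtain ⟨R, hR⟩ := IsSaturated.top_autGroup_sylow hS hF
    have htop := R.is_maximal' ((H.isPGroup_mulAut.to_subgroup (F.autGroup P)).to_subgroup ⊤) le_top
    rw [inner_autGroup le_rfl, autInducedBy_self_eq]
    intro α hα
    exact (hR.le (htop.le (Subgroup.mem_top (⟨α, hα⟩ : F.autGroup P))) : _)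
  exfalso
  have hA : ¬ IsPGroup 2 (F.autGroup P) := fun h => not_isEssential_of_isPGroup h hP
  have hr := IsEssential.isRadical hS hP
  obtain ⟨hc, hn, -⟩ := hP
  obtain ⟨hPS, R, hR⟩ := IsSaturated.fullyAutomized hS hF hn
  have := finite_mulAut_of_le (S := S) hPS
  let e : P.subgroupOf S ≃* P := Subgroup.subgroupOfEquivOfLe hPS
  let c : MulAut P ≃* MulAut (P.subgroupOf S) := MulAut.congr e.symm
  have hcapp : ∀ (α : MulAut P) (v : P.subgroupOf S),
      (((c α v : P.subgroupOf S) : S) : Ω) = ((α (e v) : P) : Ω) := fun _ _ => rfl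
  have hind : ∀ α : MulAut P, c α ∈ autInducedBy ⊤ (P.subgroupOf S) ↔ α ∈ autInducedBy S P := by
    intro α
    rw [mem_autInducedBy_iff, mem_autInducedBy_iff]
    constructor
    · rintro ⟨g, -, h⟩
      refine ⟨g, g.2, fun v => ?_⟩
      have := congrArg Subtype.val (h (e.symm v))
      rw [hcapp, e.apply_symm_apply] at this
      exact this
    · rintro ⟨g, hg, h⟩
      exact ⟨⟨g, hg⟩, mem_top _, fun v => Subtype.ext (h (e v))⟩
  have hinn : ∀ α : MulAut P, α ∈ Inn P → c α ∈ Inn (P.subgroupOf S) := by
    rintro _ ⟨g, rfl⟩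
    exact ⟨e.symm g, MulEquiv.ext fun v => Subtype.ext (Subtype.ext rfl)⟩
  let A0 : Subgroup (MulAut (P.subgroupOf S)) := (F.autGroup P).map c.toMonoidHom
  have hD : AutData (P.subgroupOf S) A0 :=
    { ne_top := fun h => hA (by
        obtain rfl : P = S := le_antisymm hPS (Subgroup.subgroupOf_eq_top.1 h)
        exact H.isPGroup_mulAut.to_subgroup _)
      induced_le := fun β hβ => ⟨c.symm β, autInducedBy_le_autGroup hPS
        ((hind _).1 ((c.apply_symm_apply β).symm ▸ hβ)), c.apply_symm_apply β⟩
      maximal := fun B hB hBA hle => by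
        refine le_antisymm (fun β hβ => ?_) hle
        let B' : Subgroup (F.autGroup P) := B.comap (c.toMonoidHom.comp (F.autGroup P).subtype)
        have hB' : IsPGroup 2 B' :=
          hB.comap_of_injective (c.toMonoidHom.comp (F.autGroup P).subtype)
            (c.injective.comp Subtype.val_injective)
        have hRB : (R : Subgroup (F.autGroup P)) ≤ B' := by
          intro a ha
          exact hle ((hind a).2 (hR.le ha))
        obtain ⟨α, hα, rfl⟩ := hBA hβ
        exact (hind α).2 (hR.le ((R.is_maximal' hB' hRB).le (show (⟨α, hα⟩ : F.autGroup P) ∈ B'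
          from hβ)))
      centric := fun g hg => hc.2 P (isConj_refl hPS) (mem_centralizerIn.2
        ⟨g.2, fun v hv => (congrArg Subtype.val (hg ⟨v, hPS hv⟩ hv)).symm⟩)
      radical := fun K hK hn hK2 κ hκ => by
        obtain ⟨α, hα, rfl⟩ := hK hκ
        refine hinn α (mem_inn_of_normal hS hPS hr (K := K.comap c.toMonoidHom) ?_ ?_
          (hK2.comap_of_injective c.toMonoidHom c.injective) hκ)
        · intro β hβ
          obtain ⟨γ, hγ, e'⟩ := hK hβ
          exact c.injective e' ▸ hγ
        · intro β hβ γ hγ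
          show c (β * γ * β⁻¹) ∈ K
          rw [map_mul, map_mul, map_inv]
          exact hn _ (mem_map_of_mem _ hβ) _ hγ
      not_pgroup := fun h => hA (h.of_equiv
        ((F.autGroup P).equivMapOfInjective c.toMonoidHom c.injective).symm) }
  exact AutData.false_of_autData hD H hnc

end CfsgLib.Fusion.Bicyclic
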